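import Cfsg.Agent.Lib.AutPSL.Sylow

/-!
# Elementary matrices in `SL_n`: generation of the unitriangular group, monomial elements, radicals
-/

set_option autoImplicit false
set_option linter.unusedSectionVars false

open Matrix

namespace CfsgLib.FusionCharP.Linear

open CfsgLib.AutPSL (ev tv proj unitri)

variable {n : ℕ} {F : Type*} [Field F]

local notation "SLn" => Matrix.SpecialLinearGroup (Fin n) F
local notation "Mn" => Matrix (Fin n) (Fin n) F

/-- The elementary transvection. -/
def el (i j : Fin n) (h : i ≠ j) (s : F) : SLn :=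
  tv (s • ev i) (ev j) (by rw [dotProduct_smul, CfsgLib.AutPSL.ev_dot h, smul_zero])

theorem el_val (i j : Fin n) (h : i ≠ j) (s : F) : (el i j h s).1 = 1 + Matrix.single i j s := by
  rw [el, CfsgLib.AutPSL.tv_val, CfsgLib.AutPSL.rk1, smul_vecMulVec, CfsgLib.AutPSL.vecMulVec_ev,
    Matrix.smul_single, smul_eq_mul, mul_one]

/-- A monomial element moving one elementary transvection to another. -/
theorem exists_conj_el (hn : 3 ≤ n) {i j a b : Fin n} (hij : i ≠ j) (hab : a ≠ b) {t s : F} (ht : t ≠ 0)
    (hs : s ≠ 0) :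
    ∃ g : SLn, g * el i j hij t * g⁻¹ = el a b hab s ∧
      ∀ u v, g.1 u v ≠ 0 → u = v ∨ ((v = i ∨ v = j ∨ v = a ∨ v = b) ∧ (u = i ∨ u = j ∨ u = a ∨ u = b)) := by
  classical
  set x := Equiv.swap i a j with hx
  have hxa : x ≠ a := fun e => hij ((Equiv.swap i a).injective (e.trans (Equiv.swap_apply_left i a).symm)).symm
  set σ : Equiv.Perm (Fin n) := Equiv.swap x b * Equiv.swap i a with hσ
  have hσi : σ i = a := by
    rw [hσ, Equiv.Perm.mul_apply, Equiv.swap_apply_left, Equiv.swap_apply_of_ne_of_ne hxa.symm hab]
  have hσj : σ j = b := by rw [hσ, Equiv.Perm.mul_apply, ← hx, Equiv.swap_apply_left]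
  obtain ⟨k, hk⟩ : ∃ k : Fin n, k ∉ ({i, j} : Finset (Fin n)) := by
    refine by_contra fun h => ?_
    push Not at h
    have := Finset.card_le_card (show (Finset.univ : Finset (Fin n)) ⊆ {i, j} from fun k _ => h k)
    rw [Finset.card_univ, Fintype.card_fin] at this
    have h2 : ({i, j} : Finset (Fin n)).card ≤ 2 := Finset.card_le_two
    omega
  simp only [Finset.mem_insert, Finset.mem_singleton, not_or] at hk
  set ε : F := ((Equiv.Perm.sign σ : ℤ) : F) with hε
  have hε2 : ε * ε = 1 := by
    rw [hε, ← Int.cast_mul, ← Units.val_mul, Int.units_mul_self, Units.val_one, Int.cast_one]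
  set c : Fin n → F := Function.update (Function.update (fun _ => 1) i (s / t)) k (ε * (t / s)) with hc
  have hci : c i = s / t := by rw [hc, Function.update_of_ne (Ne.symm hk.1), Function.update_self]
  have hcj : c j = 1 := by
    rw [hc, Function.update_of_ne (Ne.symm hk.2), Function.update_of_ne hij.symm]
  have hck : c k = ε * (t / s) := by rw [hc, Function.update_self]
  have hco : ∀ m, m ≠ i → m ≠ k → c m = 1 := fun m h1 h2 => by
    rw [hc, Function.update_of_ne h2, Function.update_of_ne h1]
  have hprod : ∏ m, c m = ε := by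
    rw [← Finset.prod_subset (Finset.subset_univ {i, k}) (fun m _ hm => by
      simp only [Finset.mem_insert, Finset.mem_singleton, not_or] at hm
      exact hco m hm.1 hm.2), Finset.prod_pair (Ne.symm hk.1), hci, hck]
    field_simp
  set M : Mn := Matrix.of fun u v => if u = σ v then c v else 0 with hM
  have hdet : M.det = 1 := by
    have he : M = (Matrix.diagonal c).submatrix (σ⁻¹ : Equiv.Perm (Fin n)) id := by
      ext u v
      rw [hM, Matrix.of_apply, Matrix.submatrix_apply, id, Matrix.diagonal_apply]
      by_cases h : u = σ v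
      · rw [if_pos h, if_pos (by rw [h, Equiv.Perm.inv_def, Equiv.symm_apply_apply]), h,
          Equiv.Perm.inv_def, Equiv.symm_apply_apply]
      · rw [if_neg h, if_neg]
        exact fun h' => h (by rw [← h', Equiv.Perm.inv_def, Equiv.apply_symm_apply])
    rw [he, Matrix.det_permute, Matrix.det_diagonal, hprod, Equiv.Perm.sign_inv]
    exact hε2
  obtain ⟨g₀, hg₀⟩ : ∃ g : SLn, g.1 = M := ⟨⟨M, hdet⟩, rfl⟩
  refine ⟨g₀, ?_, ?_⟩
  · rw [mul_inv_eq_iff_eq_mul]
    apply Subtype.ext
    rw [Matrix.SpecialLinearGroup.coe_mul, Matrix.SpecialLinearGroup.coe_mul, el_val, el_val, hg₀, mul_add,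
      add_mul, mul_one, one_mul]
    congr 1
    ext u v
    show (M * Matrix.single i j t) u v = (Matrix.single a b s * M) u v
    by_cases hv : v = j
    · subst hv
      rw [Matrix.mul_single_apply_same, hM, Matrix.of_apply, hσi, hci]
      by_cases hu : u = a
      · subst hu
        rw [Matrix.single_mul_apply_same, Matrix.of_apply, hσj, if_pos rfl, if_pos rfl, hcj, mul_one,
          div_mul_cancel₀ s ht]
      · rw [if_neg hu, zero_mul, Matrix.single_mul_apply_of_ne _ _ _ _ _ hu]
    · rw [Matrix.mul_single_apply_of_ne _ _ _ _ _ hv]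
      by_cases hu : u = a
      · subst hu
        rw [Matrix.single_mul_apply_same, hM, Matrix.of_apply, if_neg, mul_zero]
        exact fun h => hv (σ.injective (h.symm.trans hσj.symm))
      · rw [Matrix.single_mul_apply_of_ne _ _ _ _ _ hu]
  · intro u v huv
    have hu : u = σ v := by
      by_contra h
      exact huv (by rw [hg₀, hM, Matrix.of_apply, if_neg h])
    by_cases hv : v = i ∨ v = j ∨ v = a ∨ v = b
    · refine Or.inr ⟨hv, ?_⟩
      have hx' : x = i ∨ x = j ∨ x = a := by
        rcases eq_or_ne j a with h | h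
        · exact Or.inl (by rw [hx, h, Equiv.swap_apply_right])
        · exact Or.inr (Or.inl (by rw [hx, Equiv.swap_apply_of_ne_of_ne hij.symm h]))
      rw [hu, hσ, Equiv.Perm.mul_apply]
      have h1 : Equiv.swap i a v = i ∨ Equiv.swap i a v = j ∨ Equiv.swap i a v = a ∨ Equiv.swap i a v = b := by
        rcases eq_or_ne v i with h | h
        · exact Or.inr (Or.inr (Or.inl (by rw [h, Equiv.swap_apply_left])))
        rcases eq_or_ne v a with h' | h'
        · exact Or.inl (by rw [h', Equiv.swap_apply_right])
        rwa [Equiv.swap_apply_of_ne_of_ne h h']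
      rcases eq_or_ne (Equiv.swap i a v) x with h | h
      · exact Or.inr (Or.inr (Or.inr (by rw [h, Equiv.swap_apply_left])))
      rcases eq_or_ne (Equiv.swap i a v) b with h' | h'
      · rw [h', Equiv.swap_apply_right]
        rcases hx' with e | e | e
        · exact Or.inl e
        · exact Or.inr (Or.inl e)
        · exact Or.inr (Or.inr (Or.inl e))
      · rwa [Equiv.swap_apply_of_ne_of_ne h h']
    · simp only [not_or] at hv
      obtain ⟨h1, h2, h3, h4⟩ := hv
      refine Or.inl ?_
      rw [hu, hσ, Equiv.Perm.mul_apply, Equiv.swap_apply_of_ne_of_ne h1 h3,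
        Equiv.swap_apply_of_ne_of_ne ?_ h4]
      rw [hx]
      rcases eq_or_ne j a with h | h
      · rw [h, Equiv.swap_apply_right]; exact h1
      · rw [Equiv.swap_apply_of_ne_of_ne hij.symm h]; exact h2

/-- The unitriangular group is generated by its elementary transvections. -/
theorem unitri_le [Finite F] {H : Subgroup SLn}
    (hel : ∀ (i j : Fin n) (h : i < j) (s : F), el i j h.ne s ∈ H) : unitri ≤ H := by
  classical
  have hrow : ∀ (i : Fin n) (f : Fin n → F) (hf : f ⬝ᵥ ev i = 0), (∀ j, j ≤ i → f j = 0) →
      tv (ev i) f hf ∈ H := by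
    intro i
    suffices h : ∀ (s : Finset (Fin n)) (f : Fin n → F) (hf : f ⬝ᵥ ev i = 0),
        (∀ j, j ≤ i → f j = 0) → (∀ j, j ∉ s → f j = 0) → tv (ev i) f hf ∈ H from
      fun f hf h0 => h Finset.univ f hf h0 fun j hj => absurd (Finset.mem_univ j) hj
    intro s
    induction s using Finset.induction with
    | empty =>
      intro f hf _ h1
      rw [CfsgLib.AutPSL.tv_eq_one hf (by
        rw [show f = 0 from funext fun j => h1 j (Finset.notMem_empty j), vecMulVec_zero])]
      exact one_mem H
    | insert j s hj ih =>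
      intro f hf h0 h1
      by_cases hji : j ≤ i
      · exact ih f hf h0 fun k hk => by
          by_cases e : k = j
          · rw [e]; exact h0 j hji
          · exact h1 k (by rw [Finset.mem_insert, not_or]; exact ⟨e, hk⟩)
      · have hlt : i < j := not_le.1 hji
        set g := Function.update f j 0 with hgdef
        have hg0 : ∀ k, k ≤ i → g k = 0 := fun k hk => by
          rw [hgdef, Function.update_of_ne (fun e => hji (by rw [← e]; exact hk))]; exact h0 k hk
        have hg : g ⬝ᵥ ev i = 0 := by
          rw [ev, dotProduct_single, mul_one]; exact hg0 i le_rfl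
        have h2 := ih g hg hg0 fun k hk => by
          by_cases e : k = j
          · rw [hgdef, e, Function.update_self]
          · rw [hgdef, Function.update_of_ne e]
            exact h1 k (by rw [Finset.mem_insert, not_or]; exact ⟨e, hk⟩)
        have h3 : tv (ev i) ((f j) • ev j) (by rw [smul_dotProduct, CfsgLib.AutPSL.ev_dot hlt.ne, smul_zero]) ∈ H := by
          rw [CfsgLib.AutPSL.tv_congr (v' := f j • ev i) (f' := ev j) _
            (by rw [dotProduct_smul, CfsgLib.AutPSL.ev_dot hlt.ne, smul_zero])
            (by rw [vecMulVec_smul, smul_vecMulVec])]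
          exact hel i j hlt (f j)
        have h4 := mul_mem h2 h3
        rw [CfsgLib.AutPSL.tv_mul] at h4
        refine (?_ : tv (ev i) f hf = _) ▸ h4
        refine CfsgLib.AutPSL.tv_congr _ _ ?_
        congr 1
        funext k
        by_cases e : k = j
        · simp [g, e, ev]
        · simp [g, e, ev]
  suffices h : ∀ (k : ℕ) (A : SLn), A ∈ unitri → (∀ i j, k ≤ i.val → A.1 i j = (1 : Mn) i j) → A ∈ H from
    fun A hA => h n A hA fun i _ hi => absurd i.2 (not_lt.2 hi)
  intro k
  induction k with
  | zero =>
    intro A _ h1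
    rw [show A = 1 from Subtype.ext (Matrix.ext fun i j => h1 i j (Nat.zero_le _))]
    exact one_mem H
  | succ k ih =>
    intro A hA h1
    by_cases hkn : k < n
    swap
    · exact ih A hA fun i j hi => absurd i.2 (by omega)
    set i : Fin n := ⟨k, hkn⟩
    obtain ⟨hA1, hA2⟩ := CfsgLib.AutPSL.mem_unitri.1 hA
    set r : Fin n → F := fun j => A.1 i j - (1 : Mn) i j
    have hr0 : ∀ j, j ≤ i → r j = 0 := by
      intro j hj
      rcases hj.eq_or_lt with h | h
      · simp [r, h, hA2]
      · simp [r, hA1 (show id j < id i from h), Matrix.one_apply_ne h.ne']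
    have hr : r ⬝ᵥ ev i = 0 := by rw [ev, dotProduct_single, mul_one]; exact hr0 i le_rfl
    have hr' : (-r) ⬝ᵥ ev i = 0 := by rw [neg_dotProduct, hr, neg_zero]
    set A' := tv (ev i) (-r) hr' * A with hA'
    have hval : ∀ u v, A'.1 u v = A.1 u v - (if u = i then r v else 0) := by
      intro u v
      rw [hA', Matrix.SpecialLinearGroup.coe_mul, CfsgLib.AutPSL.tv_val, CfsgLib.AutPSL.rk1, add_mul, one_mul,
        Matrix.add_apply, vecMulVec_mul, vecMulVec_apply, ev]
      have hrA : ((-r) ᵥ* A.1) v = -r v := by
        rw [neg_vecMul, Pi.neg_apply]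
        congr 1
        show ∑ w, r w * A.1 w v = r v
        rw [Finset.sum_eq_single v]
        · rcases le_or_gt v i with hv | hv
          · rw [hr0 v hv, zero_mul]
          · rw [h1 v v (by have : k < v.val := hv; omega), Matrix.one_apply_eq, mul_one]
        · intro w _ hw
          rcases le_or_gt w i with hwi | hwi
          · rw [hr0 w hwi, zero_mul]
          · rw [h1 w v (by have : k < w.val := hwi; omega), Matrix.one_apply_ne hw, mul_zero]
        · exact fun h => absurd (Finset.mem_univ v) h
      rw [hrA]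
      by_cases hu : u = i
      · rw [if_pos hu, hu, Pi.single_eq_same, one_mul, sub_eq_add_neg]
      · rw [if_neg hu, Pi.single_eq_of_ne hu, zero_mul, add_zero, sub_zero]
    have hU : tv (ev i) (-r) hr' ∈ unitri := by
      refine CfsgLib.AutPSL.mem_unitri.2 ⟨fun u v huv => ?_, fun u => ?_⟩
      · rw [CfsgLib.AutPSL.tv_val, CfsgLib.AutPSL.rk1, Matrix.add_apply, Matrix.one_apply_ne (show u ≠ v from ne_of_gt (show v < u from huv)),
          vecMulVec_apply, ev, zero_add]
        by_cases hu : u = i
        · rw [Pi.neg_apply, hr0 v (le_of_lt (show v < i from hu ▸ huv)), neg_zero, mul_zero]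
        · rw [Pi.single_eq_of_ne hu, zero_mul]
      · rw [CfsgLib.AutPSL.tv_val, CfsgLib.AutPSL.rk1, Matrix.add_apply, Matrix.one_apply_eq, vecMulVec_apply, ev]
        by_cases hu : u = i
        · rw [hu, Pi.neg_apply, hr0 i le_rfl, neg_zero, mul_zero, add_zero]
        · rw [Pi.single_eq_of_ne hu, zero_mul, add_zero]
    have h2 := ih A' (mul_mem hU hA) fun u v hu => by
      rw [hval]
      by_cases e : u = i
      · rw [if_pos e, e]; simp [r]
      · rw [if_neg e, sub_zero]
        exact h1 u v (by have : u.val ≠ k := fun h => e (Fin.ext h); omega)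
    have h3 := mul_mem (inv_mem (hrow i (-r) hr' fun j hj => by rw [Pi.neg_apply, hr0 j hj, neg_zero])) h2
    rwa [hA', inv_mul_cancel_left] at h3

/-- The diagonal element of a root. -/
def hh (i j : Fin n) (h : i ≠ j) (t : F) : SLn :=
  el i j h t * el j i h.symm (-t⁻¹) * el i j h t * (el i j h (-1) * el j i h.symm 1 * el i j h (-1))

theorem hh_val (i j : Fin n) (h : i ≠ j) {t : F} (ht : t ≠ 0) :
    (hh i j h t).1 = Matrix.diagonal (Function.update (Function.update (fun _ => 1) i t) j t⁻¹) := by
  have w : ∀ u : F, u ≠ 0 →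
      (el i j h u).1 * (el j i h.symm (-u⁻¹)).1 * (el i j h u).1 =
        1 - Matrix.single i i 1 - Matrix.single j j 1 + Matrix.single i j u + Matrix.single j i (-u⁻¹) := by
    intro u hu
    simp only [el_val, mul_add, add_mul, mul_one, one_mul, Matrix.single_mul_single_same,
      Matrix.single_mul_single_of_ne _ _ _ _ h, Matrix.single_mul_single_of_ne _ _ _ _ h.symm, zero_mul,
      zero_add, add_zero]
    simp only [mul_neg, neg_mul, mul_inv_cancel₀ hu, inv_mul_cancel₀ hu, one_mul, mul_one, neg_neg]
    rw [show Matrix.single i i (-1 : F) = -Matrix.single i i 1 from (Matrix.single_neg _ _ _).symm,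
      show Matrix.single j j (-1 : F) = -Matrix.single j j 1 from (Matrix.single_neg _ _ _).symm,
      show Matrix.single i j (-u : F) = -Matrix.single i j u from (Matrix.single_neg _ _ _).symm]
    abel
  have w' := w (-1) (neg_ne_zero.2 one_ne_zero)
  rw [show (-(-1 : F)⁻¹) = 1 by norm_num] at w'
  rw [hh]
  simp only [Matrix.SpecialLinearGroup.coe_mul]
  rw [w t ht, w']
  ext u v
  simp only [mul_add, mul_sub, add_mul, sub_mul, mul_one, one_mul, Matrix.single_mul_single_same,
    Matrix.single_mul_single_of_ne _ _ _ _ h, Matrix.single_mul_single_of_ne _ _ _ _ h.symm,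
    Matrix.add_apply, Matrix.sub_apply, Matrix.zero_apply, Matrix.one_apply, Matrix.diagonal_apply,
    Matrix.single_apply, Function.update_apply]
  by_cases h1 : u = i <;> by_cases h2 : u = j <;> by_cases h3 : v = i <;> by_cases h4 : v = j <;>
    by_cases h5 : u = v <;> first
      | (simp_all [eq_comm]; done)
      | (subst_vars; simp_all)

/-- Matrices trivial outside the block `top × bottom`. -/
def IsRad (top : Fin n → Prop) (A : Mn) : Prop := ∀ a b, ¬ (top a ∧ ¬ top b) → A a b = (1 : Mn) a b

/-- Block triangular matrices. -/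
def IsBlk (top : Fin n → Prop) (A : Mn) : Prop := ∀ a b, ¬ top a → top b → A a b = 0

theorem IsBlk.mul {top : Fin n → Prop} {A B : Mn} (hA : IsBlk top A) (hB : IsBlk top B) : IsBlk top (A * B) := by
  intro a b ha hb
  rw [Matrix.mul_apply]
  refine Finset.sum_eq_zero fun c _ => ?_
  by_cases hc : top c
  · rw [hA a c ha hc, zero_mul]
  · rw [hB c b hc hb, mul_zero]

theorem isRad_mul {top : Fin n → Prop} {A B : Mn} (hA : IsRad top A) (hB : IsRad top B) : IsRad top (A * B) := by
  intro a b hab
  have h0 : ((A - 1) * (B - 1)) a b = 0 := by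
    rw [Matrix.mul_apply]
    refine Finset.sum_eq_zero fun c _ => ?_
    by_cases hc : top c
    · rw [Matrix.sub_apply, hA a c (fun h => h.2 hc), sub_self, zero_mul]
    · rw [Matrix.sub_apply B, hB c b (fun h => hc h.1), sub_self, mul_zero]
  rw [show A * B = (A - 1) * (B - 1) + A + B - 1 by simp [mul_sub, sub_mul]; abel, Matrix.sub_apply,
    Matrix.add_apply, Matrix.add_apply, h0, hA a b hab, hB a b hab]
  ring

variable [Finite F]

/-- The radical. -/
def rad (top : Fin n → Prop) : Subgroup SLn :=
  let S : Submonoid SLn :=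
    { carrier := {A | IsRad top A.1}
      one_mem' := fun a b _ => by simp
      mul_mem' := fun {A B} hA hB => by
        show IsRad top (A * B).1
        rw [Matrix.SpecialLinearGroup.coe_mul]
        exact isRad_mul hA hB }
  { S with
    inv_mem' := fun {A} hA => by
      have h : A⁻¹ = A ^ (orderOf A - 1) := by
        refine inv_eq_of_mul_eq_one_right ?_
        rw [← pow_succ', Nat.sub_add_cancel (orderOf_pos A), pow_orderOf_eq_one]
      rw [h]
      exact S.pow_mem hA _ }

/-- The stabiliser of the flag. -/
def blk (top : Fin n → Prop) : Subgroup SLn :=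
  let S : Submonoid SLn :=
    { carrier := {A | IsBlk top A.1}
      one_mem' := fun a b ha hb => by
        show ((1 : SLn) : Mn) a b = 0
        rw [Matrix.SpecialLinearGroup.coe_one, Matrix.one_apply_ne (fun e => ha (by rw [e]; exact hb))]
      mul_mem' := fun {A B} hA hB => by
        show IsBlk top (A * B).1
        rw [Matrix.SpecialLinearGroup.coe_mul]
        exact hA.mul hB }
  { S with
    inv_mem' := fun {A} hA => by
      have h : A⁻¹ = A ^ (orderOf A - 1) := by
        refine inv_eq_of_mul_eq_one_right ?_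
        rw [← pow_succ', Nat.sub_add_cancel (orderOf_pos A), pow_orderOf_eq_one]
      rw [h]
      exact S.pow_mem hA _ }

theorem mem_rad {top : Fin n → Prop} {A : SLn} : A ∈ rad top ↔ IsRad top A.1 := Iff.rfl

theorem mem_blk {top : Fin n → Prop} {A : SLn} : A ∈ blk top ↔ IsBlk top A.1 := Iff.rfl

theorem blk_conj_rad {top : Fin n → Prop} {g r : SLn} (hg : g ∈ blk top) (hr : r ∈ rad top) :
    g * r * g⁻¹ ∈ rad top := by
  have hgi : IsBlk top (g⁻¹).1 := mem_blk.1 (inv_mem hg)
  intro a b hab
  have e : (g * r * g⁻¹).1 = g.1 * (r.1 - 1) * (g⁻¹).1 + 1 := by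
    rw [mul_sub, sub_mul, mul_one, ← Matrix.SpecialLinearGroup.coe_mul g g⁻¹, mul_inv_cancel,
      Matrix.SpecialLinearGroup.coe_one, sub_add_cancel, Matrix.SpecialLinearGroup.coe_mul,
      Matrix.SpecialLinearGroup.coe_mul]
  rw [e, Matrix.add_apply]
  convert zero_add _
  rw [Matrix.mul_apply]
  refine Finset.sum_eq_zero fun d _ => ?_
  by_cases hd : top d
  · rw [Matrix.mul_apply, Finset.sum_eq_zero, zero_mul]
    intro c _
    rw [Matrix.sub_apply, hr c d (fun h => h.2 hd), sub_self, mul_zero]
  by_cases ha : top a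
  · have hb : top b := by_contra fun hb => hab ⟨ha, hb⟩
    rw [hgi d b hd hb, mul_zero]
  · rw [Matrix.mul_apply, Finset.sum_eq_zero, zero_mul]
    intro c _
    by_cases hc : top c
    · rw [hg a c ha hc, zero_mul]
    · rw [Matrix.sub_apply, hr c d (fun h => hc h.1), sub_self, mul_zero]

end CfsgLib.FusionCharP.Linear
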