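import Cfsg.Agent.Lib.Fusion.ClassicalCharP.LinearSetup
import Cfsg.Agent.Lib.Fusion.System.SimpleGroupAutomizer
import Cfsg.Agent.Lib.Coprime.Solvable

/-!
# The `p`-fusion system of `PSL_n(q)` in characteristic `p`, `n ≥ 3`
-/

set_option autoImplicit false
set_option linter.unusedSectionVars false
set_option linter.style.haveILetI false

open Matrix
open scoped Pointwise

namespace CfsgLib.FusionCharP.Linear

open CfsgLib.AutPSL (ev tv proj unitri)
open CfsgLib.Fusion (autSub mem_autSub autSub_of_mem conj_mem_autSub autSub_of_centric)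

variable {n : ℕ} {F : Type*} [Field F] [Finite F] {p : ℕ} [hp : Fact p.Prime] [CharP F p]

local notation "SLn" => Matrix.SpecialLinearGroup (Fin n) F
local notation "Mn" => Matrix (Fin n) (Fin n) F
local notation "G" => Matrix.ProjectiveSpecialLinearGroup (Fin n) F

/-- Scalars of a conjugate of a unitriangular element are trivial. -/
theorem eq_of_proj_eq [NeZero n] (p : ℕ) [Fact p.Prime] [CharP F p] {u w g : SLn} (hu : u ∈ unitri) (hw : w ∈ unitri)
    (h : proj w = proj (g * u * g⁻¹)) : g * u * g⁻¹ = w := by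
  obtain ⟨c, -, hc⟩ := CfsgLib.AutPSL.proj_eq_iff.1 h
  have hp1 : (g * u * g⁻¹).1 ^ p ^ n = 1 := by
    rw [← Matrix.SpecialLinearGroup.coe_pow, conj_pow, CfsgLib.AutPSL.unitri_pow_eq_one hu, mul_one,
      mul_inv_cancel, Matrix.SpecialLinearGroup.coe_one]
  rw [hc, smul_pow, ← Matrix.SpecialLinearGroup.coe_pow, CfsgLib.AutPSL.unitri_pow_eq_one hw,
    Matrix.SpecialLinearGroup.coe_one] at hp1
  have hc1 : c = 1 := CfsgLib.AutPSL.eq_one_of_pow_prime_pow (p := p) (k := n) (by
    simpa using congrFun (congrFun hp1 0) 0)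
  rw [hc1, one_smul] at hc
  exact Subtype.ext hc

omit hp [CharP F p] in
theorem el_mem_rad {top : Fin n → Prop} {a b : Fin n} (h : a ≠ b) (ha : top a) (hb : ¬ top b) (s : F) :
    el a b h s ∈ rad top := by
  intro u v huv
  rw [el_val, Matrix.add_apply, Matrix.single_apply, if_neg, add_zero]
  rintro ⟨rfl, rfl⟩
  exact huv ⟨ha, hb⟩

omit hp [CharP F p] in
theorem el_mem_blk {top : Fin n → Prop} {a b : Fin n} (h : a ≠ b) (hab : top b → top a) (s : F) :
    el a b h s ∈ blk top := by
  intro u v hu hv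
  rw [el_val, Matrix.add_apply, Matrix.one_apply_ne (fun e => hu (by rw [e]; exact hv)),
    Matrix.single_apply, if_neg, add_zero]
  rintro ⟨rfl, rfl⟩
  exact hu (hab hv)

omit hp [CharP F p] in
theorem rad_le_unitri {top : Fin n → Prop} (htop : ∀ a b, a ≤ b → top b → top a) : rad (F := F) top ≤ unitri := by
  intro A hA
  refine CfsgLib.AutPSL.mem_unitri.2 ⟨fun a b hab => ?_, fun a => ?_⟩
  · rw [hA a b fun h => h.2 (htop b a (le_of_lt hab) h.1), Matrix.one_apply_ne (ne_of_gt (show b < a from hab))]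
  · rw [hA a a fun h => h.2 h.1, Matrix.one_apply_eq]

omit hp [CharP F p] in
theorem upper_le_blk {top : Fin n → Prop} (htop : ∀ a b, a ≤ b → top b → top a) {g : SLn}
    (hg : BlockTriangular g.1 id) : g ∈ blk top := fun a b ha hb => by
  rcases le_or_gt a b with h | h
  · exact absurd (htop a b h hb) ha
  · exact hg (show id b < id a from h)

/-- The centraliser of a radical in the quotient. -/
theorem centralizer_rad [NeZero n] (p : ℕ) [Fact p.Prime] [CharP F p] {top : Fin n → Prop} (htop : ∀ a b, a ≤ b → top b → top a)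
    {a₀ b₀ : Fin n} (ha₀ : top a₀) (hb₀ : ¬ top b₀) {g : SLn}
    (hg : proj g ∈ Subgroup.centralizer ((rad (F := F) top).map proj : Set G)) :
    proj g ∈ (rad (F := F) top).map proj := by
  have hne : ∀ {a b}, top a → ¬ top b → a ≠ b := fun ha hb e => hb (e ▸ ha)
  have hcomm : ∀ a b, top a → ¬ top b →
      g.1 * Matrix.single a b (1 : F) = Matrix.single a b (1 : F) * g.1 := by
    intro a b ha hb
    have hr := el_mem_rad (F := F) (hne ha hb) ha hb 1
    have h1 := Subgroup.mem_centralizer_iff.1 hg _ ⟨_, hr, rfl⟩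
    have h2 : proj (el a b (hne ha hb) 1) = proj (g * el a b (hne ha hb) 1 * g⁻¹) := by
      rw [map_mul, map_mul, ← h1, map_inv, mul_inv_cancel_right]
    have hu : el a b (hne ha hb) (1 : F) ∈ unitri := rad_le_unitri htop hr
    have h3 := eq_of_proj_eq p hu hu h2
    rw [mul_inv_eq_iff_eq_mul] at h3
    have h4 := congrArg Subtype.val h3
    simp only [Matrix.SpecialLinearGroup.coe_mul, el_val, mul_add, add_mul, mul_one, one_mul, add_right_inj] at h4
    exact h4
  have hcol : ∀ a b, top a → ¬ top b → g.1 a a = g.1 b b ∧ (∀ k, k ≠ a → g.1 k a = 0) ∧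
      ∀ k, k ≠ b → g.1 b k = 0 := by
    intro a b ha hb
    refine ⟨?_, fun k hk => ?_, fun k hk => ?_⟩
    · simpa using congrFun (congrFun (hcomm a b ha hb) a) b
    · simpa [Matrix.single_mul_apply_of_ne _ _ _ _ _ hk] using congrFun (congrFun (hcomm a b ha hb) k) b
    · simpa [Matrix.mul_single_apply_of_ne _ _ _ _ _ hk] using (congrFun (congrFun (hcomm a b ha hb) a) k).symm
  set μ := g.1 a₀ a₀
  have hdiag : ∀ a, g.1 a a = μ := by
    intro a
    by_cases ha : top a
    · exact (hcol a b₀ ha hb₀).1.trans (hcol a₀ b₀ ha₀ hb₀).1.symm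
    · exact (hcol a₀ a ha₀ ha).1.symm
  have hoff : ∀ a b, a ≠ b → ¬ (top a ∧ ¬ top b) → g.1 a b = 0 := by
    intro a b hab h
    by_cases hb : top b
    · exact (hcol b b₀ hb hb₀).2.1 a hab
    · exact (hcol a₀ a ha₀ (fun ha => h ⟨ha, hb⟩)).2.2 b hab.symm
  have htri : BlockTriangular g.1 id := fun a b hab =>
    hoff a b (ne_of_gt hab) fun h => h.2 (htop b a (le_of_lt hab) h.1)
  have hdet : μ ^ n = 1 := by
    have h1 := g.2
    rw [Matrix.det_of_isUpperTriangular htri, Finset.prod_congr rfl fun i _ => hdiag i,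
      Finset.prod_const, Finset.card_univ, Fintype.card_fin] at h1
    exact h1
  have hμ : μ ≠ 0 := fun h => by simp [h, zero_pow (NeZero.ne n)] at hdet
  let r : SLn := ⟨μ⁻¹ • g.1, by rw [Matrix.det_smul, g.2, mul_one, Fintype.card_fin, inv_pow, hdet, inv_one]⟩
  refine ⟨r, ?_, CfsgLib.AutPSL.proj_eq_iff.2 ⟨μ, hdet, by simp [r, smul_smul, hμ]⟩⟩
  intro a b hab
  show μ⁻¹ * g.1 a b = (1 : Mn) a b
  by_cases e : a = b
  · rw [e, hdiag b, inv_mul_cancel₀ hμ, Matrix.one_apply_eq]
  · rw [hoff a b e hab, mul_zero, Matrix.one_apply_ne e]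

/-- The main theorem. -/
theorem isSimple (hn : 3 ≤ n) (S : Sylow p G) :
    (Cfsg.groupFusionSystem (S : Subgroup G)).IsSimple p := by
  classical
  haveI : NeZero n := ⟨by omega⟩
  obtain ⟨a₁, ha₁⟩ := MulAction.exists_smul_eq G (CfsgLib.AutPSL.sylowU (p := p) (n := n) (F := F)) S
  set π : SLn →* G := (MulAut.conj a₁).toMonoidHom.comp proj with hπ
  have hπs : Function.Surjective π := (MulAut.conj a₁).surjective.comp (QuotientGroup.mk'_surjective _)
  have hSU : (S : Subgroup G) = unitri.map π := by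
    rw [← ha₁, Sylow.coe_subgroup_smul]
    show MulAut.conj a₁ • unitri.map proj = _
    rw [hπ, ← Subgroup.map_map, Subgroup.pointwise_smul_def]
    rfl
  have hπeq : ∀ {A B : SLn}, π A = π B ↔ proj A = proj B := (MulAut.conj a₁).injective.eq_iff
  have hel : ∀ (i j : Fin n) (h : i < j) (s : F), el i j h.ne s ∈ unitri := fun i j h s =>
    CfsgLib.AutPSL.tv_mem_unitri h s
  have helS : ∀ (i j : Fin n) (h : i < j) (s : F), π (el i j h.ne s) ∈ (S : Subgroup G) :=
    fun i j h s => hSU ▸ ⟨_, hel i j h s, rfl⟩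
  set z₀ : Fin n := ⟨0, by omega⟩
  set zl : Fin n := ⟨n - 1, by omega⟩
  have hzl : z₀ < zl := by show 0 < n - 1; omega
  have hne : (S : Subgroup G) ≠ ⊥ := by
    intro e
    have h1 := helS z₀ zl hzl 1
    rw [e, Subgroup.mem_bot, ← map_one π, hπeq, CfsgLib.AutPSL.proj_eq_iff] at h1
    obtain ⟨c, -, hc⟩ := h1
    have h2 := congrFun (congrFun hc z₀) zl
    have h3 := congrFun (congrFun hc z₀) z₀
    simp [el_val, hzl.ne, hzl.ne'] at h2 h3
    exact one_ne_zero (h3.trans h2.symm)
  -- no proper closed subgroup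
  have hclosed : ∀ T : Subgroup G, T ≤ (S : Subgroup G) → T ≠ ⊥ →
      (∀ x ∈ T, ∀ g : G, g * x * g⁻¹ ∈ (S : Subgroup G) → g * x * g⁻¹ ∈ T) →
      (S : Subgroup G) ≤ T := by
    intro T hTS hT hcl
    obtain ⟨t, ht, htT⟩ : ∃ t : F, t ≠ 0 ∧ π (el z₀ zl hzl.ne t) ∈ T := by
      haveI : Group.IsNilpotent (S : Subgroup G) := S.2.isNilpotent
      haveI : (T.subgroupOf (S : Subgroup G)).Normal := ⟨fun x hx y => by
        rw [Subgroup.mem_subgroupOf] at hx ⊢
        exact hcl _ hx _ (SetLike.coe_mem (y * x * y⁻¹))⟩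
      have hne := CfsgLib.Coprime.nilpotent_inf_center_ne_bot (T.subgroupOf (S : Subgroup G)) (by
        rw [ne_eq, Subgroup.subgroupOf_eq_bot, disjoint_iff]
        rwa [inf_eq_left.2 hTS])
      obtain ⟨⟨⟨x, hxS⟩, hxT, hxc⟩, hx1⟩ := Subgroup.ne_bot_iff_exists_ne_one.1 hne
      obtain ⟨w, hw, rfl⟩ : x ∈ unitri.map π := hSU ▸ hxS
      have hcen : proj w ∈ CfsgLib.AutPSL.projU ⊓ Subgroup.centralizer (CfsgLib.AutPSL.projU (n := n) (F := F) : Set G) := by
        refine ⟨⟨w, hw, rfl⟩, ?_⟩
        rintro _ ⟨u, hu, rfl⟩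
        have h1 := congrArg Subtype.val (Subgroup.mem_center_iff.1 hxc ⟨π u, hSU ▸ ⟨u, hu, rfl⟩⟩)
        have h2 : π (u * w) = π (w * u) := by rw [map_mul, map_mul]; exact h1
        rw [hπeq, map_mul, map_mul] at h2
        exact h2
      obtain ⟨k, rfl⟩ : ∃ k, n = k + 2 := ⟨n - 2, by omega⟩
      have hz : (0 : Fin (k + 2)) ≠ Fin.last (k + 1) := by
        intro e; have := congrArg Fin.val e; simp at this
      rw [CfsgLib.AutPSL.center_projU hz] at hcen
      obtain ⟨t, ht⟩ := CfsgLib.AutPSL.mem_rootGp.1 hcen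
      have e0 : z₀ = 0 := rfl
      have el' : zl = Fin.last (k + 1) := Fin.ext (by simp [zl])
      have hpi : π w = π (el z₀ zl hzl.ne t) := by
        rw [hπeq, ht]
        exact congrArg proj (CfsgLib.AutPSL.tv_congr _ _ (by rw [e0, el']))
      refine ⟨t, ?_, hpi ▸ hxT⟩
      rintro rfl
      apply hx1
      apply Subtype.ext
      apply Subtype.ext
      show π w = 1
      rw [hpi, show el z₀ zl hzl.ne (0 : F) = 1 from CfsgLib.AutPSL.tv_eq_one _ (by simp), map_one]
    have hall : unitri ≤ T.comap π := by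
      refine unitri_le fun i j hij s => ?_
      show π _ ∈ T
      by_cases hs : s = 0
      · rw [hs, show el i j hij.ne (0 : F) = 1 from CfsgLib.AutPSL.tv_eq_one _ (by simp), map_one]
        exact one_mem T
      obtain ⟨g, hg, -⟩ := exists_conj_el hn hzl.ne hij.ne ht hs
      have h1 : π g * π (el z₀ zl hzl.ne t) * (π g)⁻¹ = π (el i j hij.ne s) := by
        rw [← map_inv, ← map_mul, ← map_mul, hg]
      exact h1 ▸ hcl _ htT _ (h1 ▸ helS i j hij s)
    rw [hSU]
    exact Subgroup.map_le_iff_le_comap.2 hall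
  -- the automizer
  have haut : ∀ E : Cfsg.FusionSystem (S : Subgroup G), E.IsSaturated p →
      E.IsInvariantIn (Cfsg.groupFusionSystem (S : Subgroup G)) →
      Subgroup.normalizer ((S : Subgroup G) : Set G) ≤ autSub E (S : Subgroup G) := by
    intro E hEs hinv
    -- diagonal elements attached to one side of a flag
    have hside : ∀ (top : Fin n → Prop), (∀ a b, a ≤ b → top b → top a) → ∀ a₀ b₀, top a₀ → ¬ top b₀ →
        ∀ i j, (top i ↔ top j) → ∀ (h : i ≠ j) (t : F), t ≠ 0 → π (hh i j h t) ∈ autSub E (S : Subgroup G) := by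
      intro top htop a₀ b₀ ha₀ hb₀ i j hij h t ht
      set R := (rad (F := F) top).map π with hR
      have hRS : R ≤ (S : Subgroup G) := by rw [hSU]; exact Subgroup.map_mono (rad_le_unitri htop)
      have hnorm : ∀ g : SLn, g ∈ blk top → π g ∈ Subgroup.normalizer (R : Set G) := fun g hg => by
        refine CfsgLib.Fusion.conj_le_of_subset ?_
        rintro _ ⟨r, hr, rfl⟩
        exact ⟨g * r * g⁻¹, blk_conj_rad hg hr, by rw [map_mul, map_mul, map_inv]⟩
      have hupper : ∀ (a b : Fin n) (hab : a < b) (s : F), π (el a b hab.ne s) ∈ autSub E R := fun a b hab s =>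
        autSub_of_mem hRS (helS a b hab s) (hnorm _ (el_mem_blk hab.ne (htop a b hab.le) s))
      have hlev : ∀ (a b : Fin n) (hab : a ≠ b), (top a ↔ top b) → ∀ s : F, π (el a b hab s) ∈ autSub E R := by
        intro a b hab htab s
        rcases lt_or_gt_of_ne hab with hlt | hlt
        · exact hupper a b hlt s
        by_cases hs : s = 0
        · rw [hs, show el a b hab (0 : F) = 1 from CfsgLib.AutPSL.tv_eq_one _ (by simp), map_one]
          exact one_mem _
        obtain ⟨g, hg, hgs⟩ := exists_conj_el hn hlt.ne hab (one_ne_zero (α := F)) hs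
        have hgb : g ∈ blk top := fun u v hu hv => by
          by_contra hne
          rcases hgs u v hne with e | ⟨hv', hu'⟩
          · exact hu (e ▸ hv)
          · have hc : ∀ w, (w = b ∨ w = a ∨ w = a ∨ w = b) → (top w ↔ top a) := by
              rintro w (rfl | rfl | rfl | rfl) <;> first | exact Iff.rfl | exact htab.symm
            exact hu ((hc u hu').2 ((hc v hv').1 hv))
        have h1 := conj_mem_autSub hinv hRS (hnorm g hgb) (hupper b a hlt 1)
        rwa [← map_inv, ← map_mul, ← map_mul, hg] at h1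
      have hR1 : π (hh i j h t) ∈ autSub E R := by
        rw [hh, map_mul, map_mul, map_mul, map_mul, map_mul]
        exact mul_mem (mul_mem (mul_mem (hlev i j h hij t) (hlev j i h.symm hij.symm _)) (hlev i j h hij t))
          (mul_mem (mul_mem (hlev i j h hij _) (hlev j i h.symm hij.symm _)) (hlev i j h hij _))
      refine autSub_of_centric S.2 (CfsgLib.Fusion.isSaturated_group S) hinv.1 hEs ?_ hRS le_rfl ?_ hR1
      · intro x hx
        obtain ⟨g, rfl⟩ := hπs x
        have hg : proj g ∈ Subgroup.centralizer ((rad (F := F) top).map proj : Set G) := by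
          rintro _ ⟨r, hr, rfl⟩
          have h1 := Subgroup.mem_centralizer_iff.1 hx (π r) ⟨r, hr, rfl⟩
          rw [← map_mul, ← map_mul, hπeq, map_mul, map_mul] at h1
          exact h1
        obtain ⟨r, hr, he⟩ := centralizer_rad p htop ha₀ hb₀ hg
        exact ⟨r, hr, hπeq.2 he⟩
      · refine CfsgLib.Fusion.conj_le_of_subset fun x hx => ?_
        rw [hSU] at hx ⊢
        obtain ⟨u, hu, rfl⟩ := hx
        refine ⟨hh i j h t * u * (hh i j h t)⁻¹, ?_, by rw [map_mul, map_mul, map_inv]⟩
        set d := Function.update (Function.update (fun _ => (1 : F)) i t) j t⁻¹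
        have hd : ∀ k, d k ≠ 0 := fun k => by
          simp only [d, Function.update_apply]
          split_ifs <;> simp [ht]
        obtain ⟨hu1, hu2⟩ := CfsgLib.AutPSL.mem_unitri.1 hu
        have hval : ∀ a b, (hh i j h t * u * (hh i j h t)⁻¹).1 a b = d a * u.1 a b * (d b)⁻¹ := by
          intro a b
          have hm : (hh i j h t * u * (hh i j h t)⁻¹).1 * (hh i j h t).1 = (hh i j h t).1 * u.1 := by
            rw [← Matrix.SpecialLinearGroup.coe_mul, inv_mul_cancel_right, Matrix.SpecialLinearGroup.coe_mul]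
          have h2 := congrFun (congrFun hm a) b
          rw [hh_val i j h ht, Matrix.mul_diagonal, Matrix.diagonal_mul] at h2
          rw [← h2, mul_inv_cancel_right₀ (hd b)]
        refine CfsgLib.AutPSL.mem_unitri.2 ⟨fun a b hab => by rw [hval, hu1 hab, mul_zero, zero_mul],
          fun a => by rw [hval, hu2, mul_one, mul_inv_cancel₀ (hd a)]⟩
    intro y hy
    obtain ⟨g, rfl⟩ := hπs y
    have hgu : ∀ u ∈ unitri, g * u * g⁻¹ ∈ unitri := fun u hu => by
      have h1 := (Subgroup.mem_normalizer_iff.1 hy (π u)).1 (hSU ▸ ⟨u, hu, rfl⟩)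
      rw [hSU, ← map_inv, ← map_mul, ← map_mul] at h1
      obtain ⟨w, hw, he⟩ := h1
      exact (eq_of_proj_eq p hu hw (hπeq.1 he)) ▸ hw
    have hup := CfsgLib.AutPSL.upper_of_normalizes hgu
    have hpair : ∀ (i j : Fin n) (h : i ≠ j) (t : F), t ≠ 0 → π (hh i j h t) ∈ autSub E (S : Subgroup G) := by
      have hfirst : ∀ a b : Fin n, a ≤ b → b = z₀ → a = z₀ := fun a b hab hb => Fin.ext (by
        have h0 : b.val = 0 := congrArg Fin.val hb
        have : a.val ≤ b.val := hab
        show a.val = 0; omega)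
      have hlast : ∀ a b : Fin n, a ≤ b → b ≠ zl → a ≠ zl := fun a b hab hb e => hb (Fin.ext (by
        have h0 : a.val = n - 1 := congrArg Fin.val e
        have : a.val ≤ b.val := hab
        have := b.2
        show b.val = n - 1; omega))
      have hgood : ∀ (i j : Fin n) (h : i ≠ j) (t : F), t ≠ 0 →
          (i ≠ z₀ ∧ j ≠ z₀) ∨ (i ≠ zl ∧ j ≠ zl) → π (hh i j h t) ∈ autSub E (S : Subgroup G) := by
        intro i j h t ht hc
        rcases hc with ⟨h1, h2⟩ | ⟨h1, h2⟩
        · exact hside (fun a => a = z₀) hfirst z₀ zl rfl hzl.ne' i j (iff_of_false h1 h2) h t ht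
        · exact hside (fun a => a ≠ zl) hlast z₀ zl hzl.ne (fun h => h rfl) i j (iff_of_true h1 h2) h t ht
      intro i j h t ht
      by_cases hc : (i ≠ z₀ ∧ j ≠ z₀) ∨ (i ≠ zl ∧ j ≠ zl)
      · exact hgood i j h t ht hc
      set k : Fin n := ⟨1, by omega⟩
      have hk0 : k ≠ z₀ := fun e => by have := congrArg Fin.val e; simp [k, z₀] at this
      have hkl : k ≠ zl := fun e => by have := congrArg Fin.val e; simp [k, zl] at this; omega
      have hi : i = z₀ ∨ i = zl := by
        by_contra hn'; push Not at hn'; apply hc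
        rcases eq_or_ne j z₀ with e | e
        · exact Or.inr ⟨hn'.2, e ▸ hzl.ne⟩
        · exact Or.inl ⟨hn'.1, e⟩
      have hj : j = z₀ ∨ j = zl := by
        by_contra hn'; push Not at hn'; apply hc
        rcases eq_or_ne i z₀ with e | e
        · exact Or.inr ⟨e ▸ hzl.ne, hn'.2⟩
        · exact Or.inl ⟨e, hn'.1⟩
      have hik : i ≠ k := by rcases hi with e | e <;> rw [e]; exacts [hk0.symm, hkl.symm]
      have hkj : k ≠ j := by rcases hj with e | e <;> rw [e]; exacts [hk0, hkl]
      have heq : hh i j h t = hh i k hik t * hh k j hkj t := by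
        apply Subtype.ext
        rw [Matrix.SpecialLinearGroup.coe_mul, hh_val _ _ _ ht, hh_val _ _ _ ht, hh_val _ _ _ ht,
          Matrix.diagonal_mul_diagonal]
        congr 1
        funext l
        rcases eq_or_ne l i with e | e
        · subst e; simp [h, hik]
        rcases eq_or_ne l j with e' | e'
        · subst e'; simp [h.symm, hkj.symm]
        rcases eq_or_ne l k with e'' | e''
        · subst e''; simp [hik.symm, hkj, ht]
        · simp [e, e', e'']
      rw [heq, map_mul]
      refine mul_mem (hgood i k hik t ht ?_) (hgood k j hkj t ht ?_)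
      · rcases hi with e | e
        · exact Or.inr ⟨e ▸ hzl.ne, hkl⟩
        · exact Or.inl ⟨e ▸ hzl.ne', hk0⟩
      · rcases hj with e | e
        · exact Or.inr ⟨hkl, e ▸ hzl.ne⟩
        · exact Or.inl ⟨hk0, e ▸ hzl.ne'⟩
    -- the diagonal part is a product of root diagonals
    have hdiag : ∀ (N : ℕ) (d : Fin n → F), (∀ i, d i ≠ 0) → ∏ i, d i = 1 →
        (Finset.univ.filter fun i => d i ≠ 1).card = N →
        ∀ D : SLn, D.1 = Matrix.diagonal d → π D ∈ autSub E (S : Subgroup G) := by
      intro N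
      induction N using Nat.strong_induction_on with
      | _ N ih =>
        intro d hd0 hd1 hN D hD
        by_cases hall : ∀ i, d i = 1
        · rw [show D = 1 from Subtype.ext (hD.trans (by rw [funext hall]; exact Matrix.diagonal_one)), map_one]
          exact one_mem _
        push Not at hall
        obtain ⟨i, hi⟩ := hall
        obtain ⟨j, hji, hj⟩ : ∃ j, j ≠ i ∧ d j ≠ 1 := by
          by_contra hno
          push Not at hno
          apply hi
          rwa [Finset.prod_eq_single i (fun k _ hk => hno k hk) (fun h => absurd (Finset.mem_univ i) h)] at hd1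
        set e := Function.update (Function.update (fun _ => (1 : F)) i (d i)⁻¹) j (d i)⁻¹⁻¹ with he
        have hmem := hpair i j (Ne.symm hji) _ (inv_ne_zero (hd0 i))
        suffices hD' : π (D * hh i j (Ne.symm hji) (d i)⁻¹) ∈ autSub E (S : Subgroup G) by
          rw [map_mul] at hD'
          exact (Subgroup.mul_mem_cancel_right _ hmem).1 hD'
        refine ih _ ?_ (fun l => d l * e l) (fun l => ?_) ?_ rfl _ ?_
        · rw [← hN]
          refine Finset.card_lt_card (Finset.ssubset_iff_subset_ne.2 ⟨fun l hl => ?_, fun e' => ?_⟩)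
          · rw [Finset.mem_filter] at hl ⊢
            refine ⟨hl.1, ?_⟩
            rcases eq_or_ne l i with h | h
            · exact h ▸ hi
            rcases eq_or_ne l j with h' | h'
            · exact h' ▸ hj
            simpa [e, h, h'] using hl.2
          · have h1 : i ∈ Finset.univ.filter fun l => d l ≠ 1 := Finset.mem_filter.2 ⟨Finset.mem_univ i, hi⟩
            rw [← e', Finset.mem_filter] at h1
            exact h1.2 (by simp [e, Ne.symm hji, hd0 i])
        · refine mul_ne_zero (hd0 l) ?_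
          simp only [e, Function.update_apply]
          split_ifs <;> simp [hd0 i]
        · rw [Finset.prod_mul_distrib, hd1, one_mul, ← Finset.prod_subset (Finset.subset_univ {i, j}) (fun l _ hl => by
            simp only [Finset.mem_insert, Finset.mem_singleton, not_or] at hl
            simp [e, hl.1, hl.2]), Finset.prod_pair (Ne.symm hji)]
          simp [e, Ne.symm hji, hd0 i]
        · rw [Matrix.SpecialLinearGroup.coe_mul, hD, hh_val _ _ _ (inv_ne_zero (hd0 i)),
            Matrix.diagonal_mul_diagonal]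
    -- split off the diagonal
    set d : Fin n → F := fun i => g.1 i i
    have hprod : ∏ i, d i = 1 := by
      have h1 := g.2
      rwa [Matrix.det_of_isUpperTriangular hup] at h1
    have hd0 : ∀ i, d i ≠ 0 := fun i h => by
      rw [Finset.prod_eq_zero (Finset.mem_univ i) h] at hprod
      exact zero_ne_one hprod
    obtain ⟨D, hD⟩ : ∃ D : SLn, D.1 = Matrix.diagonal d :=
      ⟨⟨Matrix.diagonal d, by rw [Matrix.det_diagonal, hprod]⟩, rfl⟩
    have hD' : (D⁻¹).1 = Matrix.diagonal (fun i => (d i)⁻¹) := by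
      rw [Matrix.SpecialLinearGroup.coe_inv, ← mul_one (D.1.adjugate),
        show (1 : Mn) = D.1 * Matrix.diagonal (fun i => (d i)⁻¹) by
          rw [hD, Matrix.diagonal_mul_diagonal, ← Matrix.diagonal_one]
          congr 1; funext i; rw [mul_inv_cancel₀ (hd0 i)],
        ← mul_assoc, Matrix.adjugate_mul, D.2, one_smul, one_mul]
    have hu : D⁻¹ * g ∈ unitri := by
      refine CfsgLib.AutPSL.mem_unitri.2 ⟨fun a b hab => ?_, fun a => ?_⟩
      · rw [Matrix.SpecialLinearGroup.coe_mul, hD', Matrix.diagonal_mul, hup hab, mul_zero]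
      · rw [Matrix.SpecialLinearGroup.coe_mul, hD', Matrix.diagonal_mul, inv_mul_cancel₀ (hd0 a)]
    have hw : π (D⁻¹ * g) ∈ (S : Subgroup G) := hSU ▸ ⟨_, hu, rfl⟩
    rw [show g = D * (D⁻¹ * g) by group, map_mul]
    exact mul_mem (hdiag _ d hd0 hprod rfl D hD) (autSub_of_mem le_rfl hw (Subgroup.le_normalizer hw))
  exact CfsgLib.Fusion.isSimple_group_of_closed_automizer S hne hclosed haut

end CfsgLib.FusionCharP.Linear
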