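import Cfsg.Agent.Lib.Fusion.ClassicalCharP.SymplecticRadicals
import Cfsg.Agent.Lib.Fusion.System.SimpleGroupAutomizer
import Cfsg.Agent.Lib.Coprime.Solvable

/-!
# The `p`-fusion system of `PSp_{2m}(q)` in characteristic `p`
-/

set_option autoImplicit false
set_option linter.unusedSectionVars false
set_option linter.style.haveILetI false

open Matrix
open scoped Pointwise

namespace CfsgLib.FusionCharP.Symplectic

open CfsgLib.Sp
open CfsgLib.Fusion (autSub mem_autSub autSub_of_mem conj_mem_autSub autSub_of_centric)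

attribute [-simp] Matrix.mulVec_single_one Matrix.mulVec_single

variable {m : ℕ} {F : Type*} [Field F]

local notation "Sp" => Matrix.symplecticGroup (Fin m) F
local notation "V" => (Fin m ⊕ Fin m → F)
local notation "G" => Cfsg.PSp m F

theorem kv_smul_right {u w : V} (h : sf u w = 0) (a c : F) : kv u (a • w) c = kv u w (a * c) := by
  refine sp_ext_vec fun x => ?_
  rw [kv_mulVec _ _ (by rw [sf_smul_right, h, mul_zero]), kv_mulVec _ _ h, sf_smul_right]
  module

/-- The diagonal element of a long root. -/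
def hl (j : Fin m) (t : F) : Sp :=
  tv (lv j) t * tv (rv j) t⁻¹ * tv (lv j) t * (tv (lv j) (-1) * tv (rv j) (-1) * tv (lv j) (-1))

theorem hl_eq (j : Fin m) {t : F} (ht : t ≠ 0) (h : ∀ i, Function.update (fun _ => (1 : F)) j t i ≠ 0) :
    hl j t = dg (Function.update (fun _ => 1) j t) h := by
  have L : ∀ (c : F) i, (tv (lv j) c).1 *ᵥ lv i = (lv i : V) := fun c i => by
    rw [tv_mulVec, sf_lv_lv, mul_zero, zero_smul, add_zero]
  have R : ∀ (c : F) i, (tv (rv j) c).1 *ᵥ rv i = (rv i : V) := fun c i => by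
    rw [tv_mulVec, sf_rv_rv, mul_zero, zero_smul, add_zero]
  have L' : ∀ (c : F) i, (tv (lv j) c).1 *ᵥ rv i = (rv i : V) + (if i = j then c else 0) • lv j := fun c i => by
    rw [tv_mulVec, sf_rv_lv]; split_ifs <;> simp
  have R' : ∀ (c : F) i, (tv (rv j) c).1 *ᵥ lv i = (lv i : V) - (if i = j then c else 0) • rv j := fun c i => by
    rw [tv_mulVec, sf_lv_rv]; split_ifs <;> simp [sub_eq_add_neg]
  refine sp_ext_basis (fun i => ?_) (fun i => ?_)
  · rw [dg_lv, hl]
    simp only [sp_mul_mulVec, L, R', Matrix.mulVec_sub, Matrix.mulVec_smul, R, L', if_true]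
    rcases eq_or_ne i j with rfl | hij
    · simp only [if_true, Function.update_self, Matrix.mulVec_add, Matrix.mulVec_sub, Matrix.mulVec_smul, L, R, R', L']
      match_scalars <;> field_simp <;> ring
    · simp [if_neg hij, Function.update_of_ne hij, L, R']
  · rw [dg_rv, hl]
    simp only [sp_mul_mulVec, L, R, L', Matrix.mulVec_add, Matrix.mulVec_smul, R', if_true]
    rcases eq_or_ne i j with rfl | hij
    · simp only [if_true, Function.update_self, Matrix.mulVec_add, Matrix.mulVec_sub, Matrix.mulVec_smul, L, R, R', L']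
      match_scalars <;> field_simp <;> ring
    · simp [if_neg hij, Function.update_of_ne hij, L', R]

/-- The diagonal element of a short root of the Levi subgroup. -/
def hs (i k : Fin m) (t : F) : Sp :=
  kv (lv i) (rv k) (-t) * kv (lv k) (rv i) t⁻¹ * kv (lv i) (rv k) (-t) *
    (kv (lv i) (rv k) 1 * kv (lv k) (rv i) (-1) * kv (lv i) (rv k) 1)

theorem hs_eq {i k : Fin m} (hik : i ≠ k) {t : F} (ht : t ≠ 0)
    (h : ∀ l, Function.update (Function.update (fun _ => (1 : F)) i t) k t⁻¹ l ≠ 0) :
    hs i k t = dg (Function.update (Function.update (fun _ => 1) i t) k t⁻¹) h := by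
  have K : ∀ (a b : Fin m), a ≠ b → ∀ (c : F) l,
      (kv (lv a) (rv b) c).1 *ᵥ lv l = (lv l : V) - (if l = b then c else 0) • lv a ∧
      (kv (lv a) (rv b) c).1 *ᵥ rv l = (rv l : V) + (if l = a then c else 0) • rv b := by
    intro a b hab c l
    have hu : sf (lv a) (rv b : V) = 0 := by rw [sf_lv_rv, if_neg hab]
    constructor
    · rw [kv_mulVec _ _ hu, sf_lv_lv, sf_lv_rv]; split_ifs <;> module
    · rw [kv_mulVec _ _ hu, sf_rv_lv, sf_rv_rv]; split_ifs <;> module
  refine sp_ext_basis (fun l => ?_) (fun l => ?_)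
  · rw [dg_lv, hs]
    simp only [sp_mul_mulVec, (K i k hik _ _).1, (K k i hik.symm _ _).1, Matrix.mulVec_sub, Matrix.mulVec_smul]
    rcases eq_or_ne l i with rfl | hli
    · simp only [if_true, if_neg hik, if_neg hik.symm, Function.update_self, Function.update_of_ne hik]
      match_scalars <;> field_simp <;> ring
    rcases eq_or_ne l k with rfl | hlk
    · simp only [if_true, if_neg hik, if_neg hik.symm, Function.update_self]
      match_scalars <;> field_simp <;> ring
    · simp [if_neg hli, if_neg hlk, Function.update_of_ne hli, Function.update_of_ne hlk]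
  · rw [dg_rv, hs]
    simp only [sp_mul_mulVec, (K i k hik _ _).2, (K k i hik.symm _ _).2, Matrix.mulVec_add, Matrix.mulVec_smul]
    rcases eq_or_ne l i with rfl | hli
    · simp only [if_true, if_neg hik, if_neg hik.symm, Function.update_self, Function.update_of_ne hik]
      match_scalars <;> field_simp <;> ring
    rcases eq_or_ne l k with rfl | hlk
    · simp only [if_true, if_neg hik, if_neg hik.symm, Function.update_self, inv_inv]
      match_scalars <;> field_simp <;> ring
    · simp [if_neg hli, if_neg hlk, Function.update_of_ne hli, Function.update_of_ne hlk]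

variable [Finite F]

theorem dg_conj_uni (t : Fin m → F) (ht : ∀ i, t i ≠ 0) {u : Sp} (hu : u ∈ uniGroup (m := m) (F := F)) :
    dg t ht * u * (dg t ht)⁻¹ ∈ uniGroup (m := m) (F := F) := by
  have h1 : (dg t ht)⁻¹ = dg (fun i => (t i)⁻¹) (fun i => inv_ne_zero (ht i)) := by
    refine inv_eq_of_mul_eq_one_right ?_
    rw [dg_mul, ← dg_one (fun _ => one_ne_zero)]
    exact dg_congr _ _ (funext fun i => mul_inv_cancel₀ (ht i))
  rw [h1]
  refine mem_uniGroup.2 fun a b hab => ?_
  show (Matrix.diagonal (dd t) * u.1 * Matrix.diagonal (dd fun i => (t i)⁻¹)) a b = _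
  rw [Matrix.mul_diagonal, Matrix.diagonal_mul, hu a b hab]
  split_ifs with h
  · subst h; rcases a with i | i <;> simp [dd, ht i]
  · simp

variable {p : ℕ} [hp : Fact p.Prime] [CharP F p]

/-- The main theorem. -/
theorem isSimple (hm : 2 ≤ m) (hq : m = 2 → ∃ l : F, l ≠ 0 ∧ l ≠ 1) (S : Sylow p G) :
    (Cfsg.groupFusionSystem (S : Subgroup G)).IsSimple p := by
  classical
  haveI : Finite (Matrix.symplecticGroup (Fin m) F) :=
    Finite.of_injective (fun X => (X.1 : Matrix _ _ F)) Subtype.val_injective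
  set U : Subgroup Sp := uniGroup (m := m) (F := F) with hU
  obtain ⟨P₀, hP₀⟩ := exists_sylow_uni (m := m) (F := F) p (by omega)
  obtain ⟨a₁, ha₁⟩ := MulAction.exists_smul_eq G P₀ S
  set π : Sp →* G := (MulAut.conj a₁).toMonoidHom.comp pr with hπ
  have hπs : Function.Surjective π := (MulAut.conj a₁).surjective.comp (QuotientGroup.mk'_surjective _)
  have hSU : (S : Subgroup G) = U.map π := by
    rw [← ha₁, Sylow.coe_subgroup_smul, hP₀, hπ, ← Subgroup.map_map, Subgroup.pointwise_smul_def]
    rfl
  have hπeq : ∀ {A B : Sp}, π A = π B ↔ pr A = pr B := (MulAut.conj a₁).injective.eq_iff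
  have hπc : ∀ g A : Sp, π (g * A * g⁻¹) = π g * π A * (π g)⁻¹ := fun g A => by
    rw [map_mul, map_mul, map_inv]
  have hUS : ∀ A ∈ U, π A ∈ (S : Subgroup G) := fun A hA => hSU ▸ ⟨A, hA, rfl⟩
  obtain ⟨z, hz⟩ : ∃ z : Fin m, z.val = 0 := ⟨⟨0, by omega⟩, rfl⟩
  obtain ⟨o, ho⟩ : ∃ o : Fin m, o.val = 1 := ⟨⟨1, by omega⟩, rfl⟩
  have hzo : z ≠ o := fun e => by rw [e] at hz; omega
  have hzlt : z < o := by rw [Fin.lt_def]; omega
  have hne : (S : Subgroup G) ≠ ⊥ := by
    intro e
    have h1 := hUS _ (tv_mem_uni_inl (lv z) (by simp) 1)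
    rw [e, Subgroup.mem_bot, ← map_one π, hπeq, map_one] at h1
    exact pT_ne_one hm (lv_ne_zero z) one_ne_zero h1
  -- no proper closed subgroup
  have hclosed : ∀ T : Subgroup G, T ≤ (S : Subgroup G) → T ≠ ⊥ →
      (∀ x ∈ T, ∀ g : G, g * x * g⁻¹ ∈ (S : Subgroup G) → g * x * g⁻¹ ∈ T) →
      (S : Subgroup G) ≤ T := by
    intro T hTS hT hcl
    set T' : Subgroup Sp := T.comap π ⊓ U with hT'
    have hcl' : ∀ A ∈ T', ∀ g : Sp, g * A * g⁻¹ ∈ U → g * A * g⁻¹ ∈ T' := fun A hA g hg => by
      refine ⟨?_, hg⟩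
      show π _ ∈ T
      rw [hπc]
      exact hcl _ hA.1 _ (by rw [← hπc]; exact hUS _ hg)
    have huL : ∀ (u w : V), (∀ i, u (.inr i) = 0) → (∀ i, w (.inr i) = 0) → ∀ c, kv u w c ∈ U :=
      fun u w hu hw c => mul_mem (mul_mem (tv_mem_uni_inl _ (fun i => by simp [hu i, hw i]) _)
        (tv_mem_uni_inl _ hu _)) (tv_mem_uni_inl _ hw _)
    have hlu : ∀ (i j : Fin m) (c : F), kv (lv i) (lv j) c ∈ U := fun i j c => huL _ _ (by simp) (by simp) c
    -- from a short root element to a long one
    have hshort : ∀ (i j : Fin m), i ≠ j → ∀ s : F, s ≠ 0 → kv (lv i) (lv j) s ∈ T' →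
        ∃ v : V, v ≠ 0 ∧ ∃ c : F, c ≠ 0 ∧ tv v c ∈ T' := by
      intro i j hij s hs hmem
      set σ : Equiv.Perm (Fin m) := Equiv.swap (Equiv.swap i z j) o * Equiv.swap i z
      have hσi : σ i = z := by
        have hx : Equiv.swap i z j ≠ z := fun e =>
          hij ((Equiv.swap i z).injective (e.trans (Equiv.swap_apply_left i z).symm)).symm
        simp only [σ, Equiv.Perm.mul_apply, Equiv.swap_apply_left]
        exact Equiv.swap_apply_of_ne_of_ne hx.symm hzo
      have hσj : σ j = o := by simp only [σ, Equiv.Perm.mul_apply, Equiv.swap_apply_left]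
      have e1 : pm σ * kv (lv i) (lv j) s * (pm σ)⁻¹ = kv (lv z) (lv o) s := by
        rw [kv_conj _ _ _ (sf_lv_lv i j), pm_lv, pm_lv, hσi, hσj]
      have h1 : kv (lv z) (lv o) s ∈ T' := e1 ▸ hcl' _ hmem (pm σ) (e1 ▸ hlu z o s)
      have e2 : wj o * kv (lv z) (lv o) s * (wj o)⁻¹ = kv (lv z) (rv o) s := by
        rw [kv_conj _ _ _ (sf_lv_lv z o), wj_lv_ne hzo, wj_lv_self]
      have h2 : kv (lv z) (rv o) s ∈ T' := e2 ▸ hcl' _ h1 (wj o) (e2 ▸ kv_mem_uni hzlt s)
      have hu : sf (lv z) (rv o : V) = 0 := by rw [sf_lv_rv, if_neg hzo]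
      have e3 : tv (lv o) 1 * kv (lv z) (rv o) s * (tv (lv o) 1)⁻¹ = kv (lv z) (rv o + lv o) s := by
        rw [kv_conj _ _ _ hu, tv_mulVec, tv_mulVec, sf_lv_lv, sf_rv_lv, if_pos rfl]
        simp
      have hto : tv (lv o) (1 : F) ∈ U := tv_mem_uni_inl _ (by simp) 1
      have h3 : kv (lv z) (rv o + lv o) s ∈ T' :=
        e3 ▸ hcl' _ h2 _ (mul_mem (mul_mem hto h2.2) (inv_mem hto))
      have h4 := mul_mem (inv_mem h3) (mul_mem h2 h1)
      rw [kv_mul_kv hu (sf_lv_lv z o), inv_mul_cancel_left, sf_lv_rv, if_pos rfl] at h4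
      exact ⟨lv z, lv_ne_zero z, _, by simp [hs], h4⟩
    -- a long root element
    obtain ⟨v₀, hv₀, c₀, hc₀, hvc⟩ : ∃ v : V, v ≠ 0 ∧ ∃ c : F, c ≠ 0 ∧ tv v c ∈ T' := by
      haveI : Group.IsNilpotent (S : Subgroup G) := S.2.isNilpotent
      haveI : (T.subgroupOf (S : Subgroup G)).Normal := ⟨fun x hx y => by
        rw [Subgroup.mem_subgroupOf] at hx ⊢
        exact hcl _ hx _ (SetLike.coe_mem (y * x * y⁻¹))⟩
      have hne := CfsgLib.Coprime.nilpotent_inf_center_ne_bot (T.subgroupOf (S : Subgroup G)) (by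
        rw [ne_eq, Subgroup.subgroupOf_eq_bot, disjoint_iff]
        rwa [inf_eq_left.2 hTS])
      obtain ⟨⟨⟨x, hxS⟩, hxT, hxc⟩, hx1⟩ := Subgroup.ne_bot_iff_exists_ne_one.1 hne
      obtain ⟨w, hw, rfl⟩ : x ∈ U.map π := hSU ▸ hxS
      have hcomm : ∀ u ∈ U, Commute (pr w) (pr u) := fun u hu => by
        have h1 := congrArg Subtype.val (Subgroup.mem_center_iff.1 hxc ⟨π u, hUS u hu⟩)
        have h2 : π (u * w) = π (w * u) := by rw [map_mul, map_mul]; exact h1
        rw [hπeq, map_mul, map_mul] at h2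
        exact h2.symm
      obtain ⟨a, b, hu, -, hwab⟩ := eq_of_commute_uni hm hz ho
        (fun v hv => hcomm _ (tv_mem_uni_inl v hv 1)) (fun i j hij => hcomm _ (kv_mem_uni hij 1))
      have hmemU : tv (lv z) a * kv (lv z) (lv o) b ∈ U :=
        mul_mem (tv_mem_uni_inl _ (by simp) a) (hlu z o b)
      have hmem : tv (lv z) a * kv (lv z) (lv o) b ∈ T' := by
        refine ⟨?_, hmemU⟩
        show π _ ∈ T
        rw [← hπeq.2 hwab]
        exact hxT
      have hab : a ≠ 0 ∨ b ≠ 0 := by
        by_contra hcon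
        push Not at hcon
        apply hx1
        apply Subtype.ext
        apply Subtype.ext
        show π w = 1
        rw [← map_one π, hπeq, hwab, hcon.1, hcon.2, tv_zero, kv_zero hu, mul_one]
      by_cases hb : b = 0
      · rw [hb, kv_zero hu, mul_one] at hmem
        exact ⟨lv z, lv_ne_zero z, a, hab.resolve_right (not_not.2 hb), hmem⟩
      by_cases hl : ∃ l : F, l ≠ 0 ∧ l ≠ 1
      · obtain ⟨l, hl0, hl1⟩ := hl
        have ht : ∀ i, Function.update (fun _ => (1 : F)) o l i ≠ 0 := fun i => by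
          simp only [Function.update_apply]; split_ifs <;> simp [hl0]
        set D := dg (Function.update (fun _ => (1 : F)) o l) ht with hD
        have hDz : D.1 *ᵥ lv z = (lv z : V) := by
          rw [hD, dg_lv, Function.update_of_ne hzo, one_smul]
        have e : D * (tv (lv z) a * kv (lv z) (lv o) b) * D⁻¹ = tv (lv z) a * kv (lv z) (lv o) (l * b) := by
          rw [← conj_mul, tv_conj, kv_conj _ _ _ hu, hDz, hD, dg_lv, Function.update_self,
            kv_smul_right hu]
        have h1 := mul_mem (inv_mem hmem) (hcl' _ hmem D (dg_conj_uni _ ht hmemU))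
        rw [e, _root_.mul_inv_rev, mul_assoc, inv_mul_cancel_left, kv_inv hu, kv_add hu (sf_self _)] at h1
        exact hshort z o hzo _ (fun h0 => hl1 (mul_right_cancel₀ hb (by linear_combination h0))) h1
      · have hm3 : 3 ≤ m := by
          by_contra h3
          exact hl (hq (by omega))
        obtain ⟨w', hw'⟩ : ∃ w' : Fin m, w'.val = 2 := ⟨⟨2, by omega⟩, rfl⟩
        have hzw : z ≠ w' := fun e => by rw [e] at hz; omega
        have how : o ≠ w' := fun e => by rw [e] at ho; omega
        have e : pm (Equiv.swap o w') * (tv (lv z) a * kv (lv z) (lv o) b) * (pm (Equiv.swap o w'))⁻¹ =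
            tv (lv z) a * kv (lv z) (lv w') b := by
          rw [← conj_mul, tv_conj, kv_conj _ _ _ hu, pm_lv, pm_lv, Equiv.swap_apply_left,
            Equiv.swap_apply_of_ne_of_ne hzo hzw]
        have hU2 : tv (lv z) a * kv (lv z) (lv w') b ∈ U :=
          mul_mem (tv_mem_uni_inl _ (by simp) a) (hlu z w' b)
        have h1 := mul_mem (inv_mem hmem) (hcl' _ hmem (pm (Equiv.swap o w')) (e ▸ hU2))
        have hno : sf (lv z) (-(lv o) : V) = 0 := by rw [sf_neg_right, hu, neg_zero]
        have hsum : sf (lv z) (-(lv o) + lv w' : V) = 0 := by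
          rw [sf_add_right, hno, sf_lv_lv, add_zero]
        rw [e, _root_.mul_inv_rev, mul_assoc, inv_mul_cancel_left, kv_inv hu, ← kv_neg_right hu,
          kv_mul_kv hno (sf_lv_lv z w'), sf_neg_right, sf_lv_lv, neg_zero, mul_zero, tv_zero, mul_one] at h1
        have hou : sf (lv o) (rv w' : V) = 0 := by rw [sf_lv_rv, if_neg how]
        have e2 : kv (lv o) (rv w') (-1) * kv (lv z) (-(lv o) + lv w') b * (kv (lv o) (rv w') (-1))⁻¹ =
            kv (lv z) (lv w') b := by
          rw [kv_conj _ _ _ hsum]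
          congr 1
          · rw [kv_mulVec _ _ hou, sf_lv_lv, sf_lv_rv, if_neg hzw]
            simp
          · rw [Matrix.mulVec_add, Matrix.mulVec_neg]
            simp only [kv_mulVec _ _ hou, sf_lv_lv, sf_lv_rv,
              if_neg how, if_pos]
            module
        exact hshort z w' hzw b hb (e2 ▸ hcl' _ h1 _ (e2 ▸ hlu z w' b))
    -- all long root elements of the first block
    have hlong : ∀ v : V, (∀ i, v (.inr i) = 0) → ∀ c : F, tv v c ∈ T' := by
      intro v hv
      have hsq : ∀ s : F, tv v (s * s * c₀) ∈ T' := fun s => by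
        rw [← tv_smul]
        by_cases h0 : s • v = 0
        · rw [h0, show tv (0 : V) c₀ = 1 from sp_ext_vec fun x => by rw [tv_mulVec, sp_one_mulVec]; simp]
          exact one_mem _
        · obtain ⟨A, hA⟩ := exists_move hv₀ h0
          have e := tv_conj A v₀ c₀
          rw [hA] at e
          exact e ▸ hcl' _ hvc A (e ▸ tv_mem_uni_inl _ (fun i => by simp [hv i]) c₀)
      intro c
      by_cases h2 : (2 : F) = 0
      · obtain ⟨s, hs⟩ := FiniteField.isSquare_of_char_two (CharP.ringChar_of_prime_eq_zero Nat.prime_two h2) (c / c₀)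
        have := hsq s
        rwa [← hs, div_mul_cancel₀ c hc₀] at this
      · have h := mul_mem (hsq ((c / c₀ + 1) / 2)) (inv_mem (hsq ((c / c₀ - 1) / 2)))
        rw [tv_inv, tv_mul] at h
        convert h using 2
        field_simp
        ring
    have hlev : ∀ (i j : Fin m), i < j → ∀ c : F, kv (lv i) (rv j) c ∈ T' := by
      intro i j hij c
      have h1 : kv (lv i) (lv j) c ∈ T' := mul_mem (mul_mem (hlong _ (fun k => by simp) _)
        (hlong _ (by simp) _)) (hlong _ (by simp) _)
      have e : wj j * kv (lv i) (lv j) c * (wj j)⁻¹ = kv (lv i) (rv j) c := by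
        rw [kv_conj _ _ _ (sf_lv_lv i j), wj_lv_ne hij.ne, wj_lv_self]
      exact e ▸ hcl' _ h1 (wj j) (e ▸ kv_mem_uni hij c)
    rw [hSU]
    exact Subgroup.map_le_iff_le_comap.2 ((uni_le hlong hlev).trans inf_le_left)
  -- the automizer
  have haut : ∀ E : Cfsg.FusionSystem (S : Subgroup G), E.IsSaturated p →
      E.IsInvariantIn (Cfsg.groupFusionSystem (S : Subgroup G)) →
      Subgroup.normalizer ((S : Subgroup G) : Set G) ≤ autSub E (S : Subgroup G) := by
    intro E hEs hinv
    have hnorm : ∀ (R : Subgroup Sp) (g : Sp), (∀ r ∈ R, g * r * g⁻¹ ∈ R) →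
        π g ∈ Subgroup.normalizer ((R.map π : Subgroup G) : Set G) := fun R g hg => by
      refine CfsgLib.Fusion.conj_le_of_subset ?_
      rintro _ ⟨r, hr, rfl⟩
      exact ⟨g * r * g⁻¹, hg r hr, hπc g r⟩
    have hcent : ∀ R : Subgroup Sp,
        (∀ X : Sp, (∀ r ∈ R, Commute (pr X) (pr r)) → pr X ∈ R.map pr) →
        Subgroup.centralizer ((R.map π : Subgroup G) : Set G) ≤ R.map π := by
      intro R hR x hx
      obtain ⟨X, rfl⟩ := hπs x
      obtain ⟨r, hr, he⟩ := hR X fun r hr => by
        have h1 := Subgroup.mem_centralizer_iff.1 hx (π r) ⟨r, hr, rfl⟩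
        rw [← map_mul, ← map_mul, hπeq, map_mul, map_mul] at h1
        exact h1.symm
      exact ⟨r, hr, hπeq.2 he⟩
    have htor : ∀ (t : Fin m → F) (ht : ∀ i, t i ≠ 0) (R : Subgroup Sp), R ≤ U →
        (∀ X : Sp, (∀ r ∈ R, Commute (pr X) (pr r)) → pr X ∈ R.map pr) →
        π (dg t ht) ∈ autSub E (R.map π) → π (dg t ht) ∈ autSub E (S : Subgroup G) := by
      intro t ht R hR hRc h
      refine autSub_of_centric S.2 (CfsgLib.Fusion.isSaturated_group S) hinv.1 hEs (hcent R hRc)
        (hSU ▸ Subgroup.map_mono hR) le_rfl ?_ h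
      rw [hSU]
      exact hnorm U _ fun u hu => dg_conj_uni t ht hu
    -- the first radical
    have hsh : ∀ t : F, t ≠ 0 → ∀ h, π (dg (Function.update (Function.update (fun _ => (1 : F)) z t) o t⁻¹) h)
        ∈ autSub E (S : Subgroup G) := by
      intro t ht h
      refine htor _ h sieg sieg_le_uni (fun X hX => centralizer_sieg hm hX) ?_
      have hRS : (sieg (m := m) (F := F)).map π ≤ (S : Subgroup G) := hSU ▸ Subgroup.map_mono sieg_le_uni
      have hlow : ∀ c : F, π (kv (lv z) (rv o) c) ∈ autSub E ((sieg (m := m) (F := F)).map π) := by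
        intro c
        have hu : sf (lv z) (rv o : V) = 0 := by rw [sf_lv_rv, if_neg hzo]
        refine autSub_of_mem hRS (hUS _ (kv_mem_uni hzlt c)) (hnorm _ _ fun r hr => sieg_conj (fun i j => ?_) hr)
        rw [kv_inv hu, kv_mulVec _ _ hu, sf_lv_lv, sf_lv_rv]
        split_ifs <;> simp
      have hup : ∀ c : F, π (kv (lv o) (rv z) c) ∈ autSub E ((sieg (m := m) (F := F)).map π) := by
        intro c
        have hN : π (pm (Equiv.swap z o)) ∈
            Subgroup.normalizer (((sieg (m := m) (F := F)).map π : Subgroup G) : Set G) := by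
          refine hnorm _ _ fun r hr => sieg_conj (fun i j => ?_) hr
          have h1 := sp_inv_mulVec (pm (F := F) (Equiv.swap z o)) (lv (Equiv.swap z o i))
          rw [pm_lv, Equiv.swap_apply_self] at h1
          rw [h1]
          simp
        have h1 := conj_mem_autSub hinv hRS hN (hlow c)
        rwa [← hπc, kv_conj _ _ _ (by rw [sf_lv_rv, if_neg hzo]), pm_lv, pm_rv, Equiv.swap_apply_left,
          Equiv.swap_apply_right] at h1
      rw [← hs_eq hzo ht h, hs, map_mul, map_mul, map_mul, map_mul, map_mul]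
      exact mul_mem (mul_mem (mul_mem (hlow _) (hup _)) (hlow _)) (mul_mem (mul_mem (hlow _) (hup _)) (hlow _))
    -- the second radical
    have hlo : ∀ j : Fin m, j ≠ z → ∀ t : F, t ≠ 0 → ∀ h, π (dg (Function.update (fun _ => (1 : F)) j t) h)
        ∈ autSub E (S : Subgroup G) := by
      intro j hj t ht h
      refine htor _ h (qrad z) (qrad_le_uni hz) (fun X hX => centralizer_qrad hm hX) ?_
      have hRS : (qrad (F := F) z).map π ≤ (S : Subgroup G) := hSU ▸ Subgroup.map_mono (qrad_le_uni hz)
      have hlow : ∀ c : F, π (tv (lv j) c) ∈ autSub E ((qrad (F := F) z).map π) := by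
        intro c
        refine autSub_of_mem hRS (hUS _ (tv_mem_uni_inl _ (by simp) c))
          (hnorm _ _ fun r hr => qrad_conj one_ne_zero ?_ hr)
        rw [tv_inv, tv_mulVec, sf_lv_lv]
        simp
      have hup : ∀ c : F, π (tv (rv j) c) ∈ autSub E ((qrad (F := F) z).map π) := by
        intro c
        have hN : π (wj j) ∈ Subgroup.normalizer (((qrad (F := F) z).map π : Subgroup G) : Set G) := by
          refine hnorm _ _ fun r hr => qrad_conj one_ne_zero ?_ hr
          conv_lhs => rw [← wj_lv_ne hj.symm, sp_inv_mulVec]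
          rw [one_smul]
        have h1 := conj_mem_autSub hinv hRS hN (hlow c)
        rwa [← hπc, tv_conj, wj_lv_self] at h1
      rw [← hl_eq j ht h, hl, map_mul, map_mul, map_mul, map_mul, map_mul]
      exact mul_mem (mul_mem (mul_mem (hlow _) (hup _)) (hlow _)) (mul_mem (mul_mem (hlow _) (hup _)) (hlow _))
    have hone : ∀ (j : Fin m) (t : F), t ≠ 0 → ∀ h, π (dg (Function.update (fun _ => (1 : F)) j t) h)
        ∈ autSub E (S : Subgroup G) := by
      intro j t ht h
      by_cases hj : j = z
      swap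
      · exact hlo j hj t ht h
      subst hj
      have h1 : ∀ i, Function.update (Function.update (fun _ => (1 : F)) j t) o t⁻¹ i ≠ 0 := fun i => by
        simp only [Function.update_apply]; split_ifs <;> simp [ht]
      have h2 : ∀ i, Function.update (fun _ => (1 : F)) o t i ≠ 0 := fun i => by
        simp only [Function.update_apply]; split_ifs <;> simp [ht]
      have hm' := mul_mem (hsh t ht h1) (hlo o hzo.symm t ht h2)
      rw [← map_mul, dg_mul] at hm'
      refine (?_ : dg _ _ = dg _ h) ▸ hm'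
      refine dg_congr _ _ (funext fun i => ?_)
      rcases eq_or_ne i j with rfl | hij
      · simp [hzo]
      rcases eq_or_ne i o with rfl | hio
      · simp [hzo.symm, ht]
      · simp [hij, hio]
    have htorus : ∀ (d : Fin m → F) (hd : ∀ i, d i ≠ 0), π (dg d hd) ∈ autSub E (S : Subgroup G) := by
      intro d hd
      suffices hs : ∀ s : Finset (Fin m), ∀ h, π (dg (fun i => if i ∈ s then d i else 1) h) ∈
          autSub E (S : Subgroup G) by
        have := hs Finset.univ (fun i => by simp [hd i])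
        exact (dg_congr (s := fun i => if i ∈ (Finset.univ : Finset (Fin m)) then d i else 1) _ hd
          (funext fun i => by simp)) ▸ this
      intro s
      induction s using Finset.induction with
      | empty =>
        intro h
        rw [dg_congr h (fun _ => one_ne_zero) (funext fun i => by simp), dg_one, map_one]
        exact one_mem _
      | insert j s hj ih =>
        intro h
        have h1 : ∀ i, Function.update (fun _ => (1 : F)) j (d j) i ≠ 0 := fun i => by
          simp only [Function.update_apply]; split_ifs <;> simp [hd j]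
        have h2 : ∀ i, (if i ∈ s then d i else 1) ≠ 0 := fun i => by split_ifs <;> simp [hd i]
        have hm' := mul_mem (hone j (d j) (hd j) h1) (ih h2)
        rw [← map_mul, dg_mul] at hm'
        refine (?_ : dg _ _ = dg _ h) ▸ hm'
        refine dg_congr _ _ (funext fun i => ?_)
        rcases eq_or_ne i j with rfl | hij
        · simp [hj]
        · simp [hij]
    -- split off the diagonal
    intro y hy
    obtain ⟨g, rfl⟩ := hπs y
    have hup : ∀ a b, rk b < rk a → g.1 a b = 0 := by
      refine upper_of_pr_normalizer p (by omega) (Subgroup.mem_normalizer_iff.2 fun x => ?_)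
      obtain ⟨X, rfl⟩ := QuotientGroup.mk'_surjective _ x
      have h1 := Subgroup.mem_normalizer_iff.1 hy (π X)
      rw [hSU, ← hπc] at h1
      have h2 : ∀ A : Sp, π A ∈ U.map π ↔ pr A ∈ U.map pr := fun A =>
        ⟨fun ⟨u, hu, he⟩ => ⟨u, hu, hπeq.1 he⟩, fun ⟨u, hu, he⟩ => ⟨u, hu, hπeq.2 he⟩⟩
      rw [h2, h2, map_mul, map_mul, map_inv] at h1
      exact h1
    set d : Fin m → F := fun i => g.1 (.inl i) (.inl i)
    have hdd : ∀ i, d i * g.1 (.inr i) (.inr i) = 1 := by
      intro i
      have h1 := sf_sp g (lv i) (rv i)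
      rw [sf_lv_rv, if_pos rfl, sf_eq, Matrix.mulVec_single_one, Matrix.mulVec_single_one,
        Finset.sum_eq_single i] at h1
      · simp only [Matrix.col_apply] at h1
        rw [hup (.inr i) (.inl i) (by simp [rk]; have := i.2; omega)] at h1
        linear_combination -h1
      · intro j _ hji
        simp only [Matrix.col_apply]
        rw [hup (.inr j) (.inl i) (by simp [rk]; have := i.2; have := j.2; omega)]
        rcases lt_or_gt_of_ne hji with h | h
        · rw [hup (.inr j) (.inr i) (by rw [Fin.lt_def] at h; simp [rk]; have := i.2; omega)]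
          ring
        · rw [hup (.inl j) (.inl i) (by rw [Fin.lt_def] at h; simp [rk]; omega)]
          ring
      · simp
    have hd0 : ∀ i, d i ≠ 0 := fun i => left_ne_zero_of_mul_eq_one (hdd i)
    have hu : (dg d hd0)⁻¹ * g ∈ U := by
      have h1 : (dg d hd0)⁻¹ = dg (fun i => (d i)⁻¹) (fun i => inv_ne_zero (hd0 i)) := by
        refine inv_eq_of_mul_eq_one_right ?_
        rw [dg_mul, ← dg_one (fun _ => one_ne_zero)]
        exact dg_congr _ _ (funext fun i => mul_inv_cancel₀ (hd0 i))
      rw [h1]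
      refine mem_uni_of_upper (fun a b h => ?_) (fun a => ?_)
      · show (Matrix.diagonal (dd fun i => (d i)⁻¹) * g.1) a b = 0
        rw [Matrix.diagonal_mul, hup a b h, mul_zero]
      · show (Matrix.diagonal (dd fun i => (d i)⁻¹) * g.1) a a = 1
        rw [Matrix.diagonal_mul]
        rcases a with i | i
        · exact inv_mul_cancel₀ (hd0 i)
        · show (d i)⁻¹⁻¹ * _ = 1
          rw [inv_inv, hdd i]
    rw [← mul_inv_cancel_left (dg d hd0) g, map_mul]
    exact mul_mem (htorus d hd0) (autSub_of_mem le_rfl (hUS _ hu) (Subgroup.le_normalizer (hUS _ hu)))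
  exact CfsgLib.Fusion.isSimple_group_of_closed_automizer S hne hclosed haut

end CfsgLib.FusionCharP.Symplectic
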