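import Cfsg.Agent.Lib.Fusion.ClassicalCharP.SymplecticSetup

/-!
# The two radicals of `Sp_{2m}` used for the automizer of a Sylow subgroup
-/

set_option autoImplicit false
set_option linter.unusedSectionVars false
set_option linter.style.haveILetI false

open Matrix

namespace CfsgLib.FusionCharP.Symplectic

open CfsgLib.Sp

attribute [-simp] Matrix.mulVec_single_one Matrix.mulVec_single

variable {m : ℕ} {F : Type*} [Field F]

local notation "Sp" => Matrix.symplecticGroup (Fin m) F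
local notation "V" => (Fin m ⊕ Fin m → F)

theorem sum_inl_eq {v : V} (hv : ∀ i, v (.inr i) = 0) : v = ∑ i, v (.inl i) • lv i := by
  funext a
  rcases a with a | a <;> simp [Finset.sum_apply, Pi.single_apply, hv]

/-- The pointwise stabiliser of the first block. -/
def sieg : Subgroup Sp where
  carrier := {X | ∀ i, X.1 *ᵥ lv i = (lv i : V)}
  mul_mem' {X Y} hX hY i := by rw [sp_mul_mulVec, hY i, hX i]
  one_mem' i := sp_one_mulVec _
  inv_mem' {X} hX i := by conv_lhs => rw [← hX i, sp_inv_mulVec]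

theorem mem_sieg {X : Sp} : X ∈ sieg ↔ ∀ i, X.1 *ᵥ lv i = (lv i : V) := Iff.rfl

theorem sieg_fix {X : Sp} (hX : X ∈ sieg) {v : V} (hv : ∀ i, v (.inr i) = 0) : X.1 *ᵥ v = v := by
  rw [sum_inl_eq hv, Matrix.mulVec_sum]
  exact Finset.sum_congr rfl fun i _ => by rw [Matrix.mulVec_smul, hX i]

theorem tv_mem_sieg {v : V} (hv : ∀ i, v (.inr i) = 0) (c : F) : tv v c ∈ sieg := fun i => by
  rw [tv_mulVec, sf_swap, sf_lv, hv]; simp

theorem sieg_conj {g X : Sp} (hg : ∀ i j, ((g⁻¹).1 *ᵥ lv i : V) (.inr j) = 0) (hX : X ∈ sieg) :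
    g * X * g⁻¹ ∈ sieg := fun i => by
  rw [sp_mul_mulVec, sp_mul_mulVec, sieg_fix hX (hg i), sp_mulVec_inv]

/-- The radical of the stabiliser of a point. -/
def qrad (z : Fin m) : Subgroup Sp where
  carrier := {X | X.1 *ᵥ lv z = (lv z : V) ∧ ∀ w : V, sf w (lv z) = 0 → ∃ c : F, X.1 *ᵥ w = w + c • lv z}
  one_mem' := ⟨sp_one_mulVec _, fun w _ => ⟨0, by rw [sp_one_mulVec]; simp⟩⟩
  mul_mem' {X Y} hX hY := by
    refine ⟨by rw [sp_mul_mulVec, hY.1, hX.1], fun w hw => ?_⟩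
    obtain ⟨c, hc⟩ := hY.2 w hw
    obtain ⟨d, hd⟩ := hX.2 w hw
    refine ⟨d + c, ?_⟩
    rw [sp_mul_mulVec, hc, Matrix.mulVec_add, Matrix.mulVec_smul, hX.1, hd]
    module
  inv_mem' {X} hX := by
    have h1 : (X⁻¹).1 *ᵥ lv z = (lv z : V) := by conv_lhs => rw [← hX.1, sp_inv_mulVec]
    refine ⟨h1, fun w hw => ?_⟩
    obtain ⟨c, hc⟩ := hX.2 w hw
    refine ⟨-c, ?_⟩
    have h2 : X.1 *ᵥ (w + (-c) • lv z) = w := by
      rw [Matrix.mulVec_add, Matrix.mulVec_smul, hX.1, hc]; module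
    conv_lhs => rw [← h2, sp_inv_mulVec]

theorem mem_qrad {z : Fin m} {X : Sp} : X ∈ qrad z ↔ X.1 *ᵥ lv z = (lv z : V) ∧
    ∀ w : V, sf w (lv z) = 0 → ∃ c : F, X.1 *ᵥ w = w + c • lv z := Iff.rfl

theorem tv_mem_qrad (z : Fin m) (a : F) : tv (lv z) a ∈ qrad (F := F) z :=
  ⟨by rw [tv_mulVec, sf_self]; simp, fun w hw => ⟨0, by rw [tv_mulVec, hw]; simp⟩⟩

theorem kv_mem_qrad {z : Fin m} {u : V} (hu : sf (lv z) u = 0) (a : F) : kv (lv z) u a ∈ qrad (F := F) z :=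
  ⟨by rw [kv_mulVec _ _ hu, sf_self, hu]; simp, fun w hw => ⟨a * sf w u, by rw [kv_mulVec _ _ hu, hw]; simp⟩⟩

theorem qrad_conj {z : Fin m} {g X : Sp} {μ : F} (hμ : μ ≠ 0) (hg : (g⁻¹).1 *ᵥ lv z = μ • (lv z : V))
    (hX : X ∈ qrad z) : g * X * g⁻¹ ∈ qrad z := by
  have hgz : g.1 *ᵥ lv z = μ⁻¹ • (lv z : V) := by
    have h := congrArg (fun v => g.1 *ᵥ v) hg
    simp only [sp_mulVec_inv, Matrix.mulVec_smul] at h
    rw [eq_inv_smul_iff₀ hμ]
    exact h.symm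
  refine ⟨?_, fun w hw => ?_⟩
  · rw [sp_mul_mulVec, sp_mul_mulVec, hg, Matrix.mulVec_smul, hX.1, Matrix.mulVec_smul, hgz, smul_smul,
      mul_inv_cancel₀ hμ, one_smul]
  · have h1 : sf ((g⁻¹).1 *ᵥ w) (lv z) = 0 := by
      have h2 := sf_sp g⁻¹ w (lv z)
      rw [hg, sf_smul_right, hw, mul_eq_zero] at h2
      exact h2.resolve_left hμ
    obtain ⟨c, hc⟩ := hX.2 _ h1
    refine ⟨c * μ⁻¹, ?_⟩
    rw [sp_mul_mulVec, sp_mul_mulVec, hc, Matrix.mulVec_add, Matrix.mulVec_smul, sp_mulVec_inv, hgz, smul_smul]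

variable [Finite F]

theorem sieg_le_uni : sieg (m := m) (F := F) ≤ uniGroup := by
  intro X hX
  refine mem_uniGroup.2 (isUni_of_mulVec fun a b hab => ?_)
  rcases b with j | j
  · rw [show (Pi.single (Sum.inl j) 1 : V) = lv j from rfl, hX j]
  · rcases a with i | i
    · simp [rk] at hab; have := i.2; have := j.2; omega
    · rw [inr_apply_of_fix hX]

theorem qrad_le_uni {z : Fin m} (hz : z.val = 0) : qrad (F := F) z ≤ uniGroup := by
  intro X hX
  refine mem_uniGroup.2 (isUni_of_mulVec fun a b hab => ?_)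
  by_cases hb : b = .inr z
  · subst hb
    obtain rfl : a = .inr z := by
      apply rk_injective
      have := rk_lt a
      simp [rk, hz] at hab this ⊢
      omega
    rw [← sf_lv (X.1 *ᵥ Pi.single (Sum.inr z) 1) z, ← hX.1, sf_sp, sf_lv]
  · obtain ⟨c, hc⟩ := hX.2 (Pi.single b 1) (by rw [sf_lv, Pi.single_apply, if_neg (Ne.symm hb)])
    by_cases ha : a = .inl z
    · subst ha
      obtain rfl : b = .inl z := by
        apply rk_injective
        simp [rk, hz] at hab ⊢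
        exact hab
      rw [show (Pi.single (Sum.inl z) 1 : V) = lv z from rfl, hX.1]
    · rw [hc, Pi.add_apply, Pi.smul_apply]
      simp [ha]

/-! ### Centralisers -/

omit [Finite F] in
theorem eigen_of_commute (hm : 2 ≤ m) {X : Sp} {v : V} (hv : v ≠ 0)
    (h : Commute (pr X) (pr (tv v 1))) : ∃ s : F, (s = 1 ∨ s = -1) ∧ X.1 *ᵥ v = s • v := by
  have h1 : pr (tv (X.1 *ᵥ v) 1) = pr (tv v (1 : F)) := by
    rw [← tv_conj, map_mul, map_mul, h.eq, map_inv, mul_inv_cancel_right]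
  obtain ⟨x, hx0, hxv, hxw⟩ := exists_orth_two hm v (X.1 *ᵥ v)
  have h2 := pr_eq_fix (by omega) h1 hx0 (by rw [tv_mulVec, hxw]; simp) (by rw [tv_mulVec, hxv]; simp)
  obtain ⟨y, hy⟩ := exists_sf_eq_one hv
  have h3 := congrArg (fun T : Sp => T.1 *ᵥ y) h2
  simp only [tv_mulVec, hy, one_mul, one_smul, add_right_inj] at h3
  set s := sf y (X.1 *ᵥ v) with hs
  have hs0 : s ≠ 0 := fun h0 => hv (by rw [← h3, h0, zero_smul])
  have h4 : X.1 *ᵥ v = s⁻¹ • v := (eq_inv_smul_iff₀ hs0).2 h3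
  have h5 : s = s⁻¹ := by
    conv_lhs => rw [hs, h4, sf_smul_right, hy, mul_one]
  refine ⟨s, mul_self_eq_one_iff.1 ?_, by rw [h4, ← h5]⟩
  conv_lhs => enter [2]; rw [h5]
  exact mul_inv_cancel₀ hs0

omit [Finite F] in
theorem exists_normalized (hm : 1 ≤ m) (X : Sp) {s : F} (hs : s = 1 ∨ s = -1) :
    ∃ Y : Sp, pr Y = pr X ∧ ∀ v : V, Y.1 *ᵥ v = s • (X.1 *ᵥ v) := by
  rcases hs with rfl | rfl
  · exact ⟨X, rfl, fun v => (one_smul F _).symm⟩
  · obtain ⟨Y, hY⟩ : ∃ Y : Sp, Y.1 = -X.1 := ⟨⟨-X.1, SymplecticGroup.neg_mem X.2⟩, rfl⟩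
    refine ⟨Y, (pr_eq_iff hm).2 (Or.inr (by rw [hY, neg_neg])), fun v => ?_⟩
    rw [hY, Matrix.neg_mulVec, neg_one_smul]

omit [Finite F] in
theorem centralizer_sieg (hm : 2 ≤ m) {X : Sp}
    (h : ∀ R ∈ sieg (m := m) (F := F), Commute (pr X) (pr R)) :
    pr X ∈ (sieg (m := m) (F := F)).map pr := by
  classical
  have heig : ∀ v : V, v ≠ 0 → (∀ i, v (.inr i) = 0) → ∃ s : F, (s = 1 ∨ s = -1) ∧ X.1 *ᵥ v = s • v :=
    fun v hv hvi => eigen_of_commute hm hv (h _ (tv_mem_sieg hvi 1))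
  choose c hcs hc using fun i => heig (lv i) (lv_ne_zero i) (by simp)
  set z : Fin m := ⟨0, by omega⟩
  have hconst : ∀ i, c i = c z := by
    intro i
    rcases eq_or_ne i z with rfl | hiz
    · rfl
    have hne : (lv i + lv z : V) ≠ 0 := fun h => by simpa [hiz] using congrFun h (.inl i)
    obtain ⟨d, -, hd⟩ := heig _ hne (fun k => by simp)
    rw [Matrix.mulVec_add, hc, hc] at hd
    have e1 := congrFun hd (.inl i)
    have e2 := congrFun hd (.inl z)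
    simp [hiz, hiz.symm] at e1 e2
    rw [e1, e2]
  obtain ⟨Y, hY, hYv⟩ := exists_normalized (by omega) X (hcs z)
  refine ⟨Y, fun i => ?_, hY⟩
  rw [hYv, hc, hconst i, smul_smul]
  rcases hcs z with e | e <;> rw [e] <;> simp

omit [Finite F] in
theorem centralizer_qrad (hm : 2 ≤ m) {z : Fin m} {X : Sp}
    (h : ∀ R ∈ qrad (F := F) z, Commute (pr X) (pr R)) : pr X ∈ (qrad (F := F) z).map pr := by
  obtain ⟨s, hs, hXz⟩ := eigen_of_commute hm (lv_ne_zero z) (h _ (tv_mem_qrad z 1))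
  obtain ⟨Y, hY, hYv⟩ := exists_normalized (by omega) X hs
  have hYz : Y.1 *ᵥ lv z = (lv z : V) := by
    rw [hYv, hXz, smul_smul]
    rcases hs with e | e <;> rw [e] <;> simp
  refine ⟨Y, ⟨hYz, fun w hw => ?_⟩, hY⟩
  have hzw : sf (lv z) w = 0 := by rw [sf_swap, hw, neg_zero]
  have hzw' : sf (lv z) (Y.1 *ᵥ w) = 0 := by rw [← hYz, sf_sp, hzw]
  have hc := h _ (kv_mem_qrad hzw 1)
  rw [← hY] at hc
  have h1 : pr (kv (lv z) (Y.1 *ᵥ w) 1) = pr (kv (lv z) w 1) := by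
    have e := kv_conj Y (lv z) w hzw 1
    rw [hYz] at e
    rw [← e, map_mul, map_mul, hc.eq, map_inv, mul_inv_cancel_right]
  have h2 := pr_eq_fix (by omega) h1 (lv_ne_zero z) (by rw [kv_mulVec _ _ hzw', sf_self, hzw']; simp)
    (by rw [kv_mulVec _ _ hzw, sf_self, hzw]; simp)
  have h3 := congrArg (fun T : Sp => T.1 *ᵥ rv z) h2
  simp only [kv_mulVec _ _ hzw', kv_mulVec _ _ hzw, sf_rv_lv, if_true, one_mul, one_smul] at h3
  exact ⟨sf (rv z) w - sf (rv z) (Y.1 *ᵥ w), by linear_combination (norm := module) h3⟩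

end CfsgLib.FusionCharP.Symplectic
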