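import Cfsg.Agent.Lib.Sp.Centre
import Cfsg.Agent.Lib.Fusion.Thompson

/-!
# Root elements, torus, and the Sylow subgroup of `Sp_{2m}` in the defining characteristic
-/

set_option autoImplicit false
set_option linter.unusedSectionVars false
set_option linter.style.haveILetI false

open Matrix

namespace CfsgLib.FusionCharP.Symplectic

open CfsgLib.Sp

attribute [-simp] Matrix.mulVec_single_one Matrix.mulVec_single

variable {m : ℕ} {F : Type*} [Field F]

local notation "Sp" => Matrix.symplecticGroup (Fin m) F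
local notation "V" => (Fin m ⊕ Fin m → F)
local notation "MM" => Matrix (Fin m ⊕ Fin m) (Fin m ⊕ Fin m) F

theorem sf_lv_lv (i j : Fin m) : sf (lv i) (lv j : V) = 0 := by rw [sf_lv]; simp

theorem sf_rv_rv (i j : Fin m) : sf (rv i) (rv j : V) = 0 := by rw [sf_rv]; simp

theorem sf_lv_rv (i j : Fin m) : sf (lv i) (rv j : V) = if i = j then -1 else 0 := by
  rw [sf_rv]
  simp only [Pi.single_apply, Sum.inl.injEq]
  by_cases h : j = i <;> simp [h, Ne.symm]

theorem sf_rv_lv (i j : Fin m) : sf (rv i) (lv j : V) = if i = j then 1 else 0 := by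
  rw [sf_lv]
  simp only [Pi.single_apply, Sum.inr.injEq]
  by_cases h : j = i <;> simp [h, Ne.symm]

theorem sf_neg_right (u v : V) : sf u (-v) = -sf u v := by
  rw [← neg_one_smul F v, sf_smul_right, neg_one_mul]

theorem sp_ext_basis {A B : Sp} (hl : ∀ i, A.1 *ᵥ lv i = B.1 *ᵥ (lv i : V))
    (hr : ∀ i, A.1 *ᵥ rv i = B.1 *ᵥ (rv i : V)) : A = B :=
  Subtype.ext (Matrix.ext_of_mulVec_single fun a => by
    rcases a with i | i
    · exact hl i
    · exact hr i)

/-! ### Short root elements -/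

theorem kv_add {u w : V} (h : sf u w = 0) (hw : sf w w = 0) (a b : F) :
    kv u w a * kv u w b = kv u w (a + b) := by
  have h' : sf w u = 0 := by rw [sf_swap, h, neg_zero]
  refine sp_ext_vec fun x => ?_
  simp only [sp_mul_mulVec, kv_mulVec _ _ h, sf_add_left, sf_smul_left, h, h', hw, sf_self, mul_zero,
    add_zero]
  module

theorem kv_zero {u w : V} (h : sf u w = 0) : kv u w (0 : F) = 1 := sp_ext_vec fun x => by
  rw [kv_mulVec _ _ h, sp_one_mulVec]; simp

theorem kv_inv {u w : V} (h : sf u w = 0) (a : F) : (kv u w a)⁻¹ = kv u w (-a) := by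
  refine inv_eq_of_mul_eq_one_right ?_
  rw [kv_add h (sf_self w), add_neg_cancel, kv_zero h]

theorem tv_inv (v : V) (a : F) : (tv v a)⁻¹ = tv v (-a) := by
  refine inv_eq_of_mul_eq_one_right ?_
  rw [tv_mul, add_neg_cancel, tv_zero]

theorem kv_neg_right {u w : V} (h : sf u w = 0) (a : F) : kv u (-w) a = kv u w (-a) := by
  refine sp_ext_vec fun x => ?_
  rw [kv_mulVec _ _ (by rw [sf_neg_right, h, neg_zero]), kv_mulVec _ _ h, sf_neg_right]
  module

theorem kv_mul_kv {u w₁ w₂ : V} (h₁ : sf u w₁ = 0) (h₂ : sf u w₂ = 0) (c : F) :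
    kv u w₁ c * kv u w₂ c = kv u (w₁ + w₂) c * tv u (c * c * sf w₂ w₁) := by
  have h₁' : sf w₁ u = 0 := by rw [sf_swap, h₁, neg_zero]
  have h₂' : sf w₂ u = 0 := by rw [sf_swap, h₂, neg_zero]
  have h : sf u (w₁ + w₂) = 0 := by rw [sf_add_right, h₁, h₂, add_zero]
  refine sp_ext_vec fun x => ?_
  simp only [sp_mul_mulVec, kv_mulVec _ _ h₁, kv_mulVec _ _ h₂, kv_mulVec _ _ h, tv_mulVec, sf_add_left,
    sf_add_right, sf_smul_left, h₁, h₂, h₁', h₂', sf_self, mul_zero, add_zero]
  module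

/-! ### Monomial elements -/

/-- The diagonal. -/
def dd (t : Fin m → F) : Fin m ⊕ Fin m → F := Sum.elim t (fun i => (t i)⁻¹)

theorem diagonal_mem {t : Fin m → F} (ht : ∀ i, t i ≠ 0) :
    Matrix.diagonal (dd t) ∈ Matrix.symplecticGroup (Fin m) F := by
  refine mem_sp_iff.2 fun u v => ?_
  rw [sf_eq, sf_eq]
  refine Finset.sum_congr rfl fun i _ => ?_
  simp only [Matrix.mulVec_diagonal, dd, Sum.elim_inl, Sum.elim_inr]
  field_simp [ht i]

/-- The torus element. -/
def dg (t : Fin m → F) (ht : ∀ i, t i ≠ 0) : Sp := ⟨Matrix.diagonal (dd t), diagonal_mem ht⟩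

theorem dg_lv (t : Fin m → F) (ht : ∀ i, t i ≠ 0) (i : Fin m) :
    (dg t ht).1 *ᵥ lv i = t i • (lv i : V) := by
  funext a
  show ((Matrix.diagonal (dd t)) *ᵥ lv i) a = _
  rw [Matrix.mulVec_diagonal]
  rcases a with j | j <;> by_cases h : j = i <;> simp [dd, h]

theorem dg_rv (t : Fin m → F) (ht : ∀ i, t i ≠ 0) (i : Fin m) :
    (dg t ht).1 *ᵥ rv i = (t i)⁻¹ • (rv i : V) := by
  funext a
  show ((Matrix.diagonal (dd t)) *ᵥ rv i) a = _
  rw [Matrix.mulVec_diagonal]
  rcases a with j | j <;> by_cases h : j = i <;> simp [dd, h]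

theorem dg_congr {s t : Fin m → F} (hs : ∀ i, s i ≠ 0) (ht : ∀ i, t i ≠ 0) (h : s = t) :
    dg s hs = dg t ht := by subst h; rfl

theorem dg_mul (s t : Fin m → F) (hs : ∀ i, s i ≠ 0) (ht : ∀ i, t i ≠ 0) :
    dg s hs * dg t ht = dg (fun i => s i * t i) (fun i => mul_ne_zero (hs i) (ht i)) := by
  apply Subtype.ext
  rw [sp_mul_val]
  show Matrix.diagonal (dd s) * Matrix.diagonal (dd t) = Matrix.diagonal (dd _)
  rw [Matrix.diagonal_mul_diagonal]
  congr 1
  funext a
  rcases a with i | i <;> simp [dd, mul_inv, mul_comm]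

theorem dg_one (ht : ∀ i : Fin m, (fun _ => (1 : F)) i ≠ 0) : dg (fun _ => 1) ht = 1 := by
  apply Subtype.ext
  show Matrix.diagonal (dd (fun _ => (1 : F))) = 1
  rw [← Matrix.diagonal_one]
  congr 1
  funext a
  rcases a with i | i <;> simp [dd]

/-- The permutation element. -/
def pm (ρ : Equiv.Perm (Fin m)) : Sp :=
  ⟨Matrix.of fun a b => if Equiv.sumCongr ρ ρ b = a then 1 else 0, mem_sp_iff.2 fun u v => by
    have h : ∀ x : V, (Matrix.of fun a b => if Equiv.sumCongr ρ ρ b = a then (1 : F) else 0) *ᵥ x =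
        fun a => x ((Equiv.sumCongr ρ ρ).symm a) := by
      intro x; funext a
      simp only [Matrix.mulVec, dotProduct, Matrix.of_apply, ite_mul, one_mul, zero_mul]
      rcases a with a | a <;> simp [← Equiv.eq_symm_apply]
    rw [h, h, sf_eq, sf_eq]
    refine Fintype.sum_equiv ρ.symm _ _ fun i => ?_
    simp⟩

theorem pm_single (ρ : Equiv.Perm (Fin m)) (a : Fin m ⊕ Fin m) :
    (pm (F := F) ρ).1 *ᵥ Pi.single a 1 = Pi.single (Equiv.sumCongr ρ ρ a) 1 := by
  rw [Matrix.mulVec_single_one]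
  funext b
  simp [pm, Pi.single_apply, eq_comm]

theorem pm_lv (ρ : Equiv.Perm (Fin m)) (i : Fin m) : (pm (F := F) ρ).1 *ᵥ lv i = lv (ρ i) := by
  rw [pm_single]; rfl

theorem pm_rv (ρ : Equiv.Perm (Fin m)) (i : Fin m) : (pm (F := F) ρ).1 *ᵥ rv i = rv (ρ i) := by
  rw [pm_single]; rfl

/-- Exchange of a hyperbolic pair. -/
def wj (j : Fin m) : Sp := tv (lv j) (-1) * tv (rv j) (-1) * tv (lv j) (-1)

theorem wj_lv_self (j : Fin m) : (wj (F := F) j).1 *ᵥ lv j = rv j := by
  simp only [wj, sp_mul_mulVec, tv_mulVec, Matrix.mulVec_add, Matrix.mulVec_smul, sf_lv_lv, sf_lv_rv,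
    sf_rv_rv, sf_rv_lv, sf_add_left, sf_smul_left, if_true]
  module

theorem wj_lv_ne {i j : Fin m} (h : i ≠ j) : (wj (F := F) j).1 *ᵥ lv i = lv i := by
  simp only [wj, sp_mul_mulVec, tv_mulVec, sf_lv_lv, sf_lv_rv, if_neg h, mul_zero, zero_smul, add_zero]

/-! ### The unitriangular group -/

theorem rk_injective : Function.Injective (rk (m := m)) := by
  rintro (i | i) (j | j) h <;> simp [rk] at h <;> first
    | (have := i.2; have := j.2; omega)
    | (congr 1; apply Fin.ext; have := i.2; have := j.2; omega)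

theorem apply_of_uni {X : MM} (hX : IsUni X) {v : V} {k : ℕ} (hv : ∀ a, k + 1 ≤ rk a → v a = 0)
    {a : Fin m ⊕ Fin m} (ha : k ≤ rk a) : (X *ᵥ v) a = v a := by
  show ∑ b, X a b * v b = v a
  rw [Finset.sum_eq_single a]
  · rw [hX a a le_rfl, if_pos rfl, one_mul]
  · intro b _ hb
    by_cases h : k + 1 ≤ rk b
    · rw [hv b h, mul_zero]
    · rw [hX a b (by omega), if_neg hb.symm, zero_mul]
  · simp

variable [Finite F]

theorem exists_step {a : Fin m ⊕ Fin m} (ha : 1 ≤ rk a) :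
    ∃ u ∈ uniGroup (m := m) (F := F), ∃ b, rk b + 1 = rk a ∧
      ∀ v : V, v a ≠ 0 → (u.1 *ᵥ v) b ≠ v b := by
  rcases a with i | i
  · simp [rk] at ha
    obtain ⟨i', hi'⟩ : ∃ i' : Fin m, i'.val + 1 = i.val := ⟨⟨i.val - 1, by omega⟩, by simp; omega⟩
    have hlt : i' < i := by rw [Fin.lt_def]; omega
    refine ⟨_, kv_mem_uni hlt 1, .inl i', by simp [rk, hi'], fun v hv h => ?_⟩
    rw [kv_mulVec _ _ (by rw [sf_lv_rv, if_neg hlt.ne]), sf_lv, sf_rv] at h
    simp at h
    exact hv h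
  · by_cases hi : i.val + 1 = m
    · refine ⟨_, tv_mem_uni_inl (lv i) (by simp) 1, .inl i, by simp [rk]; omega, fun v hv h => ?_⟩
      rw [tv_mulVec, sf_lv] at h
      simp at h
      exact hv h
    · obtain ⟨i', hi'⟩ : ∃ i' : Fin m, i'.val = i.val + 1 := ⟨⟨i.val + 1, by have := i.2; omega⟩, rfl⟩
      have hlt : i < i' := by rw [Fin.lt_def]; omega
      refine ⟨_, kv_mem_uni hlt 1, .inr i', by have := i'.2; simp [rk]; omega, fun v hv h => ?_⟩
      rw [kv_mulVec _ _ (by rw [sf_lv_rv, if_neg hlt.ne]), sf_lv, sf_rv] at h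
      simp at h
      exact hv h

theorem upper_of_normalizes {g : Sp} (hg : ∀ u ∈ uniGroup (m := m) (F := F), g * u * g⁻¹ ∈ uniGroup)
    (hgi : ∀ u ∈ uniGroup (m := m) (F := F), g⁻¹ * u * g ∈ uniGroup) :
    ∀ a b, rk b < rk a → g.1 a b = 0 := by
  have key : ∀ k (v : V), (∀ a, k ≤ rk a → v a = 0) → ∀ a, k ≤ rk a → (g.1 *ᵥ v) a = 0 := by
    intro k
    induction k with
    | zero =>
      intro v hv a _
      rw [show v = 0 from funext fun b => hv b (Nat.zero_le _), Matrix.mulVec_zero]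
      rfl
    | succ k ih =>
      intro v hv a ha
      have hfix : ∀ u ∈ uniGroup (m := m) (F := F), ∀ b, k ≤ rk b →
          (u.1 *ᵥ (g.1 *ᵥ v)) b = (g.1 *ᵥ v) b := by
        intro u hu b hb
        have h1 : u.1 *ᵥ (g.1 *ᵥ v) = g.1 *ᵥ ((g⁻¹ * u * g).1 *ᵥ v) := by
          rw [← sp_mul_mulVec, ← sp_mul_mulVec]
          congr 2
          group
        have h2 := ih ((g⁻¹ * u * g).1 *ᵥ v - v) (fun c hc => by
          rw [Pi.sub_apply, apply_of_uni (hgi u hu) hv hc, sub_self]) b hb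
        rw [Matrix.mulVec_sub, ← h1, Pi.sub_apply, sub_eq_zero] at h2
        exact h2
      by_contra hne
      obtain ⟨u, hu, b, hb, hmove⟩ := exists_step (F := F) (a := a) (by omega)
      exact hmove _ hne (hfix u hu b (by omega))
  intro a b hab
  have h1 := key (rk b + 1) (Pi.single b 1) (fun c hc => by
    rw [Pi.single_eq_of_ne]; rintro rfl; omega) a (by omega)
  rwa [Matrix.mulVec_single_one] at h1

theorem upper_mul_diag {X Y : MM} (hX : ∀ a b, rk b < rk a → X a b = 0)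
    (hY : ∀ a b, rk b < rk a → Y a b = 0) :
    (∀ a b, rk b < rk a → (X * Y) a b = 0) ∧ ∀ a, (X * Y) a a = X a a * Y a a := by
  refine ⟨fun a b h => ?_, fun a => ?_⟩
  · rw [Matrix.mul_apply]
    refine Finset.sum_eq_zero fun c _ => ?_
    by_cases hc : rk c < rk a
    · rw [hX a c hc, zero_mul]
    · rw [hY c b (by omega), mul_zero]
  · rw [Matrix.mul_apply, Finset.sum_eq_single a]
    · intro c _ hca
      rcases lt_or_gt_of_ne (rk_injective.ne hca) with h | h
      · rw [hX a c h, zero_mul]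
      · rw [hY c a h, mul_zero]
    · simp

theorem upper_pow {g : Sp} (hg : ∀ a b, rk b < rk a → g.1 a b = 0) :
    ∀ n : ℕ, (∀ a b, rk b < rk a → (g ^ n).1 a b = 0) ∧ ∀ a, (g ^ n).1 a a = g.1 a a ^ n := by
  intro n
  induction n with
  | zero =>
    refine ⟨fun a b h => ?_, fun a => ?_⟩
    · rw [pow_zero]; exact Matrix.one_apply_ne (fun e => by rw [e] at h; exact lt_irrefl _ h)
    · rw [pow_zero, pow_zero]; exact Matrix.one_apply_eq a
  | succ n ih =>
    rw [pow_succ, sp_mul_val]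
    exact ⟨(upper_mul_diag ih.1 hg).1, fun a => by rw [(upper_mul_diag ih.1 hg).2, ih.2, pow_succ]⟩

theorem mem_uni_of_upper {g : Sp} (hg : ∀ a b, rk b < rk a → g.1 a b = 0) (hd : ∀ a, g.1 a a = 1) :
    g ∈ uniGroup (m := m) (F := F) := by
  refine mem_uniGroup.2 fun a b hab => ?_
  rcases hab.eq_or_lt with h | h
  · obtain rfl := rk_injective h
    rw [if_pos rfl, hd]
  · rw [hg a b h, if_neg (fun e => by rw [e] at h; exact lt_irrefl _ h)]

/-! ### Characteristic `p` -/

theorem uni_pow_eq_one (p : ℕ) [Fact p.Prime] [CharP F p] {u : Sp}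
    (hu : u ∈ uniGroup (m := m) (F := F)) : ∃ k, u ^ p ^ k = 1 := by
  obtain ⟨k, hk⟩ := isPGroup_uniGroup (p := p) ⟨u, hu⟩
  exact ⟨k, congrArg Subtype.val hk⟩

theorem eq_one_of_pow (p : ℕ) [Fact p.Prime] [CharP F p] {c : F} {k : ℕ} (h : c ^ p ^ k = 1) : c = 1 := by
  have h1 : (c - 1) ^ p ^ k = 0 := by rw [sub_pow_char_pow, h, one_pow, sub_self]
  exact sub_eq_zero.1 (eq_zero_of_pow_eq_zero h1)

theorem neg_one_pow_p (p : ℕ) [Fact p.Prime] [CharP F p] (k : ℕ) : (-1 : F) ^ p ^ k = -1 := by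
  have h := sub_pow_char_pow (R := F) (p := p) (n := k) 0 1
  rwa [zero_sub, one_pow, zero_pow (pow_ne_zero _ (Fact.out : p.Prime).ne_zero), zero_sub] at h

/-- A conjugate of a unitriangular element is not minus a unitriangular element. -/
theorem eq_of_pr_eq (p : ℕ) [Fact p.Prime] [CharP F p] (hm : 1 ≤ m) {g u w : Sp}
    (hu : u ∈ uniGroup (m := m) (F := F)) (hw : w ∈ uniGroup (m := m) (F := F))
    (h : pr w = pr (g * u * g⁻¹)) : g * u * g⁻¹ = w := by
  rcases (pr_eq_iff hm).1 h with h1 | h1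
  · exact Subtype.ext h1
  obtain ⟨k, hk⟩ := uni_pow_eq_one p hu
  obtain ⟨l, hl⟩ := uni_pow_eq_one p hw
  have h2 : (g * u * g⁻¹) ^ p ^ (k + l) = 1 := by
    rw [conj_pow, pow_add, pow_mul, hk, one_pow, mul_one, mul_inv_cancel]
  have h3 : w ^ p ^ (k + l) = 1 := by rw [pow_add, mul_comm, pow_mul, hl, one_pow]
  have h4 := congrArg Subtype.val h2
  have h5 := congrArg Subtype.val h3
  rw [SubmonoidClass.coe_pow, h1, ← neg_one_smul F w.1, smul_pow, neg_one_pow_p] at h4
  rw [SubmonoidClass.coe_pow] at h5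
  rw [h5] at h4
  have h6 := congrFun (congrFun h4 (.inl ⟨0, hm⟩)) (.inl ⟨0, hm⟩)
  have h7 : (-1 : F) = 1 := by simpa using h6
  apply Subtype.ext
  rw [h1, ← neg_one_smul F w.1, h7, one_smul]

/-- An element normalising the image of the unitriangular group is upper triangular. -/
theorem upper_of_pr_normalizer (p : ℕ) [Fact p.Prime] [CharP F p] (hm : 1 ≤ m) {g : Sp}
    (hg : pr g ∈ Subgroup.normalizer (((uniGroup (m := m) (F := F)).map pr : Subgroup (Cfsg.PSp m F)) :
      Set (Cfsg.PSp m F))) :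
    ∀ a b, rk b < rk a → g.1 a b = 0 := by
  refine upper_of_normalizes (fun u hu => ?_) (fun u hu => ?_)
  · obtain ⟨w, hw, he⟩ := (Subgroup.mem_normalizer_iff.1 hg (pr u)).1 ⟨u, hu, rfl⟩
    rw [← map_inv, ← map_mul, ← map_mul] at he
    exact (eq_of_pr_eq p hm hu hw he) ▸ hw
  · have h0 : pr g⁻¹ * pr u * (pr g⁻¹)⁻¹ ∈ (uniGroup (m := m) (F := F)).map pr := by
      have hg' := inv_mem hg
      rw [← map_inv] at hg'
      exact (Subgroup.mem_normalizer_iff.1 hg' (pr u)).1 ⟨u, hu, rfl⟩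
    obtain ⟨w, hw, he⟩ := h0
    rw [← map_inv pr g⁻¹, ← map_mul, ← map_mul] at he
    have h1 := eq_of_pr_eq p hm hu hw he
    rw [inv_inv] at h1
    rwa [h1]

/-- The image of the unitriangular group is a Sylow subgroup. -/
theorem exists_sylow_uni (p : ℕ) [Fact p.Prime] [CharP F p] (hm : 1 ≤ m) :
    ∃ P : Sylow p (Cfsg.PSp m F),
      (P : Subgroup (Cfsg.PSp m F)) = (uniGroup (m := m) (F := F)).map pr := by
  haveI : Finite (Matrix.symplecticGroup (Fin m) F) :=
    Finite.of_injective (fun X => (X.1 : Matrix _ _ F)) Subtype.val_injective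
  obtain ⟨P, hP⟩ := ((isPGroup_uniGroup (m := m) (F := F) (p := p)).map pr).exists_le_sylow
  refine ⟨P, by_contra fun hne => ?_⟩
  haveI : Group.IsNilpotent (P : Subgroup (Cfsg.PSp m F)) := P.2.isNilpotent
  have hlt := CfsgLib.Fusion.lt_inf_normalizer hP (Ne.symm hne)
  obtain ⟨x, hx, hxU⟩ := SetLike.exists_of_lt hlt
  obtain ⟨g, rfl⟩ := QuotientGroup.mk'_surjective _ x
  obtain ⟨hxP, hxN⟩ := hx
  have hup := upper_of_pr_normalizer p hm hxN
  obtain ⟨k, hk⟩ := P.2 ⟨_, hxP⟩
  have hk' : pr (g ^ p ^ k) = pr 1 := by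
    rw [map_pow, map_one]; exact congrArg Subtype.val hk
  obtain ⟨s, hs, hdiag⟩ : ∃ s : F, (s = 1 ∨ s = -1) ∧ ∀ a, g.1 a a = s := by
    have hpk := (upper_pow hup (p ^ k)).2
    rcases (pr_eq_iff hm).1 hk' with h1 | h1
    · refine ⟨1, Or.inl rfl, fun a => eq_one_of_pow p (k := k) ?_⟩
      rw [← hpk a, ← h1]; exact Matrix.one_apply_eq a
    · refine ⟨-1, Or.inr rfl, fun a => ?_⟩
      have h2 : (-g.1 a a) ^ p ^ k = 1 := by
        rw [neg_pow, neg_one_pow_p, ← hpk a]
        have h3 : (1 : Sp).1 a a = (-(g ^ p ^ k).1) a a := by rw [h1]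
        rw [Matrix.neg_apply] at h3
        rw [neg_one_mul, ← h3]; exact Matrix.one_apply_eq a
      rw [← neg_neg (g.1 a a), eq_one_of_pow p h2]
  apply hxU
  rcases hs with rfl | rfl
  · exact ⟨g, mem_uni_of_upper hup hdiag, rfl⟩
  · obtain ⟨g', hg'⟩ : ∃ g' : Sp, g'.1 = -g.1 := ⟨⟨-g.1, SymplecticGroup.neg_mem g.2⟩, rfl⟩
    refine ⟨g', mem_uni_of_upper (fun a b h => by rw [hg', Matrix.neg_apply, hup a b h, neg_zero])
      (fun a => by rw [hg', Matrix.neg_apply, hdiag, neg_neg]),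
      (pr_eq_iff hm).2 (Or.inr (by rw [hg', neg_neg]))⟩

/-! ### Generation -/

theorem exists_fix_lv {H : Subgroup Sp} (hH : H ≤ uniGroup (m := m) (F := F))
    (hk : ∀ (i j : Fin m), i < j → ∀ c : F, kv (lv i) (rv j) c ∈ H) {X : Sp}
    (hX : X ∈ uniGroup (m := m) (F := F)) :
    ∀ k : ℕ, ∃ h ∈ H, ∀ j : Fin m, j.val < k → (h * X).1 *ᵥ lv j = (lv j : V) := by
  classical
  intro k
  induction k with
  | zero => exact ⟨1, one_mem H, fun j hj => absurd hj (Nat.not_lt_zero _)⟩
  | succ k ih =>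
    obtain ⟨h, hh, hfix⟩ := ih
    by_cases hkm : k < m
    swap
    · exact ⟨h, hh, fun j _ => hfix j (lt_of_lt_of_le j.2 (not_lt.1 hkm))⟩
    set l : Fin m := ⟨k, hkm⟩
    have hY : IsUni (h * X).1 := mul_mem (hH hh) hX
    set c : Fin m → F := fun i => (h * X).1 (.inl i) (.inl l)
    have hcol : (h * X).1 *ᵥ lv l = (lv l : V) + ∑ i ∈ Finset.Iio l, c i • lv i := by
      funext a
      rw [Matrix.mulVec_single_one, Matrix.col_apply, Pi.add_apply, Finset.sum_apply]
      rcases a with i | i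
      · simp only [Pi.smul_apply, Pi.single_apply, Sum.inl.injEq, smul_eq_mul, mul_ite, mul_one, mul_zero,
          Finset.sum_ite_eq, Finset.mem_Iio]
        by_cases hil : i < l
        · rw [if_neg hil.ne, if_pos hil, zero_add]
        · rw [if_neg hil, add_zero, hY _ _ (by simpa [rk] using not_lt.1 hil)]
          simp [eq_comm]
      · rw [hY _ _ (by simp [rk]; have := i.2; have := l.2; omega)]
        simp
    suffices hs : ∀ s : Finset (Fin m), s ⊆ Finset.Iio l → ∃ g ∈ H,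
        (∀ j : Fin m, j ≠ l → g.1 *ᵥ lv j = (lv j : V)) ∧
        g.1 *ᵥ lv l = (lv l : V) + ∑ i ∈ s, (-c i) • lv i by
      obtain ⟨g, hgH, hgfix, hgl⟩ := hs _ subset_rfl
      refine ⟨g * h, mul_mem hgH hh, fun j hj => ?_⟩
      rw [mul_assoc, sp_mul_mulVec]
      rcases Nat.lt_succ_iff_lt_or_eq.1 hj with hj | hj
      · rw [hfix j hj, hgfix j (fun e => by simp [e, l] at hj)]
      · obtain rfl : j = l := Fin.ext hj
        rw [hcol, Matrix.mulVec_add, Matrix.mulVec_sum, hgl, add_assoc, ← Finset.sum_add_distrib]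
        convert add_zero (lv l : V)
        refine Finset.sum_eq_zero fun i hi => ?_
        rw [Matrix.mulVec_smul, hgfix i (ne_of_lt (Finset.mem_Iio.1 hi)), ← add_smul, neg_add_cancel,
          zero_smul]
    intro s hs
    induction s using Finset.induction with
    | empty => exact ⟨1, one_mem H, fun j _ => sp_one_mulVec _, by rw [sp_one_mulVec]; simp⟩
    | insert i s hi ih' =>
      obtain ⟨g, h1, h2, h3⟩ := ih' fun x hx => hs (Finset.mem_insert_of_mem hx)
      have hil : i < l := Finset.mem_Iio.1 (hs (Finset.mem_insert_self i s))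
      have hu : sf (lv i) (rv l : V) = 0 := by rw [sf_lv_rv, if_neg hil.ne]
      have hK : ∀ (d : F) j, (kv (lv i) (rv l) d).1 *ᵥ lv j =
          (lv j : V) - (if j = l then d else 0) • lv i := by
        intro d j
        rw [kv_mulVec _ _ hu, sf_lv_lv, sf_lv_rv]
        split_ifs <;> module
      refine ⟨kv (lv i) (rv l) (c i) * g, mul_mem (hk i l hil _) h1,
        fun j hj => by rw [sp_mul_mulVec, h2 j hj, hK, if_neg hj]; simp, ?_⟩
      rw [sp_mul_mulVec, h3, Matrix.mulVec_add, Matrix.mulVec_sum, Finset.sum_insert hi, hK, if_pos rfl,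
        neg_smul, ← add_assoc, ← sub_eq_add_neg]
      congr 1
      refine Finset.sum_congr rfl fun x hx => ?_
      rw [Matrix.mulVec_smul, hK, if_neg (ne_of_lt (Finset.mem_Iio.1 (hs (Finset.mem_insert_of_mem hx))))]
      simp

theorem inr_apply_of_fix {X : Sp} (hX : ∀ i, X.1 *ᵥ lv i = (lv i : V)) (y : V) (i : Fin m) :
    (X.1 *ᵥ y) (.inr i) = y (.inr i) := by
  rw [← sf_lv (X.1 *ᵥ y) i, ← hX i, sf_sp, sf_lv]

theorem sym_of_fix {X : Sp} (hX : ∀ i, X.1 *ᵥ lv i = (lv i : V)) (i j : Fin m) :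
    (X.1 *ᵥ rv j) (.inl i) = (X.1 *ᵥ rv i) (.inl j) := by
  have h3 := sf_sp X (rv i) (rv j)
  simp only [sf_eq, inr_apply_of_fix hX] at h3
  simp [Pi.single_apply] at h3
  linear_combination h3

/-- `X` is the element `rv j ↦ rv j + S • lv` fixing the first block. -/
def IsSig (X : Sp) (S : Matrix (Fin m) (Fin m) F) : Prop :=
  (∀ i, X.1 *ᵥ lv i = (lv i : V)) ∧ ∀ j, X.1 *ᵥ rv j = (rv j : V) + Sum.elim (fun i => S i j) 0

theorem IsSig.mul {X Y : Sp} {S T : Matrix (Fin m) (Fin m) F} (hX : IsSig X S) (hY : IsSig Y T) :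
    IsSig (X * Y) (S + T) := by
  refine ⟨fun i => by rw [sp_mul_mulVec, hY.1, hX.1], fun j => ?_⟩
  rw [sp_mul_mulVec, hY.2, Matrix.mulVec_add, hX.2]
  have h : X.1 *ᵥ (Sum.elim (fun i => T i j) 0 : V) = Sum.elim (fun i => T i j) 0 := by
    rw [show (Sum.elim (fun i => T i j) 0 : V) = ∑ i, T i j • lv i by
      funext a; rcases a with a | a <;> simp [Finset.sum_apply, Pi.single_apply], Matrix.mulVec_sum]
    exact Finset.sum_congr rfl fun i _ => by rw [Matrix.mulVec_smul, hX.1]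
  rw [h, add_assoc]
  congr 1
  funext a; rcases a with a | a <;> simp

/-- The unitriangular group is generated by long root elements of the first block and the short root
elements of the Levi subgroup. -/
theorem uni_le {H : Subgroup Sp}
    (htv : ∀ v : V, (∀ i, v (.inr i) = 0) → ∀ c : F, tv v c ∈ H)
    (hk : ∀ (i j : Fin m), i < j → ∀ c : F, kv (lv i) (rv j) c ∈ H) :
    uniGroup (m := m) (F := F) ≤ H := by
  classical
  intro X hX
  obtain ⟨h, hh, hfix⟩ := exists_fix_lv (H := H ⊓ uniGroup (m := m) (F := F)) inf_le_right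
    (fun i j hij c => ⟨hk i j hij c, kv_mem_uni hij c⟩) hX m
  suffices hY : h * X ∈ H by
    have h1 := mul_mem (inv_mem (Subgroup.mem_inf.1 hh).1) hY
    rwa [inv_mul_cancel_left] at h1
  have hYl : ∀ i, (h * X).1 *ᵥ lv i = (lv i : V) := fun i => hfix i i.2
  set Y := h * X
  set S : Matrix (Fin m) (Fin m) F := Matrix.of fun i j => (Y.1 *ᵥ rv j) (.inl i)
  have hYS : IsSig Y S := ⟨hYl, fun j => by
    funext a
    rcases a with a | a
    · simp [S]
    · rw [inr_apply_of_fix hYl]; simp⟩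
  have hsym : ∀ i j, S i j = S j i := fun i j => sym_of_fix hYl i j
  have hadd : ∀ T T' : Matrix (Fin m) (Fin m) F, (∃ x ∈ H, IsSig x T) → (∃ x ∈ H, IsSig x T') →
      ∃ x ∈ H, IsSig x (T + T') := by
    rintro T T' ⟨x, hx, hxs⟩ ⟨y, hy, hys⟩
    exact ⟨x * y, mul_mem hx hy, hxs.mul hys⟩
  have hzero : ∃ x ∈ H, IsSig x (0 : Matrix (Fin m) (Fin m) F) :=
    ⟨1, one_mem H, fun i => sp_one_mulVec _, fun j => by
      rw [sp_one_mulVec]; funext a; rcases a with a | a <;> simp⟩
  have hvec : ∀ (w : Fin m → F) (c : F), IsSig (tv (Sum.elim w 0) c) (c • Matrix.vecMulVec w w) := by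
    intro w c
    refine ⟨fun i => ?_, fun j => ?_⟩
    · rw [tv_mulVec, sf_swap, sf_lv]; simp
    · rw [tv_mulVec, sf_swap, sf_rv]
      funext a
      rcases a with a | a <;> simp [Matrix.vecMulVec_apply]
      ring
  have hone : ∀ (w : Fin m → F) (c : F), ∃ x ∈ H, IsSig x (c • Matrix.vecMulVec w w) := fun w c =>
    ⟨_, htv _ (fun i => rfl) c, hvec w c⟩
  set T : Fin m → Fin m → Matrix (Fin m) (Fin m) F := fun i j =>
    if i < j then S i j • (Matrix.single i j 1 + Matrix.single j i 1)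
    else if i = j then S i i • Matrix.single i i 1 else 0
  have hT : ∀ i j, ∃ x ∈ H, IsSig x (T i j) := by
    intro i j
    simp only [T]
    split_ifs with h1 h2
    · have e : S i j • (Matrix.single i j (1 : F) + Matrix.single j i 1) =
          S i j • Matrix.vecMulVec (Pi.single i 1 + Pi.single j 1) (Pi.single i 1 + Pi.single j 1) +
          ((-S i j) • Matrix.vecMulVec (Pi.single i 1) (Pi.single i 1) +
          (-S i j) • Matrix.vecMulVec (Pi.single j 1) (Pi.single j 1)) := by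
        simp only [Matrix.add_vecMulVec, Matrix.vecMulVec_add, ← Matrix.single_eq_single_vecMulVec_single]
        module
      rw [e]
      exact hadd _ _ (hone _ _) (hadd _ _ (hone _ _) (hone _ _))
    · have := hone (Pi.single i 1) (S i i)
      rwa [← Matrix.single_eq_single_vecMulVec_single] at this
    · exact hzero
  have hsum : S = ∑ ij : Fin m × Fin m, T ij.1 ij.2 := by
    conv_lhs => rw [Matrix.matrix_eq_sum_single S]
    rw [Fintype.sum_prod_type]
    have key : ∀ i j, T i j = (if i ≤ j then Matrix.single i j (S i j) else 0) +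
        (if i < j then Matrix.single j i (S j i) else 0) := by
      intro i j
      simp only [T]
      rcases lt_trichotomy i j with h1 | h1 | h1
      · rw [if_pos h1, if_pos h1.le, if_pos h1, hsym j i, smul_add, Matrix.smul_single, Matrix.smul_single,
          smul_eq_mul, mul_one]
      · subst h1
        rw [if_neg (lt_irrefl i), if_pos rfl, if_pos le_rfl, if_neg (lt_irrefl i), Matrix.smul_single,
          smul_eq_mul, mul_one, add_zero]
      · rw [if_neg h1.not_gt, if_neg h1.ne', if_neg h1.not_ge, if_neg h1.not_gt, add_zero]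
    simp only [key, Finset.sum_add_distrib]
    rw [Finset.sum_comm (f := fun i j => if i < j then Matrix.single j i (S j i) else 0),
      ← Finset.sum_add_distrib]
    refine Finset.sum_congr rfl fun i _ => ?_
    rw [← Finset.sum_add_distrib]
    refine Finset.sum_congr rfl fun j _ => ?_
    rcases le_or_gt i j with h | h
    · rw [if_pos h, if_neg h.not_gt, add_zero]
    · rw [if_neg h.not_ge, if_pos h, zero_add]
  obtain ⟨x, hx, hxs⟩ : ∃ x ∈ H, IsSig x S := by
    rw [hsum]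
    exact Finset.sum_induction _ (fun M => ∃ x ∈ H, IsSig x M) hadd hzero fun ij _ => hT ij.1 ij.2
  rwa [show Y = x from sp_ext_basis (fun i => by rw [hYS.1, hxs.1]) (fun j => by rw [hYS.2, hxs.2])]

end CfsgLib.FusionCharP.Symplectic
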