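import Cfsg.Agent.Lib.Fusion.ClassicalCharP.UnitaryElements
import Cfsg.Agent.Lib.Fusion.System.SimpleGroupAutomizer
import Cfsg.Agent.Lib.Coprime.Solvable

/-!
# The `p`-fusion system of `PSU_n(q)` in characteristic `p`, `n ≥ 4`
-/

set_option autoImplicit false
set_option linter.unusedSectionVars false
set_option linter.style.haveILetI false

open Matrix
open scoped Pointwise

namespace CfsgLib.FusionCharP.Unitary

open CfsgLib.SU (UCtx)
open CfsgLib.Fusion (autSub mem_autSub autSub_of_mem conj_mem_autSub autSub_of_centric)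

attribute [-simp] Matrix.mulVec_single_one Matrix.mulVec_single

variable {F : Type*} [Field F] [Finite F] {q n : ℕ} {p : ℕ} [hp : Fact p.Prime] [CharP F p]

local notation "V" => (Fin n → F)
local notation "MM" => Matrix (Fin n) (Fin n) F
local notation "G" => Cfsg.PSU n F q

set_option maxHeartbeats 1000000 in
/-- The main theorem. -/
theorem isSimple (C : UCtx F q) (hn : 4 ≤ n) (S : Sylow p G) :
    (Cfsg.groupFusionSystem (S : Subgroup G)).IsSimple p := by
  classical
  haveI : NeZero n := ⟨by omega⟩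
  obtain ⟨π₀, hπ₀s, hπ₀⟩ := exists_quotient C (n := n) (by omega)
  haveI : Finite G := Quotient.finite _
  obtain ⟨P₀, hP₀⟩ := exists_sylow_uu p π₀ hπ₀s hπ₀
  obtain ⟨a₁, ha₁⟩ := MulAction.exists_smul_eq G P₀ S
  set π : ↥(SJ C n) →* G := (MulAut.conj a₁).toMonoidHom.comp π₀ with hπdef
  have hπs : Function.Surjective π := (MulAut.conj a₁).surjective.comp hπ₀s
  have hSU : (S : Subgroup G) = (uu C n).map π := by
    rw [← ha₁, Sylow.coe_subgroup_smul, hP₀, hπdef, ← Subgroup.map_map, Subgroup.pointwise_smul_def]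
    rfl
  have hπeq : ∀ {A B : ↥(SJ C n)}, π A = π B ↔ ∃ c : F, B.1.1 = c • A.1.1 := fun {A B} =>
    (MulAut.conj a₁).injective.eq_iff.trans (hπ₀ A B)
  have hπc : ∀ g A : ↥(SJ C n), π (g * A * g⁻¹) = π g * π A * (π g)⁻¹ := fun g A => by
    rw [map_mul, map_mul, map_inv]
  have hUS : ∀ A ∈ uu C n, π A ∈ (S : Subgroup G) := fun A hA => hSU ▸ ⟨A, hA, rfl⟩
  obtain ⟨z, hz⟩ : ∃ z : Fin n, z.val = 0 := ⟨⟨0, by omega⟩, rfl⟩
  obtain ⟨o, ho⟩ : ∃ o : Fin n, o.val = 1 := ⟨⟨1, by omega⟩, rfl⟩
  have hzo : z ≠ o := fun e => by rw [e] at hz; omega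
  have hzlo : z < o := by rw [Fin.lt_def]; omega
  have hzr : z < z.rev := by rw [Fin.lt_def, Fin.val_rev]; omega
  have hor : o < o.rev := by rw [Fin.lt_def, Fin.val_rev]; omega
  obtain ⟨δ, hδ0, hδ⟩ := C.exists_trace_zero
  have hbδ : C.bar δ ≠ 0 := by simpa using hδ0
  have hiso : ∀ k : Fin n, k < k.rev → hf C (bv k) (bv k : V) = 0 := fun k hk => by
    rw [hf_bv, if_neg hk.ne]
  have hne : (S : Subgroup G) ≠ ⊥ := by
    intro e
    have hA : ee (adm_zero C (hiso z hzr) hδ) ∈ uu C n := ee_bv_mem_uu _ hzr fun i _ => rfl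
    have h1 := hUS _ hA
    rw [e, Subgroup.mem_bot, ← map_one π] at h1
    obtain ⟨c, hc⟩ := hπeq.1 h1.symm
    have h2 := congrArg (fun M : MM => (M *ᵥ bv z.rev) z) hc
    have h3 : (ee (adm_zero C (hiso z hzr) hδ)).1.1 *ᵥ bv z.rev = (bv z.rev : V) + δ • bv z := by
      rw [ee_mulVec, hf_bv, Fin.rev_rev, if_pos rfl, hf_zero_right]; simp
    simp only [h3, Matrix.smul_mulVec, Pi.add_apply, Pi.smul_apply] at h2
    rw [show (1 : ↥(SJ C n)).1.1 *ᵥ (bv z.rev : V) = bv z.rev from sj_one_mulVec _, bv_ne hzr.ne, bv_same,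
      smul_zero, zero_add, smul_eq_mul, mul_one] at h2
    exact hδ0 h2
  -- no proper closed subgroup
  have hclosed : ∀ T : Subgroup G, T ≤ (S : Subgroup G) → T ≠ ⊥ →
      (∀ x ∈ T, ∀ g : G, g * x * g⁻¹ ∈ (S : Subgroup G) → g * x * g⁻¹ ∈ T) →
      (S : Subgroup G) ≤ T := by
    intro T hTS hT hcl
    set T' : Subgroup ↥(SJ C n) := T.comap π ⊓ uu C n with hT'
    have hcl' : ∀ A ∈ T', ∀ g : ↥(SJ C n), g * A * g⁻¹ ∈ uu C n → g * A * g⁻¹ ∈ T' := fun A hA g hg => by
      refine ⟨?_, hg⟩
      show π _ ∈ T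
      rw [hπc]
      exact hcl _ hA.1 _ (by rw [← hπc]; exact hUS _ hg)
    have hmove : ∀ {e v : V} {t : F} (h : Adm C e v t) (g : ↥(SJ C n)) {e' v' : V} {t' : F}
        (h' : Adm C e' v' t'), g.1.1 *ᵥ e = e' → g.1.1 *ᵥ v = v' → t = t' → ee h' ∈ uu C n →
        ee h ∈ T' → ee h' ∈ T' := by
      intro e v t h g e' v' t' h' he hv ht hU hT
      have heq : g * ee h * g⁻¹ = ee h' := (ee_conj g h).trans (ee_congr _ _ he hv ht)
      exact heq ▸ hcl' _ hT g (heq ▸ hU)
    -- a long root element at the first point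
    obtain ⟨t₀, ht₀0, h₀, ht₀⟩ : ∃ t₀ : F, t₀ ≠ 0 ∧ ∃ h : Adm C (bv z) 0 t₀, ee h ∈ T' := by
      haveI : Group.IsNilpotent (S : Subgroup G) := S.2.isNilpotent
      haveI : (T.subgroupOf (S : Subgroup G)).Normal := ⟨fun x hx y => by
        rw [Subgroup.mem_subgroupOf] at hx ⊢
        exact hcl _ hx _ (SetLike.coe_mem (y * x * y⁻¹))⟩
      have hne := CfsgLib.Coprime.nilpotent_inf_center_ne_bot (T.subgroupOf (S : Subgroup G)) (by
        rw [ne_eq, Subgroup.subgroupOf_eq_bot, disjoint_iff]
        rwa [inf_eq_left.2 hTS])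
      obtain ⟨⟨⟨x, hxS⟩, hxT, hxc⟩, hx1⟩ := Subgroup.ne_bot_iff_exists_ne_one.1 hne
      obtain ⟨w, hw, rfl⟩ : x ∈ (uu C n).map π := hSU ▸ hxS
      have hcomm : ∀ u ∈ uu C n, Commute w u := fun u hu => by
        have h1 := congrArg Subtype.val (Subgroup.mem_center_iff.1 hxc ⟨π u, hUS u hu⟩)
        have h2 : π (u * w) = π (w * u) := by rw [map_mul, map_mul]; exact h1
        obtain ⟨c, hc⟩ := hπeq.1 h2
        have h3 : (w * u * w⁻¹).1.1 = c • u.1.1 := by
          rw [show w * u * w⁻¹ = (w * u) * w⁻¹ from rfl,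
            show ((w * u) * w⁻¹).1.1 = (w * u).1.1 * (w⁻¹).1.1 from rfl, hc, Matrix.smul_mul,
            show (u * w).1.1 * (w⁻¹).1.1 = (u * w * w⁻¹).1.1 from rfl, mul_inv_cancel_right]
        have h4 := eq_of_scalar p hu hu h3
        rw [mul_inv_eq_iff_eq_mul] at h4
        exact h4
      obtain ⟨Y, hY, μ, hμ⟩ := centralizer_qr (by omega) hz (fun r hr => hcomm r (qr_le_uu (by omega) hz hr))
      have hμ1 : μ = 1 := by
        have h1 := congrFun (congrFun hμ z) z
        rw [(mem_uu.1 hw).2, Matrix.smul_apply, (mem_uu.1 (qr_le_uu (by omega) hz hY)).2, smul_eq_mul, mul_one] at h1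
        exact h1.symm
      rw [hμ1, one_smul] at hμ
      obtain rfl : w = Y := Subtype.ext (Subtype.ext hμ)
      have hYf : (w.1.1 *ᵥ bv z.rev) z.rev = 1 := by
        rw [Matrix.mulVec_single_one]; exact (mem_uu.1 hw).2 _
      obtain ⟨v, t, h, hv1, hv2, hwe⟩ := qr_eq hzr hY hYf
      have hv0 : v = 0 := by
        funext a
        rcases eq_or_ne a z with rfl | ha
        · exact hv1
        rcases eq_or_ne a z.rev with rfl | ha'
        · exact hv2
        -- commute with the root element supported at the dual index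
        have hj : ∀ c : F, hf C v (c • bv a.rev) = hf C (c • bv a.rev) v := by
          intro c
          have hs : ∀ i : Fin n, i ≤ z ∨ z.rev ≤ i → (c • bv a.rev : V) i = 0 := by
            intro i hi
            rw [Pi.smul_apply, bv_ne, smul_zero]
            rintro rfl
            rcases hi with h' | h'
            · refine ha' (Fin.rev_injective (Fin.ext ?_))
              rw [Fin.rev_rev, hz]; rw [Fin.le_def] at h'; omega
            · refine ha (Fin.ext ?_)
              rw [Fin.rev_le_rev, Fin.le_def] at h'; omega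
          obtain ⟨s, hs'⟩ := exists_trace_hf (C := C) (c • bv a.rev : V)
          have hadm : Adm C (bv z) (c • bv a.rev) s := adm_bv hzr.ne (hs _ (Or.inr le_rfl)) hs'
          have h1 := (hcomm _ (ee_bv_mem_uu hadm hzr hs)).eq
          rw [hwe, ee_mul, ee_mul] at h1
          have h2 := congrArg (fun A : ↥(SJ C n) => (A.1.1 *ᵥ bv z.rev) z) h1
          simp only [ee_mulVec, hf_bv, Fin.rev_rev, if_pos, hf_bv_left, Pi.add_apply, hv1,
            hs z (Or.inl le_rfl), Pi.smul_apply, bv_same, add_zero, map_zero, map_one, sub_zero, one_smul,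
            smul_eq_mul, mul_one] at h2
          linear_combination h2
        have h1 := hj 1
        obtain ⟨y, hy⟩ := C.exists_not_fixed
        have h2 := hj y
        rw [one_smul, hf_bv_right, hf_bv_left, Fin.rev_rev] at h1
        rw [hf_smul_left, hf_smul_right, hf_bv_right, hf_bv_left, Fin.rev_rev, ← h1] at h2
        exact (mul_eq_zero.1 (show (C.bar y - y) * v a = 0 by linear_combination h2)).resolve_left
          (sub_ne_zero.2 hy)
      subst hv0
      refine ⟨t, fun ht0 => hx1 ?_, h, ?_, hwe ▸ hw⟩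
      · apply Subtype.ext
        apply Subtype.ext
        show π w = 1
        subst ht0
        rw [hwe, ee_zero, map_one]
      · show π _ ∈ T
        rw [← hwe]
        exact hxT
    -- all long root elements at basis vectors
    have htvU : ∀ {e : V} {t : F} (h : Adm C e 0 t), (∀ i : Fin n, ¬ i < i.rev → e i = 0) → ee h ∈ uu C n :=
      fun h he => sr_le_uu (ee_mem_sr h he fun _ _ => rfl)
    have hbvsup : ∀ k : Fin n, k < k.rev → ∀ i : Fin n, ¬ i < i.rev → (bv k : V) i = 0 :=
      fun k hk i hi => bv_ne fun e => hi (e ▸ hk)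
    have hlongz : ∀ (t : F) (h : Adm C (bv z) 0 t), ee h ∈ T' := by
      intro t h
      by_cases ht : t = 0
      · subst ht; rw [ee_zero]; exact one_mem _
      have hr : C.bar (t / t₀) = t / t₀ := by
        have e1 : C.bar t = -t := by have := h.2.2; rw [hf_zero_left, add_zero] at this; linear_combination this
        have e2 : C.bar t₀ = -t₀ := by
          have := h₀.2.2; rw [hf_zero_left, add_zero] at this; linear_combination this
        rw [map_div₀, e1, e2, neg_div_neg_eq]
      obtain ⟨s, hs⟩ := C.exists_norm hr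
      have hs0 : s ≠ 0 := by
        rintro rfl
        rw [zero_mul, eq_comm, div_eq_zero_iff] at hs
        exact hs.elim ht ht₀0
      set g := hsel (C := C) hzr hor hzo s⁻¹
      have hg : g.1.1 *ᵥ bv z = s • (bv z : V) := by
        rw [hsel_isDg hzr hor hzo (inv_ne_zero hs0) z, hsd, if_pos rfl, inv_inv]
      have hA : Adm C (s • bv z) 0 t₀ := adm_zero C (by rw [hf_smul_left, hf_smul_right, hiso z hzr]; simp)
        (by have := h₀.2.2; rwa [hf_zero_left, add_zero] at this)
      have h1 := hmove h₀ g hA hg (Matrix.mulVec_zero _) rfl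
        (htvU hA fun i hi => by rw [Pi.smul_apply, hbvsup z hzr i hi, smul_zero]) ht₀
      have hB : Adm C (bv z) (C.bar s • (0 : V)) (s * C.bar s * t₀) := by
        rw [smul_zero, hs, div_mul_cancel₀ _ ht₀0]; exact h
      rw [ee_smul hA hB] at h1
      rwa [ee_congr hB h rfl (smul_zero _) (by rw [hs, div_mul_cancel₀ _ ht₀0])] at h1
    have hlong : ∀ k : Fin n, k < k.rev → ∀ (t : F) (h : Adm C (bv k) 0 t), ee h ∈ T' := by
      intro k hk t h
      rcases eq_or_ne k z with rfl | hkz
      · exact hlongz t h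
      obtain ⟨g, hg, -⟩ := exists_swap_low (C := C) hzr hk hkz.symm
      have ht' : t + C.bar t = 0 := by have := h.2.2; rwa [hf_zero_left, add_zero] at this
      exact hmove (adm_zero C (hiso z hzr) ht') g h hg (Matrix.mulVec_zero _) rfl (htvU h (hbvsup k hk))
        (hlongz t _)
    -- short root elements in the Siegel radical
    have hsum : ∀ i j : Fin n, i < i.rev → j < j.rev → i ≠ j → ∀ (c : F) (h : Adm C (bv i) (c • bv j) 0),
        ee h ∈ T' := by
      intro i j hi hj hij c h
      set c' := c / δ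
      have hcc : δ * c' = c := by rw [mul_div_cancel₀ c hδ0]
      have hij0 : hf C (bv i) (bv j : V) = 0 := by rw [hf_bv, if_neg]; exact ne_rev_of_low hj hi
      have hiso2 : hf C (bv i + c' • bv j) (bv i + c' • bv j : V) = 0 := by
        simp only [hf_add_left, hf_add_right, hf_smul_left, hf_smul_right, hiso i hi, hiso j hj, hij0,
          hf_swap C hij0, mul_zero, add_zero]
      have hA : Adm C (bv i + c' • bv j) 0 δ := adm_zero C hiso2 hδ
      have hsup : ∀ l : Fin n, ¬ l < l.rev → (bv i + c' • bv j : V) l = 0 := fun l hl => by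
        rw [Pi.add_apply, Pi.smul_apply, hbvsup i hi l hl, hbvsup j hj l hl, smul_zero, add_zero]
      have h1 := hmove (adm_zero C (hiso i hi) hδ) (lev hi hj hij c') hA (by
          rw [lev_bv, if_pos rfl, if_neg (ne_rev_of_low hi hj), zero_smul, sub_zero])
        (Matrix.mulVec_zero _) rfl (htvU hA hsup) (hlong i hi δ _)
      have ht' : c' * C.bar c' * δ + C.bar (c' * C.bar c' * δ) = 0 := by
        rw [map_mul, C.norm_fixed]; linear_combination (c' * C.bar c') * hδ
      have hJ : Adm C (bv j) 0 (c' * C.bar c' * δ) := adm_zero C (hiso j hj) ht'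
      have heq : ee hA = ee (adm_zero C (hiso i hi) hδ) * ee hJ * ee h := by
        refine sj_ext fun x => ?_
        simp only [sj_mul_mulVec, ee_mulVec, hf_zero_right, smul_zero, add_zero, sub_zero, zero_mul, zero_sub,
          hf_add_left, hf_add_right, hf_smul_left, hf_smul_right, hiso i hi, hiso j hj, hij0, hf_swap C hij0,
          mul_zero, ← hcc, map_mul, show C.bar δ = -δ by linear_combination hδ]
        module
      rw [heq] at h1
      have h2 := mul_mem (inv_mem (mul_mem (hlong i hi δ (adm_zero C (hiso i hi) hδ)) (hlong j hj _ hJ))) h1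
      rwa [inv_mul_cancel_left] at h2
    -- short root elements of the Levi subgroup
    have hdiff : ∀ i j : Fin n, i < i.rev → j < j.rev → i < j → ∀ (c : F) (h : Adm C (bv i) (c • bv j.rev) 0),
        ee h ∈ T' := by
      intro i j hi hj hlt c h
      obtain ⟨g, -, hg1, -, hg3⟩ := exists_exchange (H := (⊤ : Subgroup ↥(SJ C n))) hj (v := 0) (t := δ) rfl rfl
        hδ0 (by rw [hf_zero_left, add_zero, hδ]) (fun _ _ _ => trivial) (fun _ _ _ => trivial)
      have hsrc : Adm C (bv i) ((c * C.bar δ) • bv j) 0 := by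
        refine adm_iso C (hiso i hi) ?_ ?_
        · rw [hf_smul_left, hf_bv, if_neg (ne_rev_of_low hi hj), mul_zero]
        · rw [hf_smul_left, hf_smul_right, hiso j hj, mul_zero, mul_zero]
      have hU : ee h ∈ uu C n := ee_bv_mem_uu h hi fun l hl => by
        rw [Pi.smul_apply, bv_ne, smul_zero]
        rintro rfl
        rcases hl with h' | h'
        · exact absurd h' (not_le.2 (lt_trans hlt hj))
        · exact absurd (Fin.rev_le_rev.1 h') hlt.not_ge
      refine hmove hsrc g h ?_ ?_ rfl hU (hsum i j hi hj hlt.ne _ hsrc)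
      · refine hg3 _ ?_ ?_ (hf_zero_right C _)
        · rw [hf_bv, if_neg (ne_rev_of_low hj hi)]
        · rw [hf_bv, if_neg]; exact fun e => hlt.ne' (Fin.rev_injective e)
      · rw [Matrix.mulVec_smul, hg1, smul_smul, mul_assoc, mul_inv_cancel₀ hbδ, mul_one]
    -- root elements with arbitrary middle part
    set P : Fin n → V → Prop := fun k v => ∃ (t : F) (h : Adm C (bv k) v t), ee h ∈ T' with hP
    have hPadd : ∀ k v w, P k v → P k w → P k (v + w) := by
      rintro k v w ⟨t, h, hm⟩ ⟨t', h', hm'⟩
      exact ⟨_, adm_mul h h', ee_mul h h' ▸ mul_mem hm hm'⟩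
    have hPmidz : ∀ l : Fin n, l = l.rev → ∀ c : F, P z (c • bv l) := by
      intro l hl c
      have hlz : l ≠ z := fun e => hzr.ne (e ▸ hl)
      have hlo : l ≠ o := fun e => hor.ne (e ▸ hl)
      have hlow' : o < l ∧ l < o.rev := by
        have e := congrArg Fin.val hl
        have := l.2
        rw [Fin.val_rev] at e
        rw [Fin.lt_def, Fin.lt_def, Fin.val_rev]; omega
      obtain ⟨s, hs⟩ := exists_trace_hf (C := C) (bv l : V)
      have hsB : ∀ i : Fin n, i ≤ o ∨ o.rev ≤ i → (bv l : V) i = 0 := fun i hi => bv_ne fun e => by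
        subst e; rcases hi with h | h
        · exact absurd h hlow'.1.not_ge
        · exact absurd h hlow'.2.not_ge
      have hB : Adm C (bv o) (bv l) s := adm_bv hor.ne (hsB _ (Or.inr le_rfl)) hs
      have hzo' : hf C (bv z) (bv o : V) = 0 := by rw [hf_bv, if_neg (ne_rev_of_low hor hzr)]
      have hzorev : hf C (bv o.rev) (bv z : V) = 0 := by rw [hf_bv, Fin.rev_rev, if_neg hzo]
      have hA : Adm C (bv z) (c • bv o.rev) 0 := adm_iso C (hiso z hzr)
        (by rw [hf_smul_left, hzorev, mul_zero])
        (by rw [hf_smul_left, hf_smul_right, hf_bv, Fin.rev_rev, if_neg hor.ne']; simp)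
      have hBU := ee_bv_mem_uu hB hor hsB
      have hAT := hdiff z o hzr hor hzlo c hA
      have hBz : (ee hB).1.1 *ᵥ bv z = (bv z : V) := ee_fix hB hzo' (by
        rw [hf_bv, if_neg]
        exact fun e => hlz (by rw [hl, e, Fin.rev_rev]))
      have hBv : (ee hB).1.1 *ᵥ (c • bv o.rev) = c • bv o.rev + c • bv l + (c * s) • (bv o : V) := by
        rw [Matrix.mulVec_smul, ee_mulVec, hf_bv, Fin.rev_rev, if_pos rfl, hf_bv, if_neg (by rwa [Fin.rev_rev])]
        module
      have h1 : P z (c • bv o.rev + c • bv l + (c * s) • (bv o : V)) := by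
        have h2 := adm_map hA (ee hB)
        have h3 : ee h2 ∈ T' :=
          ee_conj (ee hB) hA ▸ hcl' _ hAT (ee hB) (mul_mem (mul_mem hBU hAT.2) (inv_mem hBU))
        refine ⟨0, ?_, ?_⟩
        · rw [← hBv]; exact hBz ▸ h2
        · exact (ee_congr h2 _ hBz hBv rfl) ▸ h3
      have h2 : P z ((-c) • bv o.rev) := by
        have h : Adm C (bv z) ((-c) • bv o.rev) 0 := adm_iso C (hiso z hzr)
          (by rw [hf_smul_left, hzorev, mul_zero])
          (by rw [hf_smul_left, hf_smul_right, hf_bv, Fin.rev_rev, if_neg hor.ne']; simp)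
        exact ⟨0, h, hdiff z o hzr hor hzlo _ h⟩
      have h3 : P z ((-(c * s)) • bv o) := by
        have h : Adm C (bv z) ((-(c * s)) • bv o) 0 := adm_iso C (hiso z hzr)
          (by rw [hf_smul_left, hf_swap C hzo', mul_zero])
          (by rw [hf_smul_left, hf_smul_right, hiso o hor]; simp)
        exact ⟨0, h, hsum z o hzr hor hzo _ h⟩
      have h4 := hPadd _ _ _ (hPadd _ _ _ h2 h1) h3
      rwa [show (-c) • bv o.rev + (c • bv o.rev + c • bv l + (c * s) • (bv o : V)) + (-(c * s)) • bv o =
        c • bv l by module] at h4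
    have hPone : ∀ (k l : Fin n), k < k.rev → k < l → l < k.rev → ∀ c : F, P k (c • bv l) := by
      intro k l hk hkl hlk c
      have hkl' : hf C (bv l) (bv k : V) = 0 := by
        rw [hf_bv, if_neg]; exact fun e => hlk.ne (by rw [e, Fin.rev_rev])
      rcases lt_trichotomy l l.rev with hl | hl | hl
      · have h : Adm C (bv k) (c • bv l) 0 := adm_iso C (hiso k hk) (by rw [hf_smul_left, hkl', mul_zero])
          (by rw [hf_smul_left, hf_smul_right, hiso l hl]; simp)
        exact ⟨0, h, hsum k l hk hl hkl.ne c h⟩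
      · rcases eq_or_ne k z with rfl | hkz
        · exact hPmidz l hl c
        obtain ⟨t, h, hm⟩ := hPmidz l hl c
        obtain ⟨g, hg, -, -, -, hg5, -⟩ := exists_swap_low (C := C) hzr hk hkz.symm
        have hgl : g.1.1 *ᵥ (c • bv l) = c • (bv l : V) := by
          rw [Matrix.mulVec_smul, hg5 l (fun e => hzr.ne (e ▸ hl)) hkl.ne'
            (fun e => hzr.ne' (by rw [← e, hl, e, Fin.rev_rev])) hlk.ne]
        have h' : Adm C (bv k) (c • bv l) t := ⟨hiso k hk, by rw [hf_smul_left, hkl', mul_zero], h.2.2⟩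
        refine ⟨t, h', hmove h g h' hg hgl rfl (ee_bv_mem_uu h' hk fun i hi => ?_) hm⟩
        rw [Pi.smul_apply, bv_ne, smul_zero]
        rintro rfl
        rcases hi with h' | h'
        · exact absurd h' hkl.not_ge
        · exact absurd h' hlk.not_ge
      · have hlr : l.rev < l.rev.rev := by rwa [Fin.rev_rev]
        have hkl2 : k < l.rev := by rw [← Fin.rev_rev k]; exact Fin.rev_lt_rev.2 hlk
        have h : Adm C (bv k) (c • bv l) 0 := adm_iso C (hiso k hk) (by rw [hf_smul_left, hkl', mul_zero])
          (by rw [hf_smul_left, hf_smul_right, hf_bv, if_neg hl.ne']; simp)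
        have h' : Adm C (bv k) (c • bv l.rev.rev) 0 := by rwa [Fin.rev_rev]
        have := hdiff k l.rev hk hlr hkl2 c h'
        exact ⟨0, h, (ee_congr h' h rfl (by rw [Fin.rev_rev]) rfl) ▸ this⟩
    have hall : uu C n ≤ T' := by
      refine uu_le fun k v t h hk hv => ?_
      obtain ⟨t₁, h₁, hm⟩ : P k v := by
        rw [pi_eq_sum_univ' v]
        refine Finset.sum_induction _ (P k) (hPadd k) ⟨0, adm_zero C (hiso k hk) (by simp), by
          rw [ee_zero]; exact one_mem _⟩ fun l _ => ?_
        by_cases hl : k < l ∧ l < k.rev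
        · exact hPone k l hk hl.1 hl.2 _
        · rw [hv l (by rw [not_and_or, not_lt, not_lt] at hl; exact hl), zero_smul]
          exact ⟨0, adm_zero C (hiso k hk) (by simp), by rw [ee_zero]; exact one_mem _⟩
      have ht : (t - t₁) + C.bar (t - t₁) = 0 := by
        rw [map_sub]; linear_combination h.2.2 - h₁.2.2
      have h2 := mul_mem hm (hlong k hk (t - t₁) (adm_zero C (hiso k hk) ht))
      rw [ee_mul] at h2
      exact (ee_congr (adm_mul h₁ (adm_zero C (hiso k hk) ht)) h rfl (add_zero v) (by rw [hf_zero_left]; ring)) ▸ h2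
    rw [hSU]
    exact Subgroup.map_le_iff_le_comap.2 (hall.trans inf_le_left)
  -- the automizer
  have haut : ∀ E : Cfsg.FusionSystem (S : Subgroup G), E.IsSaturated p →
      E.IsInvariantIn (Cfsg.groupFusionSystem (S : Subgroup G)) →
      Subgroup.normalizer ((S : Subgroup G) : Set G) ≤ autSub E (S : Subgroup G) := by
    intro E hEs hinv
    have hnorm : ∀ (R : Subgroup ↥(SJ C n)) (g : ↥(SJ C n)), (∀ r ∈ R, g * r * g⁻¹ ∈ R) →
        π g ∈ Subgroup.normalizer ((R.map π : Subgroup G) : Set G) := fun R g hg => by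
      refine CfsgLib.Fusion.conj_le_of_subset ?_
      rintro _ ⟨r, hr, rfl⟩
      exact ⟨g * r * g⁻¹, hg r hr, hπc g r⟩
    have hcent : ∀ R : Subgroup ↥(SJ C n), R ≤ uu C n →
        (∀ X : ↥(SJ C n), (∀ r ∈ R, Commute X r) → ∃ Y ∈ R, ∃ μ : F, X.1.1 = μ • Y.1.1) →
        Subgroup.centralizer ((R.map π : Subgroup G) : Set G) ≤ R.map π := by
      intro R hRU hR x hx
      obtain ⟨X, rfl⟩ := hπs x
      obtain ⟨Y, hY, μ, hμ⟩ := hR X fun r hr => by
        have h1 := Subgroup.mem_centralizer_iff.1 hx (π r) ⟨r, hr, rfl⟩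
        have h2 : π r = π (X * r * X⁻¹) := by rw [hπc, ← h1, mul_inv_cancel_right]
        obtain ⟨c, hc⟩ := hπeq.1 h2
        have h3 := eq_of_scalar p (hRU hr) (hRU hr) hc
        rw [mul_inv_eq_iff_eq_mul] at h3
        exact h3
      exact ⟨Y, hY, hπeq.2 ⟨μ, hμ⟩⟩
    have htor : ∀ (D : ↥(SJ C n)) (d : Fin n → F), IsDg D d → ∀ R : Subgroup ↥(SJ C n), R ≤ uu C n →
        (∀ X : ↥(SJ C n), (∀ r ∈ R, Commute X r) → ∃ Y ∈ R, ∃ μ : F, X.1.1 = μ • Y.1.1) →
        π D ∈ autSub E (R.map π) → π D ∈ autSub E (S : Subgroup G) := by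
      intro D d hD R hR hRc h
      refine autSub_of_centric S.2 (CfsgLib.Fusion.isSaturated_group S) hinv.1 hEs (hcent R hR hRc)
        (hSU ▸ Subgroup.map_mono hR) le_rfl ?_ h
      rw [hSU]
      refine hnorm (uu C n) _ fun u hu => ?_
      have hd0 : ∀ a, d a ≠ 0 := fun a => left_ne_zero_of_mul_eq_one (hD.dual a)
      have hval : ∀ a b, (D * u * D⁻¹).1.1 a b * d b = d a * u.1.1 a b := by
        intro a b
        have h1 : ∀ (M : MM) a b, (D.1.1 * M) a b = d a * M a b ∧ (M * D.1.1) a b = M a b * d b := by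
          intro M a b
          constructor
          · rw [Matrix.mul_apply, Finset.sum_eq_single a] <;> simp +contextual [hD.apply, eq_comm]
          · rw [Matrix.mul_apply, Finset.sum_eq_single b] <;> simp +contextual [hD.apply, eq_comm]
        have h2 : (D * u * D⁻¹).1.1 * D.1.1 = D.1.1 * u.1.1 := by
          show (D * u * D⁻¹ * D).1.1 = (D * u).1.1
          rw [inv_mul_cancel_right]
        have h3 := congrFun (congrFun h2 a) b
        rwa [(h1 _ a b).2, (h1 _ a b).1] at h3
      obtain ⟨hu1, hu2⟩ := mem_uu.1 hu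
      refine mem_uu.2 ⟨fun a b hab => ?_, fun a => ?_⟩
      · have := hval a b
        rw [hu1 a b hab, mul_zero] at this
        exact (mul_eq_zero.1 this).resolve_right (hd0 b)
      · have := hval a a
        rw [hu2, mul_one] at this
        exact mul_right_cancel₀ (hd0 a) (by rw [this, one_mul])
    have hautel : ∀ (R : Subgroup ↥(SJ C n)), R ≤ uu C n → ∀ u ∈ uu C n, (∀ r ∈ R, u * r * u⁻¹ ∈ R) →
        π u ∈ autSub E (R.map π) := fun R hR u hu hn' =>
      autSub_of_mem (hSU ▸ Subgroup.map_mono hR) (hUS u hu) (hnorm R u hn')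
    -- the first radical
    have hsr : ∀ i j : Fin n, ∀ (hi : i < i.rev) (hj : j < j.rev) (hij : i ≠ j) (t : F), t ≠ 0 →
        π (hsel (C := C) hi hj hij t) ∈ autSub E (S : Subgroup G) := by
      intro i j hi hj hij t ht
      refine htor _ _ (hsel_isDg hi hj hij ht) (sr C n) sr_le_uu (fun X hX => centralizer_sr (by omega) hz hX) ?_
      have hlow : ∀ a b : Fin n, ∀ (ha : a < a.rev) (hb : b < b.rev) (hab : a ≠ b), b < a → ∀ c : F,
          π (lev (C := C) ha hb hab c) ∈ autSub E ((sr C n).map π) := by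
        intro a b ha hb hab hlt c
        refine hautel _ sr_le_uu _ (lev_mem_uu ha hb hab hlt c) fun r hr => sr_conj (fun l k hl hk => ?_) hr
        rw [lev_inv, lev_bv, if_neg (ne_rev_of_low hl hb)]
        simp only [Pi.sub_apply, Pi.add_apply, Pi.smul_apply, zero_smul, sub_zero]
        rw [bv_ne (fun e : k = l => hk (e ▸ hl)), bv_ne (fun e : k = b => hk (e ▸ hb))]
        simp
      have hlev : ∀ a b : Fin n, ∀ (ha : a < a.rev) (hb : b < b.rev) (hab : a ≠ b) (c : F),
          π (lev (C := C) ha hb hab c) ∈ autSub E ((sr C n).map π) := by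
        intro a b ha hb hab c
        rcases lt_or_gt_of_ne hab with hlt | hlt
        swap
        · exact hlow a b ha hb hab hlt c
        obtain ⟨g, hga, -, -, hgb, -, hginv⟩ := exists_swap_low (C := C) ha hb hab
        have hN : π g ∈ Subgroup.normalizer (((sr C n).map π : Subgroup G) : Set G) := by
          refine hnorm _ _ fun r hr => sr_conj (fun l k hl hk => ?_) hr
          obtain ⟨l', hl', he⟩ := hginv l hl
          rw [he]
          exact bv_ne fun e => hk (e ▸ hl')
        have h1 := conj_mem_autSub hinv (hSU ▸ Subgroup.map_mono sr_le_uu) hN (hlow b a hb ha hab.symm hlt c)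
        rw [← hπc, lev, ee_conj] at h1
        show π (ee (adm_lev ha hb hab c)) ∈ _
        exact (ee_congr (adm_map (adm_lev hb ha hab.symm c) g) (adm_lev ha hb hab c) hga (by rw [Matrix.mulVec_smul, hgb]) rfl) ▸ h1
      rw [hsel, map_mul, map_mul, map_mul, map_mul, map_mul]
      exact mul_mem (mul_mem (mul_mem (hlev _ _ _ _ _ _) (hlev _ _ _ _ _ _)) (hlev _ _ _ _ _ _))
        (mul_mem (mul_mem (hlev _ _ _ _ _ _) (hlev _ _ _ _ _ _)) (hlev _ _ _ _ _ _))
    -- the second radical
    have hlast : ∀ (D : ↥(SJ C n)) (d : Fin n → F), IsDg D d →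
        (∀ l : Fin n, l < l.rev → l ≠ o → d l = 1) → π D ∈ autSub E (S : Subgroup G) := by
      intro D d hD hd1
      refine htor D d hD (qr C z) (qr_le_uu (by omega) hz) (fun X hX => centralizer_qr (by omega) hz hX) ?_
      set Q := (qr C z).map π
      set v : V := fun a => if a = a.rev then 1 else 0 with hv
      have hvo : v o = 0 := by rw [hv]; simp [hor.ne]
      have hvo' : v o.rev = 0 := by rw [hv]; simp [Fin.rev_rev, hor.ne']
      have hvz : v z.rev = 0 := by rw [hv]; simp [Fin.rev_rev, hzr.ne']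
      have hoz : hf C (bv z) (bv o : V) = 0 := by rw [hf_bv, if_neg (ne_rev_of_low hor hzr)]
      have hE : ∀ (a s : F) (h : Adm C (bv o) (a • v) s), π (ee h) ∈ autSub E Q := by
        intro a s h
        have hsup : ∀ i, i ≤ o ∨ o.rev ≤ i → (a • v) i = 0 := fun i hi => by
          rw [Pi.smul_apply, hv]
          simp only
          rw [if_neg, smul_zero]
          intro e
          have e' := congrArg Fin.val e
          rw [Fin.val_rev] at e'
          simp only [Fin.le_def, Fin.val_rev] at hi
          omega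
        refine hautel _ (qr_le_uu (by omega) hz) _ (ee_bv_mem_uu h hor hsup) fun r hr =>
          qr_conj one_ne_zero ?_ hr
        rw [ee_inv, one_smul]
        refine ee_fix _ hoz ?_
        rw [hf_neg_right, hf_bv_left, Pi.smul_apply, hvz]
        simp
      obtain ⟨g, -, hg1, hg2, hg3⟩ := exists_exchange (H := (⊤ : Subgroup ↥(SJ C n))) hor (v := 0) (t := δ) rfl rfl
        hδ0 (by rw [hf_zero_left, add_zero, hδ]) (fun _ _ _ => trivial) (fun _ _ _ => trivial)
      have hgv : g.1.1 *ᵥ v = v := by
        refine hg3 v ?_ ?_ (hf_zero_right C _)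
        · rw [hf_bv_right, hvo']
        · rw [hf_bv_right, Fin.rev_rev, hvo]
      have hgz : g.1.1 *ᵥ bv z = (bv z : V) := by
        refine hg3 _ hoz ?_ (hf_zero_right C _)
        rw [hf_bv, if_neg]; exact fun e => hzo (Fin.rev_injective e).symm
      have hN : π g ∈ Subgroup.normalizer ((Q : Subgroup G) : Set G) := by
        refine hnorm _ _ fun r hr => qr_conj one_ne_zero ?_ hr
        rw [one_smul]
        conv_lhs => rw [← hgz, sj_inv_mulVec]
      have hF : ∀ (a s : F) (h : Adm C (bv o.rev) (a • v) s), π (ee h) ∈ autSub E Q := by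
        intro a s h
        have hA : Adm C (bv o) ((δ * a) • v) (δ * C.bar δ * s) := by
          refine ⟨hiso o hor, by rw [hf_smul_left, hf_bv_right, hvo', mul_zero], ?_⟩
          have h3 := h.2.2
          simp only [hf_smul_left, hf_smul_right, map_mul, C.bar_bar] at h3 ⊢
          linear_combination (δ * C.bar δ) * h3
        have h1 := conj_mem_autSub hinv (hSU ▸ Subgroup.map_mono (qr_le_uu (by omega) hz)) hN (hE _ _ hA)
        rw [← hπc, ee_conj] at h1
        have h2 : Adm C ((C.bar δ)⁻¹ • bv o.rev) ((δ * a) • v) (δ * C.bar δ * s) := by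
          refine ⟨by rw [hf_smul_left, hf_smul_right, h.1]; simp, ?_, hA.2.2⟩
          rw [hf_smul_left, hf_smul_right, hf_bv_right, Fin.rev_rev, hvo]; simp
        rw [ee_congr (adm_map hA g) h2 hg1 (by rw [Matrix.mulVec_smul, hgv]) rfl] at h1
        have hk1 : C.bar ((C.bar δ)⁻¹) • (δ * a) • v = a • v := by
          rw [map_inv₀, C.bar_bar, smul_smul, inv_mul_cancel_left₀ hδ0]
        have hk2 : (C.bar δ)⁻¹ * C.bar ((C.bar δ)⁻¹) * (δ * C.bar δ * s) = s := by
          rw [map_inv₀, C.bar_bar]; field_simp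
        rw [ee_smul h2 (by rw [hk1, hk2]; exact h)] at h1
        exact (ee_congr _ h rfl hk1 hk2) ▸ h1
      -- find the parameters
      have hdo : d o ≠ 0 := left_ne_zero_of_mul_eq_one (hD.dual o)
      set t := d o * δ with ht
      have ht0 : t ≠ 0 := mul_ne_zero hdo hδ0
      obtain ⟨a, ha⟩ : ∃ a : F, t + C.bar t + hf C (a • v) (a • v) = 0 := by
        by_cases hmid : ∃ l : Fin n, l = l.rev
        · obtain ⟨l, hl⟩ := hmid
          have hvl : v = bv l := by
            funext b
            rw [hv]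
            simp only
            by_cases e : b = l
            · subst e; rw [if_pos hl, bv_same]
            · rw [if_neg, bv_ne e]
              intro e'
              have := congrArg Fin.val e'; have := congrArg Fin.val hl
              rw [Fin.val_rev] at *
              exact e (Fin.ext (by omega))
          obtain ⟨a, ha⟩ := C.exists_norm (c := -(t + C.bar t)) (by rw [map_neg, map_add, C.bar_bar, add_comm])
          refine ⟨a, ?_⟩
          rw [hvl, hf_smul_left, hf_smul_right, hf_bv, if_pos hl, mul_one, ha]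
          ring
        · push Not at hmid
          have hd' : ∀ l : Fin n, l ≠ o → l ≠ o.rev → d l = 1 := by
            intro l h1 h2
            rcases lt_or_gt_of_ne (hmid l) with h | h
            · exact hd1 l h h1
            · have hl' := hd1 l.rev (by rwa [Fin.rev_rev]) (fun e => h2 (by rw [← e, Fin.rev_rev]))
              have := hD.dual l
              rwa [hl', map_one, mul_one] at this
          have hprod := hD.prod
          rw [← Finset.prod_subset (Finset.subset_univ {o, o.rev}) (fun l _ hl => by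
            simp only [Finset.mem_insert, Finset.mem_singleton, not_or] at hl
            exact hd' l hl.1 hl.2), Finset.prod_pair hor.ne] at hprod
          have hdual := hD.dual o
          have hfix : C.bar (d o) = d o := by
            have h1 : C.bar (d o.rev) = d o.rev := mul_left_cancel₀ hdo (hdual.trans hprod.symm)
            have h2 : d o = (d o.rev)⁻¹ := eq_inv_of_mul_eq_one_left hprod
            rw [h2, map_inv₀, h1]
          refine ⟨0, ?_⟩
          rw [zero_smul, hf_zero_left, ht, map_mul, hfix]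
          linear_combination (d o) * hδ
      have hH := exists_exchange (H := (autSub E Q).comap π) hor (v := a • v) (t := t)
        (by rw [Pi.smul_apply, hvo, smul_zero]) (by rw [Pi.smul_apply, hvo', smul_zero]) ht0 ha
        (fun b s h => by
          have h' : Adm C (bv o) ((b * a) • v) s := by rwa [← smul_smul]
          exact (ee_congr h' h rfl (smul_smul b a v).symm rfl) ▸ hE _ _ h')
        (fun b s h => by
          have h' : Adm C (bv o.rev) ((b * a) • v) s := by rwa [← smul_smul]
          exact (ee_congr h' h rfl (smul_smul b a v).symm rfl) ▸ hF _ _ h')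
      obtain ⟨N, hN', hN1, hN2, hN3⟩ := hH
      obtain ⟨N₀, hN₀, hM1, hM2, hM3⟩ := exists_exchange (H := (autSub E Q).comap π) hor (v := 0) (t := δ) rfl rfl
        hδ0 (by rw [hf_zero_left, add_zero, hδ])
        (fun b s h => by
          have h' : Adm C (bv o) ((0 : F) • v) s := by rw [zero_smul]; rwa [smul_zero] at h
          exact (ee_congr h' h rfl (by rw [zero_smul, smul_zero]) rfl) ▸ hE _ _ h')
        (fun b s h => by
          have h' : Adm C (bv o.rev) ((0 : F) • v) s := by rw [zero_smul]; rwa [smul_zero] at h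
          exact (ee_congr h' h rfl (by rw [zero_smul, smul_zero]) rfl) ▸ hF _ _ h')
      have hMe : (N₀⁻¹).1.1 *ᵥ bv o = δ⁻¹ • (bv o.rev : V) := by
        have h1 := sj_inv_mulVec N₀ (δ⁻¹ • bv o.rev)
        rwa [Matrix.mulVec_smul, hM2, inv_smul_smul₀ hδ0] at h1
      have hMf : (N₀⁻¹).1.1 *ᵥ bv o.rev = C.bar δ • (bv o : V) := by
        have h1 := sj_inv_mulVec N₀ (C.bar δ • bv o)
        rwa [Matrix.mulVec_smul, hM1, smul_inv_smul₀ hbδ] at h1
      suffices hDM : D = N * N₀⁻¹ by
        rw [hDM]
        exact (mul_mem hN' (inv_mem hN₀) : N * N₀⁻¹ ∈ (autSub E Q).comap π)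
      refine (inv_mul_eq_one.1 (eq_one_of_fix fun l hl => ?_) : D = N * N₀⁻¹)
      have hgoal : (N * N₀⁻¹).1.1 *ᵥ bv l = d l • (bv l : V) := by
        rw [sj_mul_mulVec]
        rcases eq_or_ne l o with h1 | h1
        · subst h1
          rw [hMe, Matrix.mulVec_smul, hN2, smul_smul, ht]
          congr 1
          field_simp
        rcases eq_or_ne l o.rev with h2 | h2
        · subst h2
          rw [hMf, Matrix.mulVec_smul, hN1, smul_smul, ht]
          congr 1
          have h3 : C.bar (d o) * d o.rev = 1 := by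
            have h4 := congrArg C.bar (hD.dual o)
            rwa [map_mul, C.bar_bar, map_one] at h4
          rw [map_mul]
          have hbdo : C.bar (d o) ≠ 0 := by simpa using hdo
          field_simp
          linear_combination -h3
        have e1 : hf C (bv l) (bv o : V) = 0 := by
          rw [hf_bv, if_neg]; exact fun e => h2 (by rw [e, Fin.rev_rev])
        have e2 : hf C (bv l) (bv o.rev : V) = 0 := by
          rw [hf_bv, if_neg]; exact fun e => h1 (Fin.rev_injective e).symm
        have hx : (N₀⁻¹).1.1 *ᵥ bv l = (bv l : V) := by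
          conv_lhs => rw [← hM3 (bv l) e1 e2 (hf_zero_right C _), sj_inv_mulVec]
        have hdl : d l = 1 := by
          rcases lt_or_gt_of_ne hl with h | h
          · exact hd1 l h h1
          · have hl' := hd1 l.rev (by rwa [Fin.rev_rev]) (fun e => h2 (by rw [← e, Fin.rev_rev]))
            have := hD.dual l
            rwa [hl', map_one, mul_one] at this
        rw [hx, hdl, one_smul]
        refine hN3 _ e1 e2 ?_
        rw [hf_smul_right, hf_bv_left, hv]
        simp [Fin.rev_rev, hl.symm]
      rw [sj_mul_mulVec, hgoal, ← hD l, sj_inv_mulVec]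
    have htorus : ∀ (N : ℕ) (D : ↥(SJ C n)) (d : Fin n → F), IsDg D d →
        (Finset.univ.filter fun l : Fin n => l < l.rev ∧ l ≠ o ∧ d l ≠ 1).card = N →
        π D ∈ autSub E (S : Subgroup G) := by
      intro N
      induction N using Nat.strong_induction_on with
      | _ N ih =>
        intro D d hD hN
        by_cases hall : ∀ l : Fin n, l < l.rev → l ≠ o → d l = 1
        · exact hlast D d hD hall
        push Not at hall
        obtain ⟨i, hi, hio, hdi⟩ := hall
        have hd0 : d i ≠ 0 := left_ne_zero_of_mul_eq_one (hD.dual i)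
        have hH := hsel_isDg (C := C) hi hor hio hd0
        have hmem := hsr i o hi hor hio _ hd0
        suffices hD' : π (D * hsel hi hor hio (d i)) ∈ autSub E (S : Subgroup G) by
          rw [map_mul] at hD'
          exact (Subgroup.mul_mem_cancel_right _ hmem).1 hD'
        refine ih _ ?_ _ _ (hD.mul hH) rfl
        rw [← hN]
        refine Finset.card_lt_card (Finset.ssubset_iff_subset_ne.2 ⟨fun l hl => ?_, fun e => ?_⟩)
        · rw [Finset.mem_filter] at hl ⊢
          refine ⟨hl.1, hl.2.1, hl.2.2.1, fun h1 => hl.2.2.2 ?_⟩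
          have hli : l ≠ i := fun e => hdi (e ▸ h1)
          show hsd C i o (d i) l * d l = 1
          rw [hsd, if_neg hli, if_neg hl.2.2.1, if_neg (ne_rev_of_low hl.2.1 hi),
            if_neg (ne_rev_of_low hl.2.1 hor), h1, mul_one]
        · have h1 : i ∈ Finset.univ.filter fun l : Fin n => l < l.rev ∧ l ≠ o ∧ d l ≠ 1 :=
            Finset.mem_filter.2 ⟨Finset.mem_univ i, hi, hio, hdi⟩
          rw [← e, Finset.mem_filter] at h1
          apply h1.2.2.2
          show hsd C i o (d i) i * d i = 1
          rw [hsd, if_pos rfl, inv_mul_cancel₀ hd0]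
    -- split off the diagonal
    intro y hy
    obtain ⟨g, rfl⟩ := hπs y
    have hup : ∀ a b : Fin n, b < a → g.1.1 a b = 0 :=
      upper_of_pr_normalizer p π (fun A B => hπeq) (hSU ▸ hy)
    set d : Fin n → F := fun i => g.1.1 i i
    have hdual : ∀ i, d i * C.bar (d i.rev) = 1 := by
      intro i
      have h1 := hf_sj g (bv i) (bv i.rev)
      rw [hf_bv, if_pos rfl, hf, Finset.sum_eq_single i] at h1
      · simp only [Matrix.mulVec_single_one, Matrix.col_apply] at h1
        exact h1
      · intro a _ hai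
        simp only [Matrix.mulVec_single_one, Matrix.col_apply]
        rcases lt_or_gt_of_ne hai with h | h
        · rw [hup a.rev i.rev (Fin.rev_lt_rev.2 h), map_zero, mul_zero]
        · rw [hup a i h, zero_mul]
      · simp
    have hprod : ∏ i, d i = 1 := by
      have h1 := g.1.2
      rwa [Matrix.det_of_isUpperTriangular (fun a b h => hup a b h)] at h1
    obtain ⟨D, hD⟩ := exists_dg d hdual hprod
    have hd0 : ∀ a, d a ≠ 0 := fun a => left_ne_zero_of_mul_eq_one (hdual a)
    have hu : D⁻¹ * g ∈ uu C n := by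
      have hval : ∀ a b, d a * (D⁻¹ * g).1.1 a b = g.1.1 a b := by
        intro a b
        have h2 : D.1.1 * (D⁻¹ * g).1.1 = g.1.1 := by
          show (D * (D⁻¹ * g)).1.1 = g.1.1
          rw [mul_inv_cancel_left]
        have h3 := congrFun (congrFun h2 a) b
        rw [Matrix.mul_apply, Finset.sum_eq_single a] at h3
        · rwa [hD.apply, if_pos rfl] at h3
        · intro c _ hc; rw [hD.apply, if_neg (Ne.symm hc), zero_mul]
        · simp
      refine mem_uu.2 ⟨fun a b h => ?_, fun a => ?_⟩
      · have := hval a b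
        rw [hup a b h] at this
        exact (mul_eq_zero.1 this).resolve_left (hd0 a)
      · exact mul_left_cancel₀ (hd0 a) ((hval a a).trans (mul_one _).symm)
    rw [← mul_inv_cancel_left D g, map_mul]
    exact mul_mem (htorus _ D d hD rfl) (autSub_of_mem le_rfl (hUS _ hu) (Subgroup.le_normalizer (hUS _ hu)))
  exact CfsgLib.Fusion.isSimple_group_of_closed_automizer S hne hclosed haut

end CfsgLib.FusionCharP.Unitary
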