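import Cfsg.Agent.Lib.Fusion.ClassicalCharP.UnitaryRadicals

/-!
# Levi elements, exchange elements and diagonal elements
-/

set_option autoImplicit false
set_option linter.unusedSectionVars false
set_option linter.style.haveILetI false

open Matrix

namespace CfsgLib.FusionCharP.Unitary

open CfsgLib.SU (UCtx)

attribute [-simp] Matrix.mulVec_single_one Matrix.mulVec_single

variable {F : Type*} [Field F] {q n : ℕ} {C : UCtx F q}

local notation "V" => (Fin n → F)

theorem ne_rev_of_low {i j : Fin n} (hi : i < i.rev) (hj : j < j.rev) : i ≠ j.rev := by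
  intro e
  rw [e, Fin.rev_rev] at hi
  exact lt_asymm hi hj

theorem adm_lev {i j : Fin n} (hi : i < i.rev) (hj : j < j.rev) (hij : i ≠ j) (c : F) :
    Adm C (bv j) ((-C.bar c) • bv i.rev) 0 := by
  refine adm_iso C (by rw [hf_bv, if_neg hj.ne]) ?_ ?_
  · rw [hf_smul_left, hf_bv, if_neg (by rw [Fin.rev_rev]; exact hij.symm), mul_zero]
  · rw [hf_smul_left, hf_smul_right, hf_bv, if_neg (by rw [Fin.rev_rev]; exact hi.ne'), mul_zero, mul_zero]

/-- The Levi element `bv i ↦ bv i + c bv j`. -/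
def lev {i j : Fin n} (hi : i < i.rev) (hj : j < j.rev) (hij : i ≠ j) (c : F) : ↥(SJ C n) :=
  ee (adm_lev hi hj hij c)

theorem lev_bv {i j : Fin n} (hi : i < i.rev) (hj : j < j.rev) (hij : i ≠ j) (c : F) (l : Fin n) :
    (lev (C := C) hi hj hij c).1.1 *ᵥ bv l = (bv l : V) + (if l = i then c else 0) • bv j -
      (if l = j.rev then C.bar c else 0) • bv i.rev := by
  rw [lev, ee_mulVec, hf_smul_right, hf_bv, hf_bv, map_neg, C.bar_bar, zero_mul, zero_sub]
  by_cases h1 : l = j.rev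
  · subst h1
    rw [Fin.rev_rev, if_pos rfl, if_pos rfl, if_neg (ne_rev_of_low hi hj).symm,
      if_neg (fun e : i.rev = j => ne_rev_of_low hj hi e.symm)]
    module
  · rw [if_neg (fun e : j = l.rev => h1 (by rw [e, Fin.rev_rev])), if_neg h1]
    by_cases h2 : l = i
    · rw [h2, if_pos rfl, if_pos rfl]; module
    · rw [if_neg h2, if_neg (fun e : i.rev = l.rev => h2 (Fin.rev_injective e).symm)]; module

theorem lev_inv {i j : Fin n} (hi : i < i.rev) (hj : j < j.rev) (hij : i ≠ j) (c : F) :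
    (lev (C := C) hi hj hij c)⁻¹ = lev hi hj hij (-c) := by
  rw [lev, lev, ee_inv]
  exact ee_congr _ _ rfl (by rw [map_neg, neg_neg, ← neg_smul, neg_neg]) (map_zero _)

theorem lev_mem_uu [Finite F] {i j : Fin n} (hi : i < i.rev) (hj : j < j.rev) (hij : i ≠ j) (hlt : j < i) (c : F) :
    lev (C := C) hi hj hij c ∈ uu C n := by
  refine ee_bv_mem_uu _ hj fun l hl => ?_
  rw [Pi.smul_apply, bv_ne, smul_zero]
  intro e
  subst e
  rcases hl with h | h
  · exact absurd h (not_le.2 (lt_trans hlt hi))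
  · exact absurd (Fin.rev_le_rev.1 h) hlt.not_ge

/-- The diagonal of `hsel`. -/
def hsd (C : UCtx F q) (i j : Fin n) (t : F) : Fin n → F := fun l =>
  if l = i then t⁻¹ else if l = j then t else if l = i.rev then C.bar t
  else if l = j.rev then (C.bar t)⁻¹ else 1

/-- The diagonal element of a Levi root. -/
def hsel {i j : Fin n} (hi : i < i.rev) (hj : j < j.rev) (hij : i ≠ j) (t : F) : ↥(SJ C n) :=
  lev hi hj hij t * lev hj hi hij.symm (-t⁻¹) * lev hi hj hij t *
    (lev hi hj hij (-1) * lev hj hi hij.symm 1 * lev hi hj hij (-1))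

theorem hsel_isDg {i j : Fin n} (hi : i < i.rev) (hj : j < j.rev) (hij : i ≠ j) {t : F} (ht : t ≠ 0) :
    IsDg (hsel (C := C) hi hj hij t) (hsd C i j t) := by
  have hbt : C.bar t ≠ 0 := by simpa using ht
  have e1 : i ≠ i.rev := hi.ne
  have e2 : j ≠ j.rev := hj.ne
  have e3 := ne_rev_of_low hi hj
  have e4 := ne_rev_of_low hj hi
  have e5 : i.rev ≠ j.rev := fun e => hij (Fin.rev_injective e)
  intro l
  simp only [hsel, sj_mul_mulVec, lev_bv, Matrix.mulVec_add, Matrix.mulVec_sub, Matrix.mulVec_smul]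
  rcases eq_or_ne l i with h1 | h1
  · subst h1
    simp only [hsd, if_true, if_neg hij, if_neg hij.symm, if_neg e1, if_neg e2, if_neg e3, if_neg e4,
      if_neg e1.symm, if_neg e2.symm, if_neg e3.symm, if_neg e4.symm, if_neg e5, if_neg e5.symm]
    match_scalars <;> field_simp <;> ring
  rcases eq_or_ne l j with h2 | h2
  · subst h2
    simp only [hsd, if_true, if_neg hij, if_neg hij.symm, if_neg e1, if_neg e2, if_neg e3, if_neg e4,
      if_neg e1.symm, if_neg e2.symm, if_neg e3.symm, if_neg e4.symm, if_neg e5, if_neg e5.symm]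
    match_scalars <;> field_simp <;> ring
  rcases eq_or_ne l i.rev with h3 | h3
  · subst h3
    simp only [hsd, if_true, if_neg hij, if_neg hij.symm, if_neg e1, if_neg e2, if_neg e3, if_neg e4,
      if_neg e1.symm, if_neg e2.symm, if_neg e3.symm, if_neg e4.symm, if_neg e5, if_neg e5.symm,
      map_neg, map_inv₀, map_one]
    match_scalars <;> field_simp <;> ring
  rcases eq_or_ne l j.rev with h4 | h4
  · subst h4
    simp only [hsd, if_true, if_neg hij, if_neg hij.symm, if_neg e1, if_neg e2, if_neg e3, if_neg e4,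
      if_neg e1.symm, if_neg e2.symm, if_neg e3.symm, if_neg e4.symm, if_neg e5, if_neg e5.symm,
      map_neg, map_inv₀, map_one]
    match_scalars <;> field_simp <;> ring
  · simp only [hsd, if_neg h1, if_neg h2, if_neg h3, if_neg h4]
    module

/-- Product of three root elements exchanging a hyperbolic pair. -/
theorem exists_exchange {H : Subgroup ↥(SJ C n)} {k : Fin n} (hk : k < k.rev) {v : V} {t : F}
    (hv : v k = 0) (hv' : v k.rev = 0) (ht0 : t ≠ 0) (ht : t + C.bar t + hf C v v = 0)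
    (hE : ∀ (a : F) (s : F) (h : Adm C (bv k) (a • v) s), ee h ∈ H)
    (hF : ∀ (a : F) (s : F) (h : Adm C (bv k.rev) (a • v) s), ee h ∈ H) :
    ∃ N ∈ H, N.1.1 *ᵥ bv k = (C.bar t)⁻¹ • (bv k.rev : V) ∧ N.1.1 *ᵥ bv k.rev = t • (bv k : V) ∧
      ∀ x : V, hf C x (bv k) = 0 → hf C x (bv k.rev) = 0 → hf C x v = 0 → N.1.1 *ᵥ x = x := by
  have hbt : C.bar t ≠ 0 := by simpa using ht0
  have hkk : hf C (bv k) (bv k : V) = 0 := by rw [hf_bv, if_neg hk.ne]
  have hrr : hf C (bv k.rev) (bv k.rev : V) = 0 := by rw [hf_bv, Fin.rev_rev, if_neg hk.ne']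
  have hkr : hf C (bv k) (bv k.rev : V) = 1 := by rw [hf_bv, if_pos rfl]
  have hrk : hf C (bv k.rev) (bv k : V) = 1 := by rw [hf_bv, Fin.rev_rev, if_pos rfl]
  have hve : hf C v (bv k) = 0 := by rw [hf_bv_right, hv']
  have hvf : hf C v (bv k.rev) = 0 := by rw [hf_bv_right, Fin.rev_rev, hv]
  have hX : Adm C (bv k) ((1 : F) • v) t := ⟨hkk, by rw [one_smul, hve], by rw [one_smul, ht]⟩
  have hY : Adm C (bv k.rev) ((-(C.bar t)⁻¹) • v) (C.bar t)⁻¹ := by
    refine ⟨hrr, by rw [hf_smul_left, hvf, mul_zero], ?_⟩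
    rw [hf_smul_left, hf_smul_right, map_neg, map_inv₀, C.bar_bar]
    field_simp
    linear_combination ht
  have hZ : Adm C (bv k) ((t / C.bar t) • v) t := by
    refine ⟨hkk, by rw [hf_smul_left, hve, mul_zero], ?_⟩
    rw [hf_smul_left, hf_smul_right, map_div₀, C.bar_bar]
    field_simp
    linear_combination ht
  refine ⟨ee hX * ee hY * ee hZ, mul_mem (mul_mem (hE _ _ hX) (hF _ _ hY)) (hE _ _ hZ), ?_, ?_, fun x h1 h2 h3 => ?_⟩
  · simp only [sj_mul_mulVec, ee_mulVec, one_smul, hf_add_left, hf_smul_left, hf_smul_right, hkk, hrr, hkr, hrk,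
      hve, hvf, hf_swap C hve, hf_swap C hvf, map_neg, map_inv₀, map_div₀, C.bar_bar, mul_zero, add_zero,
      zero_smul, sub_zero, mul_one, zero_add, Matrix.mulVec_add, Matrix.mulVec_smul]
    match_scalars <;> field_simp <;> first | ring1 | linear_combination ht | linear_combination -ht
  · simp only [sj_mul_mulVec, ee_mulVec, one_smul, hf_add_left, hf_smul_left, hf_smul_right, hkk, hrr, hkr, hrk,
      hve, hvf, hf_swap C hve, hf_swap C hvf, map_neg, map_inv₀, map_div₀, C.bar_bar, mul_zero, add_zero,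
      zero_smul, sub_zero, mul_one, zero_add, Matrix.mulVec_add, Matrix.mulVec_smul]
    match_scalars <;> field_simp <;> first | ring1 | linear_combination ht | linear_combination -ht
  · rw [sj_mul_mulVec, sj_mul_mulVec, ee_fix hZ h1 (by rw [hf_smul_right, h3, mul_zero]),
      ee_fix hY h2 (by rw [hf_smul_right, h3, mul_zero]), ee_fix hX h1 (by rw [one_smul, h3])]

theorem exists_swap_low [Finite F] {i j : Fin n} (hi : i < i.rev) (hj : j < j.rev) (hij : i ≠ j) :
    ∃ A : ↥(SJ C n), A.1.1 *ᵥ bv i = (bv j : V) ∧ A.1.1 *ᵥ bv j = (bv i : V) ∧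
      A.1.1 *ᵥ bv i.rev = (bv j.rev : V) ∧ A.1.1 *ᵥ bv j.rev = (bv i.rev : V) ∧
      (∀ l, l ≠ i → l ≠ j → l ≠ i.rev → l ≠ j.rev → A.1.1 *ᵥ bv l = (bv l : V)) ∧
      ∀ l : Fin n, l < l.rev → ∃ l' : Fin n, l' < l'.rev ∧ (A⁻¹).1.1 *ᵥ bv l = (bv l' : V) := by
  obtain ⟨A, hA⟩ := exists_swap (C := C) hij hi.ne hj.ne (ne_rev_of_low hi hj)
  have e5 : i.rev ≠ j.rev := fun e => hij (Fin.rev_injective e)
  have a1 : A.1.1 *ᵥ bv i = (bv j : V) := by
    rw [hA, Equiv.swap_apply_of_ne_of_ne hi.ne (ne_rev_of_low hi hj), Equiv.swap_apply_left]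
  have a2 : A.1.1 *ᵥ bv j = (bv i : V) := by
    rw [hA, Equiv.swap_apply_of_ne_of_ne (ne_rev_of_low hj hi) hj.ne, Equiv.swap_apply_right]
  have a3 : A.1.1 *ᵥ bv i.rev = (bv j.rev : V) := by
    rw [hA, Equiv.swap_apply_left, Equiv.swap_apply_of_ne_of_ne (ne_rev_of_low hi hj).symm hj.ne']
  have a4 : A.1.1 *ᵥ bv j.rev = (bv i.rev : V) := by
    rw [hA, Equiv.swap_apply_right, Equiv.swap_apply_of_ne_of_ne hi.ne' (ne_rev_of_low hj hi).symm]
  have a5 : ∀ l, l ≠ i → l ≠ j → l ≠ i.rev → l ≠ j.rev → A.1.1 *ᵥ bv l = (bv l : V) :=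
    fun l h1 h2 h3 h4 => by
      rw [hA, Equiv.swap_apply_of_ne_of_ne h3 h4, Equiv.swap_apply_of_ne_of_ne h1 h2]
  refine ⟨A, a1, a2, a3, a4, a5, fun l hl => ?_⟩
  obtain ⟨l', hl', he⟩ : ∃ l' : Fin n, l' < l'.rev ∧ A.1.1 *ᵥ bv l' = (bv l : V) := by
    rcases eq_or_ne l i with rfl | h1
    · exact ⟨j, hj, a2⟩
    rcases eq_or_ne l j with rfl | h2
    · exact ⟨i, hi, a1⟩
    exact ⟨l, hl, a5 l h1 h2 (ne_rev_of_low hl hi) (ne_rev_of_low hl hj)⟩
  exact ⟨l', hl', by rw [← he, sj_inv_mulVec]⟩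

theorem qr_eq [Finite F] {z : Fin n} (hzr : z < z.rev) {X : ↥(SJ C n)} (hX : X ∈ qr C z)
    (hXf : (X.1.1 *ᵥ bv z.rev) z.rev = 1) :
    ∃ (v : V) (t : F) (h : Adm C (bv z) v t), v z = 0 ∧ v z.rev = 0 ∧ X = ee h := by
  set w := X.1.1 *ᵥ bv z.rev with hw
  set v : V := fun a => if a = z ∨ a = z.rev then 0 else w a with hv
  have hv1 : v z = 0 := by simp [hv]
  have hv2 : v z.rev = 0 := by simp [hv]
  have hwe : w = bv z.rev + v + w z • bv z := by
    funext a
    rcases eq_or_ne a z with rfl | ha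
    · simp [hv1, bv_ne hzr.ne]
    rcases eq_or_ne a z.rev with rfl | ha'
    · simp [hv2, hXf, bv_ne ha]
    · simp [hv, ha, ha', bv_ne ha, bv_ne ha']
  have hh : Adm C (bv z) v (w z) := adm_bv hzr.ne hv2 (by
    have h1 := hf_sj X (bv z.rev) (bv z.rev)
    rw [← hw, hwe] at h1
    simp only [hf_add_left, hf_add_right, hf_smul_left, hf_smul_right] at h1
    simp only [hf_bv, hf_bv_right, hf_bv_left, Fin.rev_rev, bv_ne hzr.ne, bv_ne hzr.ne', bv_same, hv1, hv2,
      map_zero, if_pos, if_neg hzr.ne, if_neg hzr.ne'] at h1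
    linear_combination h1)
  refine ⟨v, w z, hh, hv1, hv2, sj_ext_basis fun l => ?_⟩
  rcases eq_or_ne l z.rev with rfl | hl
  · rw [← hw, ee_mulVec, hf_bv, hf_bv_left, Fin.rev_rev, hv1, if_pos rfl, map_zero, sub_zero, mul_one, one_smul]
    exact hwe
  · have hlz : hf C (bv l) (bv z : V) = 0 := by
      rw [hf_bv, if_neg]; exact fun e => hl (by rw [e, Fin.rev_rev])
    obtain ⟨c, hc⟩ := hX.2 (bv l) hlz
    have hzz : hf C (bv z) (bv z : V) = 0 := by rw [hf_bv, if_neg hzr.ne]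
    have h1 := hf_sj X (bv l) (bv z.rev)
    rw [hc, ← hw, hwe] at h1
    simp only [hf_add_left, hf_add_right, hf_smul_left, hf_smul_right, hlz, hzz, mul_zero, add_zero] at h1
    rw [show hf C (bv z) (bv z.rev : V) = 1 by rw [hf_bv, if_pos rfl],
      show hf C (bv z) v = 0 by rw [hf_bv_left, hv2, map_zero]] at h1
    rw [ee_mulVec, hlz, hc, show c = -hf C (bv l) v by linear_combination h1]
    module

end CfsgLib.FusionCharP.Unitary
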