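import Cfsg.Agent.Lib.Fusion.ClassicalCharP.UnitarySetup
import Cfsg.Agent.Lib.Fusion.Thompson

/-!
# `PSU_n` as a quotient of the anti-diagonal group; two radicals; the Sylow subgroup
-/

set_option autoImplicit false
set_option linter.unusedSectionVars false
set_option linter.style.haveILetI false

open Matrix

namespace CfsgLib.FusionCharP.Unitary

open CfsgLib.SU (UCtx)

attribute [-simp] Matrix.mulVec_single_one Matrix.mulVec_single

variable {F : Type*} [Field F] [Finite F] {q n : ℕ}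

local notation "V" => (Fin n → F)
local notation "MM" => Matrix (Fin n) (Fin n) F

theorem exists_quotient (C : UCtx F q) (hn : 3 ≤ n) :
    ∃ π : ↥(SJ C n) →* Cfsg.PSU n F q, Function.Surjective π ∧
      ∀ A B, π A = π B ↔ ∃ c : F, B.1.1 = c • A.1.1 := by
  classical
  obtain ⟨c, hc⟩ := C.exists_norm (c := (-1 : F)) (by rw [map_neg, map_one])
  obtain ⟨k, hk⟩ := C.exists_trace (c := (-1 : F)) (by rw [map_neg, map_one])
  set bas : Fin n → V := fun i => if i < i.rev then bv i + c • bv i.rev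
    else if i.rev < i then bv i.rev + k • (bv i.rev + c • bv i) else bv i with hbas
  have hstd : ∀ a b : Fin n, C.form (bv a) (bv b : V) = if a = b then 1 else 0 := by
    intro a b
    simp [UCtx.form, Pi.single_apply, apply_ite C.bar, eq_comm]
  have hsupp : ∀ i a, a ≠ i → a ≠ i.rev → bas i a = 0 := by
    intro i a h1 h2
    simp only [hbas]
    split_ifs <;> simp [h1, h2]
  have hb : ∀ i j, C.form (bas i) (bas j) = if j = i.rev then 1 else 0 := by
    intro i j
    by_cases hj : j = i ∨ j = i.rev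
    swap
    · rw [not_or] at hj
      rw [if_neg hj.2, UCtx.form]
      refine Finset.sum_eq_zero fun a _ => ?_
      by_cases ha : a = i ∨ a = i.rev
      · rw [hsupp j a, map_zero, mul_zero]
        · rcases ha with rfl | rfl
          · exact Ne.symm hj.1
          · exact Ne.symm hj.2
        · rcases ha with rfl | rfl
          · exact fun e => hj.2 (by rw [e, Fin.rev_rev])
          · exact fun e => hj.1 (Fin.rev_injective e).symm
      · rw [not_or] at ha
        rw [hsupp i a ha.1 ha.2, zero_mul]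
    rcases lt_trichotomy i i.rev with h | h | h
    · have e1 : bas i = bv i + c • bv i.rev := by simp [hbas, h]
      have e2 : bas i.rev = bv i + k • (bv i + c • bv i.rev) := by
        simp [hbas, h, h.not_gt]
      rcases hj with rfl | rfl
      · rw [if_neg h.ne, e1]
        simp only [C.form_add_left, C.form_add_right, C.form_smul_left, C.form_smul_right, hstd,
          if_neg h.ne, if_neg h.ne', if_pos]
        linear_combination hc
      · rw [if_pos rfl, e1, e2]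
        simp only [C.form_add_left, C.form_add_right, C.form_smul_left, C.form_smul_right, hstd,
          if_neg h.ne, if_neg h.ne', if_pos]
        linear_combination C.bar k * hc
    · have e1 : bas i = bv i := by simp only [hbas]; rw [← h]; simp
      obtain rfl : j = i := hj.elim id (fun e => e.trans h.symm)
      rw [e1, hstd, if_pos rfl, if_pos h]
    · have e1 : bas i = bv i.rev + k • (bv i.rev + c • bv i) := by simp [hbas, h, h.not_gt]
      have e2 : bas i.rev = bv i.rev + c • bv i := by simp [hbas, h]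
      rcases hj with rfl | rfl
      · rw [if_neg h.ne', e1]
        simp only [C.form_add_left, C.form_add_right, C.form_smul_left, C.form_smul_right, hstd,
          if_neg h.ne, if_neg h.ne', if_pos]
        linear_combination hk + k * C.bar k * hc
      · rw [if_pos rfl, e1, e2]
        simp only [C.form_add_left, C.form_add_right, C.form_smul_left, C.form_smul_right, hstd,
          if_neg h.ne, if_neg h.ne', if_pos]
        linear_combination k * hc
  set B : MM := Matrix.of fun a i => bas i a with hB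
  have hBx : ∀ x : V, B *ᵥ x = ∑ i, x i • bas i := by
    intro x; funext a
    simp [hB, Matrix.mulVec, dotProduct, Finset.sum_apply, mul_comm]
  have hform : ∀ x y : V, C.form (B *ᵥ x) (B *ᵥ y) = hf C x y := by
    intro x y
    rw [hBx x, C.form_sum_left, hf]
    refine Finset.sum_congr rfl fun i _ => ?_
    rw [C.form_smul_left, hBx y, ← C.bar_form, C.form_sum_left, map_sum, Finset.sum_eq_single i.rev]
    · rw [C.form_smul_left, map_mul, C.bar_form, hb, if_pos rfl, mul_one]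
    · intro j _ hj
      rw [C.form_smul_left, map_mul, C.bar_form, hb, if_neg hj, mul_zero]
    · simp
  have hBu : IsUnit B := by
    rw [← Matrix.mulVec_injective_iff_isUnit]
    intro x y hxy
    have h0 : x - y = 0 := eq_zero_of_hf C fun v => by
      rw [← hform, Matrix.mulVec_sub, show B *ᵥ x = B *ᵥ y from hxy, sub_self, C.form_zero_left]
    exact sub_eq_zero.1 h0
  obtain ⟨Bu, hBu⟩ := hBu
  clear_value B
  subst hBu
  rename' Bu => B
  have hBi : ∀ x : V, B.1 *ᵥ ((B⁻¹).1 *ᵥ x) = x := fun x => by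
    rw [Matrix.mulVec_mulVec, ← Units.val_mul, mul_inv_cancel, Units.val_one, Matrix.one_mulVec]
  have hBi' : ∀ x : V, (B⁻¹).1 *ᵥ (B.1 *ᵥ x) = x := fun x => by
    rw [Matrix.mulVec_mulVec, ← Units.val_mul, inv_mul_cancel, Units.val_one, Matrix.one_mulVec]
  let φ : ↥(SJ C n) →* ↥(Cfsg.SU n F q) :=
    MonoidHom.mk' (fun A => C.mkSU (B.1 * A.1.1 * (B⁻¹).1)
      (by rw [Matrix.det_units_conj, A.1.2])
      (fun u v => by
        simp only [← Matrix.mulVec_mulVec]
        rw [hform, hf_sj, ← hform, hBi, hBi]))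
      (fun A A' => Subtype.ext (Subtype.ext (by
        show B.1 * (A.1.1 * A'.1.1) * (B⁻¹).1 = (B.1 * A.1.1 * (B⁻¹).1) * (B.1 * A'.1.1 * (B⁻¹).1)
        simp [mul_assoc])))
  refine ⟨CfsgLib.SU.pr.comp φ, (QuotientGroup.mk'_surjective _).comp fun X => ?_, fun A A' => ?_⟩
  · refine ⟨⟨⟨(B⁻¹).1 * X.1.1 * B.1, ?_⟩, fun u v => ?_⟩, Subtype.ext (Subtype.ext ?_)⟩
    · have := Matrix.det_units_conj B⁻¹ X.1.1
      rw [inv_inv] at this
      rw [this, X.1.2]
    · show hf C (((B⁻¹).1 * X.1.1 * B.1) *ᵥ u) (((B⁻¹).1 * X.1.1 * B.1) *ᵥ v) = _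
      simp only [← Matrix.mulVec_mulVec]
      rw [← hform, hBi, hBi, C.form_su, hform]
    · show B.1 * ((B⁻¹).1 * X.1.1 * B.1) * (B⁻¹).1 = X.1.1
      simp [mul_assoc]
  · rw [MonoidHom.comp_apply, MonoidHom.comp_apply, C.pr_eq_iff hn]
    refine exists_congr fun d => ⟨fun h => ?_, fun h => ?_⟩
    · have h1 := congrArg (fun M => (B⁻¹).1 * M * B.1) (show B.1 * A'.1.1 * (B⁻¹).1 = d • (B.1 * A.1.1 * (B⁻¹).1) from h)
      simpa [mul_assoc, Matrix.mul_smul, Matrix.smul_mul] using h1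
    · show B.1 * A'.1.1 * (B⁻¹).1 = d • (B.1 * A.1.1 * (B⁻¹).1)
      rw [h, Matrix.mul_smul, Matrix.smul_mul]

variable {C : UCtx F q}

theorem eq_of_scalar (p : ℕ) [Fact p.Prime] [CharP F p] [NeZero n] {g u w : ↥(SJ C n)}
    (hu : u ∈ uu C n) (hw : w ∈ uu C n) {c : F} (h : (g * u * g⁻¹).1.1 = c • w.1.1) :
    g * u * g⁻¹ = w := by
  have hu1 : u.1 ^ p ^ n = 1 := CfsgLib.AutPSL.unitri_pow_eq_one (p := p) hu
  have hw1 : w.1 ^ p ^ n = 1 := CfsgLib.AutPSL.unitri_pow_eq_one (p := p) hw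
  have h2 : (g * u * g⁻¹).1.1 ^ p ^ n = 1 := by
    rw [← Matrix.SpecialLinearGroup.coe_pow, ← SubmonoidClass.coe_pow, conj_pow,
      show u ^ p ^ n = 1 from Subtype.ext hu1, mul_one, mul_inv_cancel]
    rfl
  rw [h, smul_pow, ← Matrix.SpecialLinearGroup.coe_pow, hw1, Matrix.SpecialLinearGroup.coe_one] at h2
  have hc : c = 1 := CfsgLib.AutPSL.eq_one_of_pow_prime_pow (p := p) (k := n) (by
    simpa using congrFun (congrFun h2 0) 0)
  rw [hc, one_smul] at h
  exact Subtype.ext (Subtype.ext h)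

/-- An upper triangular element with constant diagonal is a scalar times a group element. -/
theorem exists_scaled {X : ↥(SJ C n)} (hn : 0 < n) {μ : F} (hμ : μ * C.bar μ = 1)
    (hup : ∀ a b : Fin n, b < a → X.1.1 a b = 0) (hd : ∀ a, X.1.1 a a = μ) :
    ∃ Y : ↥(SJ C n), Y.1.1 = μ⁻¹ • X.1.1 := by
  have hdet : μ ^ n = 1 := by
    have h1 := X.1.2
    rw [Matrix.det_of_isUpperTriangular (fun a b h => hup a b h), Finset.prod_congr rfl fun i _ => hd i,
      Finset.prod_const, Finset.card_univ, Fintype.card_fin] at h1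
    exact h1
  refine ⟨⟨⟨μ⁻¹ • X.1.1, by rw [Matrix.det_smul, X.1.2, mul_one, Fintype.card_fin, inv_pow, hdet, inv_one]⟩,
    fun u v => ?_⟩, rfl⟩
  show hf C ((μ⁻¹ • X.1.1) *ᵥ u) ((μ⁻¹ • X.1.1) *ᵥ v) = _
  rw [Matrix.smul_mulVec, Matrix.smul_mulVec, hf_smul_left, hf_smul_right, hf_sj, ← mul_assoc, map_inv₀,
    ← mul_inv, hμ, inv_one, one_mul]

/-! ### Radicals -/

variable (C)

/-- The radical of the stabiliser of a point. -/
def qr (z : Fin n) : Subgroup ↥(SJ C n) where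
  carrier := {X | X.1.1 *ᵥ bv z = (bv z : V) ∧ ∀ w : V, hf C w (bv z) = 0 → ∃ c : F, X.1.1 *ᵥ w = w + c • bv z}
  one_mem' := ⟨sj_one_mulVec _, fun w _ => ⟨0, by rw [sj_one_mulVec]; simp⟩⟩
  mul_mem' {X Y} hX hY := by
    refine ⟨by rw [sj_mul_mulVec, hY.1, hX.1], fun w hw => ?_⟩
    obtain ⟨c, hc⟩ := hY.2 w hw
    obtain ⟨d, hd⟩ := hX.2 w hw
    refine ⟨d + c, ?_⟩
    rw [sj_mul_mulVec, hc, Matrix.mulVec_add, Matrix.mulVec_smul, hX.1, hd]
    module
  inv_mem' {X} hX := by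
    have h1 : (X⁻¹).1.1 *ᵥ bv z = (bv z : V) := by conv_lhs => rw [← hX.1, sj_inv_mulVec]
    refine ⟨h1, fun w hw => ?_⟩
    obtain ⟨c, hc⟩ := hX.2 w hw
    refine ⟨-c, ?_⟩
    have h2 : X.1.1 *ᵥ (w + (-c) • bv z) = w := by
      rw [Matrix.mulVec_add, Matrix.mulVec_smul, hX.1, hc]; module
    conv_lhs => rw [← h2, sj_inv_mulVec]

/-- The pointwise stabiliser of the lower basis vectors. -/
def sr (n : ℕ) : Subgroup ↥(SJ C n) where
  carrier := {X | ∀ i : Fin n, i < i.rev → X.1.1 *ᵥ bv i = (bv i : Fin n → F)}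
  mul_mem' {X Y} hX hY i hi := by rw [sj_mul_mulVec, hY i hi, hX i hi]
  one_mem' i _ := sj_one_mulVec _
  inv_mem' {X} hX i hi := by conv_lhs => rw [← hX i hi, sj_inv_mulVec]

variable {C}

theorem ee_mem_qr {z : Fin n} {v : V} {t : F} (h : Adm C (bv z) v t) : ee h ∈ qr C z :=
  ⟨ee_self h, fun w hw => ⟨-hf C w v, by rw [ee_mulVec, hw]; simp⟩⟩

theorem qr_conj {z : Fin n} {g X : ↥(SJ C n)} {μ : F} (hμ : μ ≠ 0)
    (hg : (g⁻¹).1.1 *ᵥ bv z = μ • (bv z : V)) (hX : X ∈ qr C z) : g * X * g⁻¹ ∈ qr C z := by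
  have hgz : g.1.1 *ᵥ bv z = μ⁻¹ • (bv z : V) := by
    have h := congrArg (fun v => g.1.1 *ᵥ v) hg
    simp only [sj_mulVec_inv, Matrix.mulVec_smul] at h
    rw [eq_inv_smul_iff₀ hμ]
    exact h.symm
  refine ⟨?_, fun w hw => ?_⟩
  · rw [sj_mul_mulVec, sj_mul_mulVec, hg, Matrix.mulVec_smul, hX.1, Matrix.mulVec_smul, hgz, smul_smul,
      mul_inv_cancel₀ hμ, one_smul]
  · have h1 : hf C ((g⁻¹).1.1 *ᵥ w) (bv z) = 0 := by
      have h2 := hf_sj g⁻¹ w (bv z)
      rw [hg, hf_smul_right, hw, mul_eq_zero] at h2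
      exact h2.resolve_left (by simpa using hμ)
    obtain ⟨c, hc⟩ := hX.2 _ h1
    refine ⟨c * μ⁻¹, ?_⟩
    rw [sj_mul_mulVec, sj_mul_mulVec, hc, Matrix.mulVec_add, Matrix.mulVec_smul, sj_mulVec_inv, hgz, smul_smul]

theorem sr_fix {X : ↥(SJ C n)} (hX : X ∈ sr C n) {v : V} (hv : ∀ i : Fin n, ¬ i < i.rev → v i = 0) :
    X.1.1 *ᵥ v = v := by
  rw [pi_eq_sum_univ' v, Matrix.mulVec_sum]
  refine Finset.sum_congr rfl fun i _ => ?_
  by_cases h : i < i.rev
  · rw [Matrix.mulVec_smul]; exact congrArg (v i • ·) (hX i h)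
  · rw [hv i h, zero_smul, Matrix.mulVec_zero]

theorem sr_conj {g X : ↥(SJ C n)}
    (hg : ∀ i j : Fin n, i < i.rev → ¬ j < j.rev → ((g⁻¹).1.1 *ᵥ bv i : V) j = 0) (hX : X ∈ sr C n) :
    g * X * g⁻¹ ∈ sr C n := fun i hi => by
  rw [sj_mul_mulVec, sj_mul_mulVec, sr_fix hX (fun j hj => hg i j hi hj), sj_mulVec_inv]

theorem qr_le_uu {z : Fin n} (hn : 2 ≤ n) (hz : z.val = 0) : qr C z ≤ uu C n := by
  intro X hX
  have hzr : z < z.rev := by rw [Fin.lt_def, Fin.val_rev]; omega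
  have hcol : ∀ a b : Fin n, b ≠ z.rev → a ≠ z → X.1.1 a b = if a = b then 1 else 0 := by
    intro a b hb ha
    obtain ⟨c, hc⟩ := hX.2 (bv b) (by rw [hf_bv_right, bv_ne hb.symm])
    have h1 := congrFun hc a
    rw [Matrix.mulVec_single_one] at h1
    rw [show X.1.1 a b = _ from h1]
    simp [Pi.single_apply, ha]
  have hz' : X.1.1 z z = 1 := by
    have h1 := congrFun hX.1 z
    rw [Matrix.mulVec_single_one] at h1
    exact h1.trans (bv_same z)
  refine mem_uu.2 ⟨fun a b hab => ?_, fun a => ?_⟩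
  · have ha : a ≠ z := fun e => by rw [e, Fin.lt_def, hz] at hab; omega
    have hb : b ≠ z.rev := fun e => by
      rw [e, Fin.lt_def, Fin.val_rev] at hab; have := a.2; omega
    rw [hcol a b hb ha, if_neg hab.ne']
  · by_cases ha : a = z
    · rw [ha, hz']
    by_cases hb : a = z.rev
    · subst hb
      rw [apply_eq_hf, Fin.rev_rev, ← hX.1, hf_sj, hf_bv, Fin.rev_rev, if_pos rfl]
    · rw [hcol a a hb ha, if_pos rfl]

theorem sr_le_uu : sr C n ≤ uu C n := by
  intro X hX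
  have hlow : ∀ a b : Fin n, b < b.rev → X.1.1 a b = if a = b then 1 else 0 := fun a b hb => by
    have h1 := congrFun (hX b hb) a
    rw [Matrix.mulVec_single_one] at h1
    rw [show X.1.1 a b = _ from h1]
    simp [Pi.single_apply]
  have hhigh : ∀ a b : Fin n, a.rev < a → X.1.1 a b = if a = b then 1 else 0 := fun a b ha => by
    rw [apply_eq_hf, ← hX a.rev (by rwa [Fin.rev_rev]), hf_sj, hf_bv]
    simp [Fin.rev_inj]
  have hup : ∀ a b : Fin n, b < a → X.1.1 a b = 0 := by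
    intro a b hab
    rcases lt_or_ge b b.rev with h | h
    · rw [hlow a b h, if_neg hab.ne']
    · rw [hhigh a b (lt_of_lt_of_le (Fin.rev_lt_rev.2 hab) (h.trans hab.le)), if_neg hab.ne']
  have hrest : ∀ a : Fin n, a ≠ a.rev → X.1.1 a a = 1 := fun a ha => by
    rcases lt_or_gt_of_ne ha with h | h
    · rw [hlow a a h, if_pos rfl]
    · rw [hhigh a a h, if_pos rfl]
  refine mem_uu.2 ⟨hup, fun a => ?_⟩
  by_cases ha : a = a.rev
  · have h1 := X.1.2
    rw [Matrix.det_of_isUpperTriangular (fun i j h => hup i j h), Finset.prod_eq_single a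
      (fun j _ hja => hrest j fun e => hja (Fin.ext (by
        have := congrArg Fin.val e; have := congrArg Fin.val ha
        simp [Fin.val_rev] at *; omega))) (fun hh => absurd (Finset.mem_univ a) hh)] at h1
    exact h1
  · exact hrest a ha

/-! ### Centralisers -/

theorem eigen_of_commute {X : ↥(SJ C n)} {e : V} {t : F} (he : e ≠ 0) (ht : t ≠ 0) (h : Adm C e 0 t)
    (hc : Commute X (ee h)) : ∃ μ : F, μ * C.bar μ = 1 ∧ X.1.1 *ᵥ e = μ • e := by
  obtain ⟨y, hy⟩ := exists_hf_eq_one C he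
  have h1 := ee_conj X h
  rw [hc.eq, mul_inv_cancel_right] at h1
  have h2 := congrArg (fun A : ↥(SJ C n) => A.1.1 *ᵥ y) h1
  simp only [ee_mulVec, hf_zero_right, Matrix.mulVec_zero, smul_zero, add_zero, sub_zero, hy, mul_one,
    add_right_inj] at h2
  set s := hf C y (X.1.1 *ᵥ e)
  have h3 : e = s • (X.1.1 *ᵥ e) := by
    refine smul_right_injective V ht ?_
    show t • e = t • s • _
    rw [smul_smul]; exact h2
  have hs0 : s ≠ 0 := fun h0 => he (by rw [h3, h0, zero_smul])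
  have h4 : X.1.1 *ᵥ e = s⁻¹ • e := (eq_inv_smul_iff₀ hs0).2 h3.symm
  have h5 : s = C.bar s⁻¹ := by
    show hf C y (X.1.1 *ᵥ e) = _
    rw [h4, hf_smul_right, hy, mul_one]
  exact ⟨s⁻¹, by rw [← h5, inv_mul_cancel₀ hs0], h4⟩

theorem perp_of_commute {X : ↥(SJ C n)} {e v : V} {t μ : F} (he : e ≠ 0) (hμ : μ * C.bar μ = 1)
    (hXe : X.1.1 *ᵥ e = μ • e) (h : Adm C e v t) (hc : Commute X (ee h)) :
    ∃ c : F, X.1.1 *ᵥ v = μ • v + c • e := by
  obtain ⟨y, hy⟩ := exists_hf_eq_one C he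
  have h1 := ee_conj X h
  rw [hc.eq, mul_inv_cancel_right] at h1
  have h2 := congrArg (fun A : ↥(SJ C n) => A.1.1 *ᵥ y) h1
  simp only [ee_mulVec, hXe, hf_smul_right, hy, mul_one, one_smul] at h2
  refine ⟨μ * (t - hf C y v) - μ * ((t * C.bar μ - hf C y (X.1.1 *ᵥ v)) * μ), ?_⟩
  have h3 : X.1.1 *ᵥ v = (μ * C.bar μ) • (X.1.1 *ᵥ v) := by rw [hμ, one_smul]
  conv_lhs => rw [h3]
  linear_combination (norm := module) (-μ) • h2

theorem centralizer_qr {z : Fin n} (hn : 2 ≤ n) (hz : z.val = 0) {X : ↥(SJ C n)}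
    (hc : ∀ r ∈ qr C z, Commute X r) :
    ∃ Y ∈ qr C z, ∃ μ : F, X.1.1 = μ • Y.1.1 := by
  have hzr : z < z.rev := by rw [Fin.lt_def, Fin.val_rev]; omega
  have hne : (bv z : V) ≠ 0 := fun h => by simpa using congrFun h z
  obtain ⟨δ, hδ0, hδ⟩ := C.exists_trace_zero
  have hzz : hf C (bv z) (bv z : V) = 0 := by rw [hf_bv, if_neg hzr.ne]
  obtain ⟨μ, hμ, hXz⟩ := eigen_of_commute hne hδ0 (adm_zero C hzz hδ) (hc _ (ee_mem_qr _))
  have hμ0 : μ ≠ 0 := left_ne_zero_of_mul_eq_one hμ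
  have hperp : ∀ v : V, hf C v (bv z) = 0 → ∃ c : F, X.1.1 *ᵥ v = μ • v + c • bv z := by
    intro v hv
    obtain ⟨t, ht⟩ := C.exists_trace (c := -hf C v v) (by rw [map_neg, bar_hf])
    have h : Adm C (bv z) v t := ⟨hzz, hv, by rw [ht]; ring⟩
    exact perp_of_commute hne hμ hXz h (hc _ (ee_mem_qr h))
  have hcol : ∀ a b : Fin n, b ≠ z.rev → a ≠ z → X.1.1 a b = if a = b then μ else 0 := by
    intro a b hb ha
    obtain ⟨c, hc'⟩ := hperp (bv b) (by rw [hf_bv_right, bv_ne hb.symm])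
    have h1 := congrFun hc' a
    rw [Matrix.mulVec_single_one] at h1
    rw [show X.1.1 a b = _ from h1]
    simp [Pi.single_apply, ha]
  obtain ⟨Y, hY⟩ := exists_scaled (X := X) (by omega) hμ (fun a b hab => by
    have ha : a ≠ z := fun e => by rw [e, Fin.lt_def, hz] at hab; omega
    have hb : b ≠ z.rev := fun e => by
      rw [e, Fin.lt_def, Fin.val_rev] at hab; have := a.2; omega
    rw [hcol a b hb ha, if_neg hab.ne']) (fun a => by
    by_cases ha : a = z
    · subst ha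
      have h1 := congrFun hXz a
      rw [Matrix.mulVec_single_one] at h1
      rw [show X.1.1 a a = _ from h1, Pi.smul_apply, bv_same, smul_eq_mul, mul_one]
    by_cases hb : a = z.rev
    · subst hb
      have h1 := hf_sj X (bv z.rev) (bv z)
      rw [hXz, hf_smul_right, hf_bv, Fin.rev_rev, if_pos rfl] at h1
      rw [apply_eq_hf, Fin.rev_rev]
      linear_combination μ * h1 - hf C (X.1.1 *ᵥ bv z.rev) (bv z) * hμ
    · rw [hcol a a hb ha, if_pos rfl])
  refine ⟨Y, ⟨?_, fun w hw => ?_⟩, μ, by rw [hY, smul_smul, mul_inv_cancel₀ hμ0, one_smul]⟩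
  · rw [hY, Matrix.smul_mulVec, hXz, inv_smul_smul₀ hμ0]
  · obtain ⟨c, hc'⟩ := hperp w hw
    exact ⟨μ⁻¹ * c, by rw [hY, Matrix.smul_mulVec, hc', smul_add, inv_smul_smul₀ hμ0, smul_smul]⟩

theorem ee_mem_sr {e v : V} {t : F} (h : Adm C e v t) (he : ∀ i : Fin n, ¬ i < i.rev → e i = 0)
    (hv : ∀ i : Fin n, i.rev < i → v i = 0) : ee h ∈ sr C n := fun i hi => by
  refine ee_fix h ?_ ?_
  · rw [hf_bv_left, he _ (by rw [Fin.rev_rev]; exact hi.not_gt), map_zero]
  · rw [hf_bv_left, hv _ (by rwa [Fin.rev_rev]), map_zero]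

theorem centralizer_sr {z : Fin n} (hn : 2 ≤ n) (hz : z.val = 0) {X : ↥(SJ C n)}
    (hc : ∀ r ∈ sr C n, Commute X r) : ∃ Y ∈ sr C n, ∃ μ : F, X.1.1 = μ • Y.1.1 := by
  have hzr : z < z.rev := by rw [Fin.lt_def, Fin.val_rev]; omega
  obtain ⟨δ, hδ0, hδ⟩ := C.exists_trace_zero
  have heig : ∀ v : V, v ≠ 0 → (∀ i : Fin n, ¬ i < i.rev → v i = 0) →
      ∃ μ : F, μ * C.bar μ = 1 ∧ X.1.1 *ᵥ v = μ • v := by
    intro v hv0 hv
    have hvv : hf C v v = 0 := by
      refine Finset.sum_eq_zero fun i _ => ?_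
      by_cases h : i < i.rev
      · rw [hv i.rev (by rw [Fin.rev_rev]; exact h.not_gt), map_zero, mul_zero]
      · rw [hv i h, zero_mul]
    exact eigen_of_commute hv0 hδ0 (adm_zero C hvv hδ)
      (hc _ (ee_mem_sr _ hv fun _ _ => rfl))
  have hsup : ∀ i : Fin n, i < i.rev → ∀ j : Fin n, ¬ j < j.rev → (bv i : V) j = 0 :=
    fun i hi j hj => bv_ne fun e => hj (e ▸ hi)
  have hne : ∀ i, (bv i : V) ≠ 0 := fun i h => by simpa using congrFun h i
  obtain ⟨μ, hμ, hXz⟩ := heig (bv z) (hne z) (hsup z hzr)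
  have hμ0 : μ ≠ 0 := left_ne_zero_of_mul_eq_one hμ
  have hlow : ∀ i : Fin n, i < i.rev → X.1.1 *ᵥ bv i = μ • (bv i : V) := by
    intro i hi
    rcases eq_or_ne i z with rfl | hiz
    · exact hXz
    obtain ⟨a, -, ha⟩ := heig (bv i) (hne i) (hsup i hi)
    obtain ⟨d, -, hd⟩ := heig (bv i + bv z) (fun h => by simpa [hiz] using congrFun h i)
      (fun j hj => by rw [Pi.add_apply, hsup i hi j hj, hsup z hzr j hj, add_zero])
    rw [Matrix.mulVec_add, ha, hXz] at hd
    have e1 := congrFun hd i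
    have e2 := congrFun hd z
    simp [hiz, hiz.symm] at e1 e2
    rw [ha, e1, ← e2]
  have hlo : ∀ a b : Fin n, b < b.rev → X.1.1 a b = if a = b then μ else 0 := fun a b hb => by
    have h1 := congrFun (hlow b hb) a
    rw [Matrix.mulVec_single_one] at h1
    rw [show X.1.1 a b = _ from h1]
    simp [Pi.single_apply]
  have hhi : ∀ a b : Fin n, a.rev < a → X.1.1 a b = if a = b then μ else 0 := fun a b ha => by
    have h1 := hf_sj X (bv b) (bv a.rev)
    rw [hlow a.rev (by rwa [Fin.rev_rev]), hf_smul_right, hf_bv] at h1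
    rw [apply_eq_hf]
    by_cases e : a = b
    · subst e
      rw [if_pos rfl] at h1 ⊢
      linear_combination μ * h1 - hf C (X.1.1 *ᵥ bv a) (bv a.rev) * hμ
    · rw [if_neg e]
      rw [if_neg (fun e' => e (Fin.rev_injective e'))] at h1
      exact (mul_eq_zero.1 h1).resolve_left (by simpa using hμ0)
  obtain ⟨Y, hY⟩ := exists_scaled (X := X) (by omega) hμ (fun a b hab => by
    rcases lt_or_ge b b.rev with h | h
    · rw [hlo a b h, if_neg hab.ne']
    · rw [hhi a b (lt_of_lt_of_le (Fin.rev_lt_rev.2 hab) (h.trans hab.le)), if_neg hab.ne']) (fun a => by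
    rcases lt_trichotomy a a.rev with h | h | h
    · rw [hlo a a h, if_pos rfl]
    · have haz : a ≠ z := fun e => by
        have := congrArg Fin.val h; have := congrArg Fin.val e
        simp [Fin.val_rev] at *; omega
      obtain ⟨t, ht⟩ := C.exists_trace (c := -hf C (bv a) (bv a : V)) (by rw [map_neg, bar_hf])
      have hadm : Adm C (bv z) (bv a) t :=
        ⟨by rw [hf_bv, if_neg hzr.ne], by rw [hf_bv, if_neg]; exact fun e => haz (by rw [h, ← e]),
          by rw [ht]; ring⟩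
      obtain ⟨c, hc'⟩ := perp_of_commute (hne z) hμ hXz hadm (hc _ (ee_mem_sr _ (hsup z hzr) fun j hj =>
        bv_ne fun e => by rw [e, ← h] at hj; exact lt_irrefl _ hj))
      have h1 := congrFun hc' a
      rw [Matrix.mulVec_single_one] at h1
      rw [show X.1.1 a a = _ from h1]
      simp [haz]
    · rw [hhi a a h, if_pos rfl])
  refine ⟨Y, fun i hi => ?_, μ, by rw [hY, smul_smul, mul_inv_cancel₀ hμ0, one_smul]⟩
  rw [hY, Matrix.smul_mulVec, hlow i hi, inv_smul_smul₀ hμ0]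

/-! ### The Sylow subgroup -/

theorem upper_mul_diag {X Y : MM} (hX : ∀ a b : Fin n, b < a → X a b = 0)
    (hY : ∀ a b : Fin n, b < a → Y a b = 0) :
    (∀ a b : Fin n, b < a → (X * Y) a b = 0) ∧ ∀ a, (X * Y) a a = X a a * Y a a := by
  refine ⟨fun a b h => ?_, fun a => ?_⟩
  · rw [Matrix.mul_apply]
    refine Finset.sum_eq_zero fun c _ => ?_
    by_cases hc : c < a
    · rw [hX a c hc, zero_mul]
    · rw [hY c b (lt_of_lt_of_le h (not_lt.1 hc)), mul_zero]
  · rw [Matrix.mul_apply, Finset.sum_eq_single a]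
    · intro c _ hca
      rcases lt_or_gt_of_ne hca with h | h
      · rw [hX a c h, zero_mul]
      · rw [hY c a h, mul_zero]
    · simp

theorem upper_pow {g : ↥(SJ C n)} (hg : ∀ a b : Fin n, b < a → g.1.1 a b = 0) :
    ∀ k : ℕ, (∀ a b : Fin n, b < a → (g ^ k).1.1 a b = 0) ∧ ∀ a, (g ^ k).1.1 a a = g.1.1 a a ^ k := by
  intro k
  induction k with
  | zero =>
    refine ⟨fun a b h => ?_, fun a => ?_⟩
    · rw [pow_zero]; exact Matrix.one_apply_ne h.ne'
    · rw [pow_zero, pow_zero]; exact Matrix.one_apply_eq a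
  | succ k ih =>
    rw [pow_succ]
    exact ⟨(upper_mul_diag ih.1 hg).1, fun a => by
      rw [show (g ^ k * g).1.1 a a = ((g ^ k).1.1 * g.1.1) a a from rfl, (upper_mul_diag ih.1 hg).2,
        ih.2, pow_succ]⟩

theorem exists_trace_hf (v : V) : ∃ t : F, t + C.bar t + hf C v v = 0 := by
  obtain ⟨t, ht⟩ := C.exists_trace (c := -hf C v v) (by rw [map_neg, bar_hf])
  exact ⟨t, by rw [ht]; ring⟩

theorem exists_step {a : Fin n} (ha : 1 ≤ a.val) :
    ∃ u ∈ uu C n, ∃ b : Fin n, b.val + 1 = a.val ∧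
      ∀ x : V, x a ≠ 0 → (∀ i, a < i → x i = 0) → (u.1.1 *ᵥ x) b ≠ x b := by
  obtain ⟨b, hb⟩ : ∃ b : Fin n, b.val + 1 = a.val := ⟨⟨a.val - 1, by omega⟩, by simp; omega⟩
  have han := a.2
  have hba : b ≠ a := fun e => by rw [e] at hb; omega
  obtain ⟨δ, hδ0, hδ⟩ := C.exists_trace_zero
  rcases lt_trichotomy b.rev a with h1 | h1 | h1
  · -- above the middle
    have hk : a.rev < a.rev.rev := by
      rw [Fin.rev_rev]; rw [Fin.lt_def, Fin.val_rev] at *; omega
    have hv : ∀ i : Fin n, i ≤ a.rev ∨ a.rev.rev ≤ i → (bv b : V) i = 0 := fun i hi => bv_ne fun e => by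
      subst e; rw [Fin.rev_rev, Fin.le_def, Fin.le_def, Fin.val_rev] at hi
      rw [Fin.lt_def, Fin.val_rev] at h1; omega
    obtain ⟨t, ht⟩ := exists_trace_hf (C := C) (bv b)
    have hadm : Adm C (bv a.rev) (bv b) t := adm_bv hk.ne (hv _ (Or.inr le_rfl)) ht
    refine ⟨ee hadm, ee_bv_mem_uu hadm hk hv, b, hb, fun x hx hx' h => ?_⟩
    rw [ee_mulVec, hf_bv_right, Fin.rev_rev] at h
    have hbr : b ≠ a.rev := fun e => by
      rw [Fin.lt_def, Fin.val_rev] at h1; have := congrArg Fin.val e; rw [Fin.val_rev] at this; omega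
    simp [bv_ne hbr] at h
    exact hx h
  · have hk : b < b.rev := by rw [h1, Fin.lt_def]; omega
    have hadm : Adm C (bv b) 0 δ := adm_zero C (by rw [hf_bv, if_neg hk.ne]) hδ
    refine ⟨ee hadm, ee_bv_mem_uu hadm hk (fun i _ => rfl), b, hb, fun x hx hx' h => ?_⟩
    rw [ee_mulVec, hf_bv_right, hf_zero_right, h1] at h
    simp [hδ0] at h
    exact hx h
  · have hk : b < b.rev := by rw [Fin.lt_def, Fin.val_rev] at *; omega
    have hv : ∀ i : Fin n, i ≤ b ∨ b.rev ≤ i → (bv a.rev : V) i = 0 := fun i hi => bv_ne fun e => by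
      subst e; rw [Fin.le_def, Fin.le_def, Fin.val_rev, Fin.val_rev] at hi
      rw [Fin.lt_def, Fin.val_rev] at h1; omega
    obtain ⟨t, ht⟩ := exists_trace_hf (C := C) (bv a.rev)
    have hadm : Adm C (bv b) (bv a.rev) t := adm_bv hk.ne (hv _ (Or.inr le_rfl)) ht
    refine ⟨ee hadm, ee_bv_mem_uu hadm hk hv, b, hb, fun x hx hx' h => ?_⟩
    rw [ee_mulVec, hf_bv_right, hf_bv_right, Fin.rev_rev, hx' b.rev h1] at h
    have hbr : b ≠ a.rev := fun e => by rw [e, Fin.rev_rev] at h1; exact lt_irrefl _ h1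
    simp at h
    exact hx h

theorem upper_of_normalizes {g : ↥(SJ C n)}
    (hgi : ∀ u ∈ uu C n, g⁻¹ * u * g ∈ uu C n) : ∀ a b : Fin n, b < a → g.1.1 a b = 0 := by
  have key : ∀ k (v : V), (∀ a : Fin n, k ≤ a.val → v a = 0) →
      ∀ a : Fin n, k ≤ a.val → (g.1.1 *ᵥ v) a = 0 := by
    intro k
    induction k with
    | zero =>
      intro v hv a _
      rw [show v = 0 from funext fun b => hv b (Nat.zero_le _), Matrix.mulVec_zero]
      rfl
    | succ k ih =>
      intro v hv a ha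
      have hfix : ∀ u ∈ uu C n, ∀ b : Fin n, k ≤ b.val →
          (u.1.1 *ᵥ (g.1.1 *ᵥ v)) b = (g.1.1 *ᵥ v) b := by
        intro u hu b hb
        have h1 : u.1.1 *ᵥ (g.1.1 *ᵥ v) = g.1.1 *ᵥ ((g⁻¹ * u * g).1.1 *ᵥ v) := by
          rw [← sj_mul_mulVec, ← sj_mul_mulVec, show u * g = g * (g⁻¹ * u * g) by group]
        obtain ⟨hw1, hw2⟩ := mem_uu.1 (hgi u hu)
        have h2 := ih ((g⁻¹ * u * g).1.1 *ᵥ v - v) (fun c hc => by
          rw [Pi.sub_apply, sub_eq_zero]
          show ∑ d, (g⁻¹ * u * g).1.1 c d * v d = v c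
          rw [Finset.sum_eq_single c]
          · rw [hw2, one_mul]
          · intro d _ hdc
            rcases lt_or_gt_of_ne hdc with h | h
            · rw [hw1 c d h, zero_mul]
            · rw [hv d (by rw [Fin.lt_def] at h; omega), mul_zero]
          · simp) b hb
        rw [Matrix.mulVec_sub, ← h1, Pi.sub_apply, sub_eq_zero] at h2
        exact h2
      by_contra hne
      classical
      set s := Finset.univ.filter fun i : Fin n => (g.1.1 *ᵥ v) i ≠ 0
      have hs : s.Nonempty := ⟨a, Finset.mem_filter.2 ⟨Finset.mem_univ a, hne⟩⟩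
      set a' := s.max' hs
      have ha' : (g.1.1 *ᵥ v) a' ≠ 0 := (Finset.mem_filter.1 (s.max'_mem hs)).2
      have hle : a ≤ a' := s.le_max' a (Finset.mem_filter.2 ⟨Finset.mem_univ a, hne⟩)
      rw [Fin.le_def] at hle
      obtain ⟨u, hu, b, hb, hmove⟩ := exists_step (C := C) (a := a') (by omega)
      refine hmove _ ha' (fun i hi => by_contra fun h => ?_) (hfix u hu b (by omega))
      exact hi.not_ge (s.le_max' i (Finset.mem_filter.2 ⟨Finset.mem_univ i, h⟩))
  intro a b hab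
  have h1 := key (b.val + 1) (bv b) (fun c hc => bv_ne fun e => by rw [e] at hc; omega) a
    (by rw [Fin.lt_def] at hab; omega)
  rwa [Matrix.mulVec_single_one] at h1

theorem upper_of_pr_normalizer (p : ℕ) [Fact p.Prime] [CharP F p] [NeZero n] {G : Type*} [Group G]
    (π : ↥(SJ C n) →* G) (hπ : ∀ A B, π A = π B ↔ ∃ c : F, B.1.1 = c • A.1.1) {g : ↥(SJ C n)}
    (hg : π g ∈ Subgroup.normalizer (((uu C n).map π : Subgroup G) : Set G)) :
    ∀ a b : Fin n, b < a → g.1.1 a b = 0 := by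
  refine upper_of_normalizes fun u hu => ?_
  have h0 : π g⁻¹ * π u * (π g⁻¹)⁻¹ ∈ (uu C n).map π := by
    have hg' := inv_mem hg
    rw [← map_inv] at hg'
    exact (Subgroup.mem_normalizer_iff.1 hg' (π u)).1 ⟨u, hu, rfl⟩
  obtain ⟨w, hw, he⟩ := h0
  rw [← map_inv π g⁻¹, ← map_mul, ← map_mul] at he
  obtain ⟨c, hc⟩ := (hπ _ _).1 he
  have h1 := eq_of_scalar p hu hw hc
  rw [inv_inv] at h1
  rwa [h1]

theorem exists_sylow_uu (p : ℕ) [Fact p.Prime] [CharP F p] [NeZero n] {G : Type*} [Group G] [Finite G]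
    (π : ↥(SJ C n) →* G) (hπs : Function.Surjective π)
    (hπ : ∀ A B, π A = π B ↔ ∃ c : F, B.1.1 = c • A.1.1) :
    ∃ P : Sylow p G, (P : Subgroup G) = (uu C n).map π := by
  have hpU : IsPGroup p (uu C n) := fun u =>
    ⟨n, Subtype.ext (Subtype.ext (CfsgLib.AutPSL.unitri_pow_eq_one (p := p) u.2))⟩
  obtain ⟨P, hP⟩ := (hpU.map π).exists_le_sylow
  refine ⟨P, by_contra fun hne => ?_⟩
  haveI : Group.IsNilpotent (P : Subgroup G) := P.2.isNilpotent
  have hlt := CfsgLib.Fusion.lt_inf_normalizer hP (Ne.symm hne)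
  obtain ⟨x, hx, hxU⟩ := SetLike.exists_of_lt hlt
  obtain ⟨g, rfl⟩ := hπs x
  obtain ⟨hxP, hxN⟩ := hx
  have hup := upper_of_pr_normalizer p π hπ hxN
  obtain ⟨k, hk⟩ := P.2 ⟨_, hxP⟩
  have hk' : π 1 = π (g ^ p ^ k) := by
    rw [map_pow, map_one]; exact (congrArg Subtype.val hk).symm
  obtain ⟨c, hc⟩ := (hπ _ _).1 hk'
  have hdiag : ∀ a, g.1.1 a a = g.1.1 0 0 := by
    intro a
    have h1 : ∀ b, g.1.1 b b ^ p ^ k = c := fun b => by
      rw [← (upper_pow hup (p ^ k)).2 b, hc]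
      show (c • (1 : MM)) b b = c
      simp
    refine iterateFrobenius_inj F p k ?_
    rw [iterateFrobenius_def, iterateFrobenius_def, h1, h1]
  have hμ : g.1.1 0 0 * C.bar (g.1.1 0 0) = 1 := by
    have h1 := hf_sj g (bv (0 : Fin n)) (bv (0 : Fin n).rev)
    rw [hf_bv, if_pos rfl, hf, Finset.sum_eq_single 0] at h1
    · simp only [Matrix.mulVec_single_one, Matrix.col_apply] at h1
      rwa [hdiag (Fin.rev 0)] at h1
    · intro i _ hi
      simp only [Matrix.mulVec_single_one, Matrix.col_apply]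
      rw [hup i 0 (Fin.pos_iff_ne_zero.2 hi), zero_mul]
    · simp
  obtain ⟨Y, hY⟩ := exists_scaled (Nat.pos_of_ne_zero (NeZero.ne n)) hμ hup hdiag
  refine hxU ⟨Y, mem_uu.2 ⟨fun a b h => ?_, fun a => ?_⟩, (hπ _ _).2 ⟨g.1.1 0 0, ?_⟩⟩
  · rw [hY, Matrix.smul_apply, hup a b h, smul_zero]
  · rw [hY, Matrix.smul_apply, hdiag a, smul_eq_mul, inv_mul_cancel₀ (left_ne_zero_of_mul_eq_one hμ)]
  · rw [hY, smul_smul, mul_inv_cancel₀ (left_ne_zero_of_mul_eq_one hμ), one_smul]

end CfsgLib.FusionCharP.Unitary
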