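import Cfsg.Agent.Lib.SU.Basic
import Cfsg.Agent.Lib.AutPSL.Sylow

/-!
# The special unitary group in an anti-diagonal basis
-/

set_option autoImplicit false
set_option linter.unusedSectionVars false
set_option linter.style.haveILetI false

open Matrix

namespace CfsgLib.FusionCharP.Unitary

open CfsgLib.SU (UCtx)
open CfsgLib.AutPSL (unitri mem_unitri)

attribute [-simp] Matrix.mulVec_single_one Matrix.mulVec_single

variable {F : Type*} [Field F] {q n : ℕ}

/-- A basis vector. -/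
abbrev bv (i : Fin n) : Fin n → F := Pi.single i 1

theorem bv_same (i : Fin n) : (bv i : Fin n → F) i = 1 := Pi.single_eq_same i 1

theorem bv_ne {a i : Fin n} (h : a ≠ i) : (bv i : Fin n → F) a = 0 := Pi.single_eq_of_ne h 1

/-- The anti-diagonal form. -/
def hf (C : UCtx F q) (u v : Fin n → F) : F := ∑ i, u i * C.bar (v i.rev)

variable (C : UCtx F q)

local notation "V" => (Fin n → F)
local notation "MM" => Matrix (Fin n) (Fin n) F

theorem hf_add_left (u u' v : V) : hf C (u + u') v = hf C u v + hf C u' v := by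
  simp [hf, add_mul, Finset.sum_add_distrib]

theorem hf_smul_left (a : F) (u v : V) : hf C (a • u) v = a * hf C u v := by
  simp [hf, Finset.mul_sum, mul_assoc]

theorem hf_add_right (u v v' : V) : hf C u (v + v') = hf C u v + hf C u v' := by
  simp [hf, map_add, mul_add, Finset.sum_add_distrib]

theorem hf_smul_right (a : F) (u v : V) : hf C u (a • v) = C.bar a * hf C u v := by
  simp [hf, map_mul, Finset.mul_sum, mul_left_comm]

theorem hf_zero_left (v : V) : hf C 0 v = 0 := by simp [hf]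

theorem hf_zero_right (v : V) : hf C v 0 = 0 := by simp [hf]

theorem hf_neg_left (u v : V) : hf C (-u) v = -hf C u v := by simp [hf]

theorem hf_neg_right (u v : V) : hf C u (-v) = -hf C u v := by simp [hf]

theorem bar_hf (u v : V) : C.bar (hf C u v) = hf C v u := by
  simp only [hf, map_sum, map_mul, C.bar_bar]
  refine Fintype.sum_equiv Fin.revPerm _ _ fun i => ?_
  rw [Fin.revPerm_apply, Fin.rev_rev, mul_comm]

theorem hf_swap {u v : V} (h : hf C u v = 0) : hf C v u = 0 := by rw [← bar_hf, h, map_zero]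

theorem hf_bv_right (u : V) (j : Fin n) : hf C u (bv j) = u j.rev := by
  rw [hf, Finset.sum_eq_single j.rev]
  · simp
  · intro i _ hi
    rw [bv_ne (fun e => hi (by rw [← e, Fin.rev_rev])), map_zero, mul_zero]
  · simp

theorem hf_bv_left (v : V) (i : Fin n) : hf C (bv i) v = C.bar (v i.rev) := by
  rw [← bar_hf, hf_bv_right]

theorem hf_bv (i j : Fin n) : hf C (bv i) (bv j : V) = if j = i.rev then 1 else 0 := by
  rw [hf_bv_right]
  by_cases h : j = i.rev
  · subst h; simp
  · rw [if_neg h, bv_ne]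
    exact fun e => h (by rw [← e, Fin.rev_rev])

theorem eq_zero_of_hf {u : V} (h : ∀ v, hf C u v = 0) : u = 0 := funext fun i => by
  simpa [hf_bv_right] using h (bv i.rev)

theorem exists_hf_eq_one {u : V} (hu : u ≠ 0) : ∃ v, hf C v u = 1 := by
  obtain ⟨i, hi⟩ := Function.ne_iff.1 hu
  refine ⟨(C.bar (u i))⁻¹ • bv i.rev, ?_⟩
  rw [hf_smul_left, hf_bv_left, Fin.rev_rev, inv_mul_cancel₀]
  simpa using hi

/-- The group. -/
def SJ (n : ℕ) : Subgroup (Matrix.SpecialLinearGroup (Fin n) F) where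
  carrier := {A | ∀ u v, hf C (A.1 *ᵥ u) (A.1 *ᵥ v) = hf C u v}
  mul_mem' {A B} hA hB u v := by
    rw [Matrix.SpecialLinearGroup.coe_mul, ← Matrix.mulVec_mulVec, ← Matrix.mulVec_mulVec, hA, hB]
  one_mem' u v := by rw [Matrix.SpecialLinearGroup.coe_one, Matrix.one_mulVec, Matrix.one_mulVec]
  inv_mem' {A} hA u v := by
    have h : ∀ x, A.1 *ᵥ ((A⁻¹).1 *ᵥ x) = x := fun x => by
      rw [Matrix.mulVec_mulVec, ← Matrix.SpecialLinearGroup.coe_mul, mul_inv_cancel,
        Matrix.SpecialLinearGroup.coe_one, Matrix.one_mulVec]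
    rw [← hA, h, h]

variable {C}

theorem hf_sj (A : ↥(SJ C n)) (u v : V) : hf C (A.1.1 *ᵥ u) (A.1.1 *ᵥ v) = hf C u v := A.2 u v

theorem sj_mul_mulVec (A B : ↥(SJ C n)) (x : V) : (A * B).1.1 *ᵥ x = A.1.1 *ᵥ (B.1.1 *ᵥ x) := by
  rw [Matrix.mulVec_mulVec]; rfl

theorem sj_one_mulVec (x : V) : (1 : ↥(SJ C n)).1.1 *ᵥ x = x := Matrix.one_mulVec x

theorem sj_inv_mulVec (A : ↥(SJ C n)) (x : V) : (A⁻¹).1.1 *ᵥ (A.1.1 *ᵥ x) = x := by
  rw [← sj_mul_mulVec, inv_mul_cancel, sj_one_mulVec]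

theorem sj_mulVec_inv (A : ↥(SJ C n)) (x : V) : A.1.1 *ᵥ ((A⁻¹).1.1 *ᵥ x) = x := by
  rw [← sj_mul_mulVec, mul_inv_cancel, sj_one_mulVec]

theorem sj_mulVec_ne_zero (A : ↥(SJ C n)) {x : V} (hx : x ≠ 0) : A.1.1 *ᵥ x ≠ 0 :=
  fun h => hx (by rw [← sj_inv_mulVec A x, h, Matrix.mulVec_zero])

theorem sj_ext {A B : ↥(SJ C n)} (h : ∀ x, A.1.1 *ᵥ x = B.1.1 *ᵥ x) : A = B :=
  Subtype.ext (Subtype.ext (Matrix.ext_iff_mulVec.2 h))

theorem sj_ext_basis {A B : ↥(SJ C n)} (h : ∀ i, A.1.1 *ᵥ bv i = B.1.1 *ᵥ (bv i : V)) : A = B :=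
  Subtype.ext (Subtype.ext (Matrix.ext_of_mulVec_single h))

variable (C)

/-- The map `x ↦ x + c f(x,y) v`. -/
def rmap (v y : V) (c : F) : MM := 1 + Matrix.vecMulVec (c • v) (fun j => C.bar (y j.rev))

theorem rmap_mulVec (v y : V) (c : F) (x : V) : rmap C v y c *ᵥ x = x + (c * hf C x y) • v := by
  rw [rmap, Matrix.add_mulVec, Matrix.one_mulVec, Matrix.vecMulVec_mulVec, op_smul_eq_smul, smul_smul,
    show (fun j => C.bar (y j.rev)) ⬝ᵥ x = hf C x y by simp [dotProduct, hf, mul_comm], mul_comm]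

theorem det_rmap (v y : V) (c : F) : (rmap C v y c).det = 1 + c * hf C v y := by
  rw [rmap, Matrix.vecMulVec_eq (ι := Unit), Matrix.det_one_add_replicateCol_mul_replicateRow]
  simp [dotProduct, hf, Finset.mul_sum, mul_comm, mul_left_comm, mul_assoc]

/-- Admissible parameters of a root element. -/
def Adm (e v : V) (t : F) : Prop := hf C e e = 0 ∧ hf C v e = 0 ∧ t + C.bar t + hf C v v = 0

theorem adm_zero {e : V} (he : hf C e e = 0) {t : F} (ht : t + C.bar t = 0) : Adm C e 0 t :=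
  ⟨he, hf_zero_left C e, by rw [hf_zero_left, add_zero, ht]⟩

theorem adm_iso {e v : V} (he : hf C e e = 0) (hev : hf C v e = 0) (hv : hf C v v = 0) : Adm C e v 0 :=
  ⟨he, hev, by rw [hv, map_zero, add_zero, add_zero]⟩

variable {C}

/-- The root element `x ↦ x + f(x,e) v + (t f(x,e) − f(x,v)) e`. -/
def ee {e v : V} {t : F} (h : Adm C e v t) : ↥(SJ C n) :=
  ⟨⟨rmap C (v + t • e) e 1 * rmap C e v (-1), by
    rw [Matrix.det_mul, det_rmap, det_rmap, hf_add_left, hf_smul_left, h.1, h.2.1, hf_swap C h.2.1]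
    simp⟩, fun x y => by
    show hf C ((rmap C (v + t • e) e 1 * rmap C e v (-1)) *ᵥ x)
      ((rmap C (v + t • e) e 1 * rmap C e v (-1)) *ᵥ y) = _
    simp only [← Matrix.mulVec_mulVec, rmap_mulVec, one_mul, hf_add_left, hf_add_right, hf_smul_left,
      hf_smul_right, h.1, h.2.1, hf_swap C h.2.1, map_mul, map_neg, map_one, map_add, map_zero, bar_hf]
    linear_combination (hf C x e * hf C e y) * h.2.2⟩

theorem ee_mulVec {e v : V} {t : F} (h : Adm C e v t) (x : V) :
    (ee h).1.1 *ᵥ x = x + hf C x e • v + (t * hf C x e - hf C x v) • e := by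
  show (rmap C (v + t • e) e 1 * rmap C e v (-1)) *ᵥ x = _
  rw [← Matrix.mulVec_mulVec, rmap_mulVec, rmap_mulVec]
  simp only [hf_add_left, hf_smul_left, h.1, one_mul]
  module

theorem ee_congr {e e' v v' : V} {t t' : F} (h : Adm C e v t) (h' : Adm C e' v' t') (he : e = e')
    (hv : v = v') (ht : t = t') : ee h = ee h' := by
  subst he hv ht; rfl

theorem ee_fix {e v : V} {t : F} (h : Adm C e v t) {x : V} (h1 : hf C x e = 0) (h2 : hf C x v = 0) :
    (ee h).1.1 *ᵥ x = x := by
  rw [ee_mulVec, h1, h2]; simp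

theorem ee_self {e v : V} {t : F} (h : Adm C e v t) : (ee h).1.1 *ᵥ e = e :=
  ee_fix h h.1 (hf_swap C h.2.1)

theorem adm_mul {e v v' : V} {t t' : F} (h : Adm C e v t) (h' : Adm C e v' t') :
    Adm C e (v + v') (t + t' - hf C v' v) := by
  refine ⟨h.1, by rw [hf_add_left, h.2.1, h'.2.1, add_zero], ?_⟩
  simp only [map_sub, map_add, bar_hf, hf_add_left, hf_add_right]
  linear_combination h.2.2 + h'.2.2

theorem ee_mul {e v v' : V} {t t' : F} (h : Adm C e v t) (h' : Adm C e v' t') :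
    ee h * ee h' = ee (adm_mul h h') := by
  refine sj_ext fun x => ?_
  simp only [sj_mul_mulVec, ee_mulVec, hf_add_left, hf_add_right, hf_smul_left, h.1, h'.2.1,
    hf_swap C h.2.1, mul_zero, add_zero]
  module

theorem ee_zero {e : V} (h : Adm C e 0 0) : ee h = 1 := sj_ext fun x => by
  rw [ee_mulVec, sj_one_mulVec, hf_zero_right]; simp

theorem adm_neg {e v : V} {t : F} (h : Adm C e v t) : Adm C e (-v) (C.bar t) := by
  refine ⟨h.1, by rw [hf_neg_left, h.2.1, neg_zero], ?_⟩
  rw [C.bar_bar, hf_neg_left, hf_neg_right]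
  linear_combination h.2.2

theorem ee_inv {e v : V} {t : F} (h : Adm C e v t) : (ee h)⁻¹ = ee (adm_neg h) := by
  refine inv_eq_of_mul_eq_one_right ?_
  rw [ee_mul]
  refine (ee_congr _ (adm_zero C h.1 (t := 0) (by simp)) rfl (add_neg_cancel v) ?_).trans (ee_zero _)
  rw [hf_neg_left]
  linear_combination h.2.2

theorem adm_map {e v : V} {t : F} (h : Adm C e v t) (g : ↥(SJ C n)) :
    Adm C (g.1.1 *ᵥ e) (g.1.1 *ᵥ v) t :=
  ⟨by rw [hf_sj, h.1], by rw [hf_sj, h.2.1], by rw [hf_sj]; exact h.2.2⟩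

theorem ee_conj (g : ↥(SJ C n)) {e v : V} {t : F} (h : Adm C e v t) :
    g * ee h * g⁻¹ = ee (adm_map h g) := by
  refine sj_ext fun x => ?_
  rw [sj_mul_mulVec, sj_mul_mulVec, ee_mulVec, ee_mulVec, Matrix.mulVec_add, Matrix.mulVec_add,
    Matrix.mulVec_smul, Matrix.mulVec_smul, sj_mulVec_inv]
  have h1 : ∀ y, hf C x (g.1.1 *ᵥ y) = hf C ((g⁻¹).1.1 *ᵥ x) y := fun y => by
    conv_lhs => rw [← sj_mulVec_inv g x, hf_sj]
  rw [h1, h1]

theorem ee_smul {e v : V} {t a : F} (h : Adm C (a • e) v t)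
    (h' : Adm C e (C.bar a • v) (a * C.bar a * t)) : ee h = ee h' := by
  refine sj_ext fun x => ?_
  rw [ee_mulVec, ee_mulVec, hf_smul_right, hf_smul_right, C.bar_bar]
  module

/-! ### Diagonal and permutation elements -/

/-- `A` is diagonal with entries `d`. -/
def IsDg (A : ↥(SJ C n)) (d : Fin n → F) : Prop := ∀ i, A.1.1 *ᵥ bv i = d i • (bv i : V)

theorem IsDg.mul {A B : ↥(SJ C n)} {d d' : Fin n → F} (hA : IsDg A d) (hB : IsDg B d') :
    IsDg (A * B) (fun i => d' i * d i) := fun i => by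
  rw [sj_mul_mulVec, hB, Matrix.mulVec_smul, hA, smul_smul]

theorem isDg_one : IsDg (1 : ↥(SJ C n)) (fun _ => 1) := fun i => by rw [sj_one_mulVec, one_smul]

theorem IsDg.apply {A : ↥(SJ C n)} {d : Fin n → F} (hA : IsDg A d) (a b : Fin n) :
    A.1.1 a b = if a = b then d b else 0 := by
  have h := congrFun (hA b) a
  rw [Matrix.mulVec_single_one] at h
  rw [show A.1.1 a b = (d b • bv b : V) a from h]
  simp [Pi.single_apply]

theorem IsDg.dual {A : ↥(SJ C n)} {d : Fin n → F} (hA : IsDg A d) (i : Fin n) :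
    d i * C.bar (d i.rev) = 1 := by
  have h := hf_sj A (bv i) (bv i.rev)
  rw [hA, hA, hf_smul_left, hf_smul_right, hf_bv, if_pos rfl, mul_one] at h
  exact h

theorem IsDg.prod {A : ↥(SJ C n)} {d : Fin n → F} (hA : IsDg A d) : ∏ i, d i = 1 := by
  have h1 : A.1.1 = Matrix.diagonal d := by
    ext a b
    rw [hA.apply, Matrix.diagonal_apply]
    split_ifs with h
    · rw [h]
    · rfl
  have h2 := A.1.2
  rwa [h1, Matrix.det_diagonal] at h2

theorem exists_dg (d : Fin n → F) (h1 : ∀ i, d i * C.bar (d i.rev) = 1) (h2 : ∏ i, d i = 1) :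
    ∃ A : ↥(SJ C n), IsDg A d := by
  refine ⟨⟨⟨Matrix.diagonal d, by rw [Matrix.det_diagonal, h2]⟩, fun u v => ?_⟩, fun i => ?_⟩
  · show hf C (Matrix.diagonal d *ᵥ u) (Matrix.diagonal d *ᵥ v) = _
    simp only [hf, Matrix.mulVec_diagonal, map_mul]
    refine Finset.sum_congr rfl fun i _ => ?_
    linear_combination (u i * C.bar (v i.rev)) * h1 i
  · funext a
    show (Matrix.diagonal d *ᵥ bv i) a = _
    rw [Matrix.mulVec_diagonal]
    by_cases h : a = i <;> simp [h]

/-- The double transposition exchanging two pairs. -/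
theorem exists_swap {i j : Fin n} (hij : i ≠ j) (hi : i ≠ i.rev) (hj : j ≠ j.rev) (hir : i ≠ j.rev) :
    ∃ A : ↥(SJ C n), ∀ l, A.1.1 *ᵥ bv l =
      (bv (Equiv.swap i j (Equiv.swap i.rev j.rev l)) : V) := by
  classical
  set σ : Equiv.Perm (Fin n) := Equiv.swap i j * Equiv.swap i.rev j.rev with hσ
  have hji : j ≠ i.rev := fun e => hir (by rw [e, Fin.rev_rev])
  have hrev : ∀ l, σ l.rev = (σ l).rev := by
    intro l
    rw [hσ, Equiv.Perm.mul_apply, Equiv.Perm.mul_apply]
    rcases eq_or_ne l i with rfl | h1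
    · rw [Equiv.swap_apply_left, Equiv.swap_apply_of_ne_of_ne hir.symm hj.symm,
        Equiv.swap_apply_of_ne_of_ne hi hir, Equiv.swap_apply_left]
    rcases eq_or_ne l j with rfl | h2
    · rw [Equiv.swap_apply_right, Equiv.swap_apply_of_ne_of_ne hi.symm hji.symm,
        Equiv.swap_apply_of_ne_of_ne hji hj, Equiv.swap_apply_right]
    rcases eq_or_ne l i.rev with rfl | h3
    · rw [Fin.rev_rev, Equiv.swap_apply_of_ne_of_ne hi hir, Equiv.swap_apply_left,
        Equiv.swap_apply_left, Equiv.swap_apply_of_ne_of_ne hir.symm hj.symm, Fin.rev_rev]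
    rcases eq_or_ne l j.rev with rfl | h4
    · rw [Fin.rev_rev, Equiv.swap_apply_of_ne_of_ne hji hj, Equiv.swap_apply_right,
        Equiv.swap_apply_right, Equiv.swap_apply_of_ne_of_ne hi.symm hji.symm, Fin.rev_rev]
    have e1 : l.rev ≠ i.rev := fun e => h1 (Fin.rev_injective e)
    have e2 : l.rev ≠ j.rev := fun e => h2 (Fin.rev_injective e)
    have e3 : l.rev ≠ i := fun e => h3 (by rw [← e, Fin.rev_rev])
    have e4 : l.rev ≠ j := fun e => h4 (by rw [← e, Fin.rev_rev])
    rw [Equiv.swap_apply_of_ne_of_ne e1 e2, Equiv.swap_apply_of_ne_of_ne e3 e4,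
      Equiv.swap_apply_of_ne_of_ne h3 h4, Equiv.swap_apply_of_ne_of_ne h1 h2]
  set M : MM := Matrix.of fun a b => if σ b = a then 1 else 0 with hM
  have hMv : ∀ x : V, M *ᵥ x = fun a => x (σ.symm a) := by
    intro x; funext a
    simp only [hM, Matrix.mulVec, dotProduct, Matrix.of_apply, ite_mul, one_mul, zero_mul]
    simp [← Equiv.eq_symm_apply]
  have hdet : M.det = 1 := by
    have he : M = (1 : MM).submatrix (σ⁻¹ : Equiv.Perm (Fin n)) id := by
      ext a b
      rw [hM, Matrix.of_apply, Matrix.submatrix_apply, id, Matrix.one_apply, Equiv.Perm.inv_def]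
      by_cases h : σ b = a
      · rw [if_pos h, if_pos (by rw [← h, Equiv.symm_apply_apply])]
      · rw [if_neg h, if_neg (fun h' => h (by rw [← h', Equiv.apply_symm_apply]))]
    rw [he, Matrix.det_permute, Matrix.det_one, Equiv.Perm.sign_inv, hσ, map_mul, Equiv.Perm.sign_swap hij,
      Equiv.Perm.sign_swap (fun e => hij (Fin.rev_injective e))]
    simp
  have hsymm : ∀ a, σ.symm a.rev = (σ.symm a).rev := fun a => by
    rw [Equiv.symm_apply_eq, hrev, Equiv.apply_symm_apply]
  refine ⟨⟨⟨M, hdet⟩, fun u v => ?_⟩, fun l => ?_⟩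
  · show hf C (M *ᵥ u) (M *ᵥ v) = _
    rw [hMv, hMv, hf, hf]
    refine Fintype.sum_equiv σ.symm _ _ fun a => ?_
    rw [hsymm]
  · show M *ᵥ bv l = _
    rw [hMv]
    funext a
    simp only [Pi.single_apply, Equiv.symm_apply_eq]
    rfl

/-! ### Triangular elements -/

theorem apply_eq_hf (A : ↥(SJ C n)) (a b : Fin n) : A.1.1 a b = hf C (A.1.1 *ᵥ bv b) (bv a.rev) := by
  rw [hf_bv_right, Fin.rev_rev, Matrix.mulVec_single_one]
  rfl

theorem eq_one_of_fix {A : ↥(SJ C n)} (h : ∀ i : Fin n, i ≠ i.rev → A.1.1 *ᵥ bv i = (bv i : V)) :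
    A = 1 := by
  have hoff : ∀ a b : Fin n, a ≠ b → A.1.1 a b = 0 := by
    intro a b hab
    by_cases hb : b = b.rev
    · have ha : a ≠ a.rev := fun e => hab (Fin.ext (by
        have := congrArg Fin.val e; have := congrArg Fin.val hb
        simp [Fin.val_rev] at *; omega))
      rw [apply_eq_hf, ← h a.rev (by rw [Fin.rev_rev]; exact ha.symm), hf_sj, hf_bv, if_neg]
      exact fun e => hab (Fin.rev_injective e)
    · have := congrFun (h b hb) a
      rw [Matrix.mulVec_single_one] at this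
      simpa [hab] using this
  have hd : A.1.1 = Matrix.diagonal (fun i => A.1.1 i i) := by
    ext a b
    by_cases e : a = b
    · subst e; simp
    · rw [hoff a b e, Matrix.diagonal_apply_ne _ e]
  have hdiag : ∀ i, i ≠ i.rev → A.1.1 i i = 1 := fun i hi => by
    have := congrFun (h i hi) i
    rw [Matrix.mulVec_single_one] at this
    simpa using this
  have hdet := A.1.2
  rw [hd, Matrix.det_diagonal] at hdet
  refine Subtype.ext (Subtype.ext ?_)
  rw [hd]
  show Matrix.diagonal _ = (1 : MM)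
  rw [← Matrix.diagonal_one]
  congr 1
  funext i
  by_cases hi : i = i.rev
  · rwa [Finset.prod_eq_single i (fun j _ hji => hdiag j fun e => hji (Fin.ext (by
      have := congrArg Fin.val e; have := congrArg Fin.val hi
      simp [Fin.val_rev] at *; omega))) (fun hh => absurd (Finset.mem_univ i) hh)] at hdet
  · exact hdiag i hi

variable (C) [Finite F]

/-- The unitriangular subgroup. -/
def uu (n : ℕ) : Subgroup ↥(SJ C n) := (unitri (n := n) (F := F)).subgroupOf (SJ C n)

variable {C}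

theorem mem_uu {A : ↥(SJ C n)} :
    A ∈ uu C n ↔ (∀ a b : Fin n, b < a → A.1.1 a b = 0) ∧ ∀ a, A.1.1 a a = 1 := by
  rw [uu, Subgroup.mem_subgroupOf, mem_unitri]
  rfl

/-- A root element of a lower vector lies in the unitriangular group. -/
theorem ee_mem_uu {e v : V} {t : F} (h : Adm C e v t) (k : Fin n) (hk : k < k.rev)
    (he : ∀ i, k < i → e i = 0) (hv : ∀ i, k.rev ≤ i → v i = 0)
    (hek : ∀ i, i < k → e i = 0) (hv' : ∀ i, i ≤ k → v i = 0) : ee h ∈ uu C n := by
  have hcol : ∀ a b, (ee h).1.1 a b = (if a = b then 1 else 0) + C.bar (e b.rev) * v a +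
      (t * C.bar (e b.rev) - C.bar (v b.rev)) * e a := by
    intro a b
    have h1 := congrFun (ee_mulVec h (bv b)) a
    rw [Matrix.mulVec_single_one, hf_bv_left, hf_bv_left] at h1
    rw [show (ee h).1.1 a b = _ from h1]
    simp [Pi.single_apply]
  refine mem_uu.2 ⟨fun a b hab => ?_, fun a => ?_⟩
  · rw [hcol, if_neg hab.ne', zero_add]
    by_cases hb : b.rev = k
    · have hb' : b = k.rev := by rw [← hb, Fin.rev_rev]
      rw [hv a (hb' ▸ hab.le), he a (lt_trans hk (hb' ▸ hab))]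
      ring
    · have h0 : e b.rev = 0 := by
        rcases lt_or_gt_of_ne hb with h' | h'
        · exact hek _ h'
        · exact he _ h'
      rw [h0, map_zero, zero_mul, mul_zero, zero_sub, zero_add]
      rcases lt_trichotomy k a with h' | h' | h'
      · rw [he a h', mul_zero]
      · rw [hv b.rev (Fin.rev_le_rev.2 (le_of_lt (h' ▸ hab))), map_zero, neg_zero, zero_mul]
      · rw [hek a h', mul_zero]
  · rw [hcol, if_pos rfl]
    by_cases ha : a.rev = k
    · have ha' : a = k.rev := by rw [← ha, Fin.rev_rev]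
      rw [hv a ha'.ge, he a (ha' ▸ hk)]
      ring
    · have h0 : e a.rev = 0 := by
        rcases lt_or_gt_of_ne ha with h' | h'
        · exact hek _ h'
        · exact he _ h'
      rcases eq_or_ne a k with rfl | h'
      · rw [h0, hv a.rev le_rfl, map_zero]
        ring
      · have : e a = 0 := by
          rcases lt_or_gt_of_ne h' with h'' | h''
          · exact hek _ h''
          · exact he _ h''
        rw [h0, this, map_zero]
        ring

theorem ee_bv_mem_uu {v : V} {t : F} {k : Fin n} (h : Adm C (bv k) v t) (hk : k < k.rev)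
    (hv : ∀ i, i ≤ k ∨ k.rev ≤ i → v i = 0) : ee h ∈ uu C n :=
  ee_mem_uu h k hk (fun i hi => Pi.single_eq_of_ne hi.ne' _) (fun i hi => hv i (Or.inr hi))
    (fun i hi => Pi.single_eq_of_ne hi.ne _) (fun i hi => hv i (Or.inl hi))

theorem adm_bv {k : Fin n} (hk : k ≠ k.rev) {v : V} (hv : v k.rev = 0) {t : F}
    (ht : t + C.bar t + hf C v v = 0) : Adm C (bv k) v t :=
  ⟨by rw [hf_bv, if_neg hk], by rw [hf_bv_right, hv], ht⟩

/-- The unitriangular group is generated by the root elements at the basis vectors. -/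
theorem uu_le {H : Subgroup ↥(SJ C n)}
    (hH : ∀ (k : Fin n) (v : V) (t : F) (h : Adm C (bv k) v t), k < k.rev →
      (∀ i, i ≤ k ∨ k.rev ≤ i → v i = 0) → ee h ∈ H) : uu C n ≤ H := by
  classical
  intro X hX
  suffices key : ∀ k : ℕ, ∃ g ∈ H ⊓ uu C n, ∀ j : Fin n, j.val < k → j < j.rev →
      (g * X).1.1 *ᵥ bv j = (bv j : V) ∧ (g * X).1.1 *ᵥ bv j.rev = (bv j.rev : V) by
    obtain ⟨g, hg, hfix⟩ := key n
    have h1 : g * X = 1 := eq_one_of_fix fun i hi => by
      rcases lt_or_gt_of_ne hi with h | h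
      · exact (hfix i i.2 h).1
      · have := (hfix i.rev i.rev.2 (by rwa [Fin.rev_rev])).2
        rwa [Fin.rev_rev] at this
    rw [eq_inv_of_mul_eq_one_right h1]
    exact inv_mem (Subgroup.mem_inf.1 hg).1
  intro k
  induction k with
  | zero => exact ⟨1, one_mem _, fun j hj => absurd hj (Nat.not_lt_zero _)⟩
  | succ k ih =>
    obtain ⟨g, hg, hfix⟩ := ih
    by_cases hk : ∃ h : k < n, (⟨k, h⟩ : Fin n) < (⟨k, h⟩ : Fin n).rev
    swap
    · refine ⟨g, hg, fun j hj hjr => hfix j ?_ hjr⟩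
      rcases Nat.lt_succ_iff_lt_or_eq.1 hj with h | h
      · exact h
      · exact absurd ⟨h ▸ j.2, by subst h; exact hjr⟩ hk
    obtain ⟨hkn, hklt⟩ := hk
    set l : Fin n := ⟨k, hkn⟩
    obtain ⟨Y, hYdef⟩ : ∃ Y, g * X = Y := ⟨_, rfl⟩
    rw [hYdef] at hfix
    obtain ⟨hY1, hY2⟩ := mem_uu.1 (hYdef ▸ mul_mem (Subgroup.mem_inf.1 hg).2 hX : Y ∈ uu C n)
    -- components outside the middle block
    have hout : ∀ (a b : Fin n), a < l → (b = l ∨ b = l.rev) → Y.1.1 a b = 0 := by
      intro a b ha hb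
      have ha' : a < a.rev := lt_trans ha (lt_trans hklt (Fin.rev_lt_rev.2 ha))
      rw [apply_eq_hf, ← (hfix a ha ha').2, hf_sj, hf_bv, if_neg]
      intro e
      have e' := Fin.rev_injective e
      rcases hb with rfl | rfl
      · exact ha.ne e'
      · exact (lt_trans ha hklt).ne e'
    have hcol : Y.1.1 *ᵥ bv l = (bv l : V) := by
      funext a
      rw [Matrix.mulVec_single_one, Matrix.col_apply]
      rcases lt_trichotomy a l with h | h | h
      · rw [hout a l h (Or.inl rfl), bv_ne h.ne]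
      · rw [h, hY2, bv_same]
      · rw [hY1 a l h, bv_ne h.ne']
    set v : V := fun a => if l < a ∧ a < l.rev then Y.1.1 a l.rev else 0 with hv
    set t : F := Y.1.1 l l.rev with ht
    have hv0 : ∀ i, i ≤ l ∨ l.rev ≤ i → v i = 0 := fun i hi => by
      rw [hv]; simp only
      rw [if_neg]
      rintro ⟨h1, h2⟩
      rcases hi with h | h
      · exact absurd h1 h.not_gt
      · exact absurd h2 h.not_gt
    have hcolr : Y.1.1 *ᵥ bv l.rev = bv l.rev + v + t • (bv l : V) := by
      funext a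
      rw [Matrix.mulVec_single_one, Matrix.col_apply, Pi.add_apply, Pi.add_apply, Pi.smul_apply]
      rcases lt_trichotomy a l with h | h | h
      · rw [hout a l.rev h (Or.inr rfl), hv0 a (Or.inl h.le), bv_ne h.ne,
          bv_ne (lt_trans h hklt).ne]
        simp
      · subst h
        rw [hv0 l (Or.inl le_rfl), bv_same, bv_ne hklt.ne]
        simp [ht]
      rw [bv_ne h.ne']
      rcases lt_trichotomy a l.rev with h' | h' | h'
      · rw [bv_ne h'.ne, hv]; simp [h, h']
      · rw [h', hY2, hv0 _ (Or.inr le_rfl), bv_same]; simp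
      · rw [hY1 a l.rev h', hv0 a (Or.inr h'.le), bv_ne h'.ne']; simp
    have hadm : Adm C (bv l) v t := adm_bv hklt.ne (hv0 _ (Or.inr le_rfl)) (by
      have h1 := hf_sj Y (bv l.rev) (bv l.rev)
      rw [hcolr] at h1
      simp only [hf_add_left, hf_add_right, hf_smul_left, hf_smul_right] at h1
      simp only [hf_bv, hf_bv_right, hf_bv_left, bv_ne hklt.ne, bv_ne hklt.ne', bv_same,
        Fin.rev_rev, hv0 l (Or.inl le_rfl), hv0 l.rev (Or.inr le_rfl), map_zero, if_pos,
        if_neg hklt.ne, if_neg hklt.ne'] at h1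
      linear_combination h1)
    refine ⟨(ee hadm)⁻¹ * g, mul_mem (inv_mem ⟨hH l v t hadm hklt hv0, ee_bv_mem_uu hadm hklt hv0⟩) hg,
      fun j hj hjr => ?_⟩
    rw [mul_assoc, hYdef, sj_mul_mulVec, sj_mul_mulVec]
    rcases Nat.lt_succ_iff_lt_or_eq.1 hj with h | h
    · have hjl : j < l := h
      have hjlr : j < l.rev := lt_trans hjl hklt
      have hljr : l.rev < j.rev := Fin.rev_lt_rev.2 hjl
      rw [(hfix j h hjr).1, (hfix j h hjr).2, ee_inv]
      refine ⟨ee_fix _ ?_ ?_, ee_fix _ ?_ ?_⟩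
      · rw [hf_bv, if_neg]
        exact (lt_trans hklt hljr).ne
      · rw [hf_neg_right, hf_bv_left, hv0 _ (Or.inr hljr.le), map_zero, neg_zero]
      · rw [hf_bv, Fin.rev_rev, if_neg hjl.ne']
      · rw [hf_neg_right, hf_bv_left, Fin.rev_rev, hv0 _ (Or.inl hjl.le), map_zero, neg_zero]
    · obtain rfl : j = l := Fin.ext h
      rw [hcol, hcolr]
      refine ⟨?_, ?_⟩
      · have h3 := sj_inv_mulVec (ee hadm) (bv l)
        rwa [ee_self] at h3
      · have h2 : (ee hadm).1.1 *ᵥ bv l.rev = bv l.rev + v + t • (bv l : V) := by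
          rw [ee_mulVec, hf_bv, Fin.rev_rev, if_pos rfl, hf_bv_left, Fin.rev_rev, hv0 l (Or.inl le_rfl),
            map_zero, sub_zero, mul_one, one_smul]
        rw [← h2, sj_inv_mulVec]

end CfsgLib.FusionCharP.Unitary
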